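import Cfsg.Agent.Lib.AutPSU.Final
import Cfsg.Agent.Lib.AutPSL.Outer
import Cfsg.Agent.Lib.AutPSL.Descent

/-!
The outer automorphism group of `PSU n`.
-/

set_option autoImplicit false

namespace Cfsg.Agent.AutPSU

open Matrix

variable {F : Type*} [Field F] {n q : ℕ}

local notation "Vn" => Fin n → F
local notation "Mn" => Matrix (Fin n) (Fin n) F
local notation "SUn" => Cfsg.SU n F q
local notation "GUn" => Cfsg.GU n F q
local notation "PSUn" => Cfsg.PSU n F q

/-- The norm-one units. -/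
abbrev N1 (C : Conj F q) : Subgroup Fˣ := HermSU.normOne C.σ.toRingHom

theorem mapGU_coe (τ : F ≃+* F) (g : GUn) :
    ((mapGU τ g : GUn) : GL (Fin n) F) = AutPSL.mapGL τ (g : GL (Fin n) F) := rfl

theorem mapGU_mul (τ : F ≃+* F) (g g' : GUn) : mapGU τ (g * g') = mapGU τ g * mapGU τ g' :=
  Subtype.ext (map_mul (AutPSL.mapGL τ) _ _)

theorem mapGU_one (g : GUn) : mapGU 1 g = g := Subtype.ext (AutPSL.mapGL_one _)

theorem mapGU_one' (τ : F ≃+* F) : mapGU τ (1 : GUn) = 1 := Subtype.ext (map_one (AutPSL.mapGL τ))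

theorem mapGU_comp (τ τ' : F ≃+* F) (g : GUn) : mapGU (τ * τ') g = mapGU τ (mapGU τ' g) :=
  Subtype.ext (AutPSL.mapGL_mul _ _ _)

theorem semi_mul_one (g g' : GUn) (τ : F ≃+* F) :
    (semi g 1 * semi g' τ : MulAut PSUn) = semi (g * g') τ := by
  rw [semi_mul, mapGU_one, one_mul]

/-- The action of `GU` on `PSU`. -/
noncomputable def conjHom : GUn →* MulAut PSUn :=
  MonoidHom.mk' (fun g => semi g 1) fun g g' => (semi_mul_one g g' 1).symm

theorem conjHom_apply (g : GUn) : (conjHom g : MulAut PSUn) = semi g 1 := rfl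

theorem semi_decomp (g : GUn) (τ : F ≃+* F) : (semi g τ : MulAut PSUn) = semi g 1 * semi 1 τ := by
  rw [semi_mul_one, mul_one]

/-- Scalars of norm one. -/
def scU (C : Conj F q) : N1 C →* GUn :=
  ((Matrix.GeneralLinearGroup.scalar (Fin n)).comp (N1 C).subtype).codRestrict _ fun a => by
    intro u v
    have e : ∀ x : Vn, ((Matrix.GeneralLinearGroup.scalar (Fin n) (a : Fˣ) : GL (Fin n) F) : Mn) *ᵥ x =
        ((a : Fˣ) : F) • x := fun x => by
      show Matrix.scalar (Fin n) ((a : Fˣ) : F) *ᵥ x = _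
      rw [Matrix.scalar_apply, ← Matrix.smul_one_eq_diagonal, Matrix.smul_mulVec, Matrix.one_mulVec]
    refine (congrArg₂ (h (q := q)) (e u) (e v)).trans ?_
    rw [smul_left C, smul_right C, ← mul_assoc, show ((a : Fˣ) : F) * C.σ (a : Fˣ) = 1 from a.2,
      one_mul]

theorem scU_coe (C : Conj F q) (a : N1 C) : ((scU C a : GUn) : GL (Fin n) F) =
    Matrix.GeneralLinearGroup.scalar (Fin n) (a : Fˣ) := rfl

theorem scU_comm (C : Conj F q) (a : N1 C) (g : GUn) : scU C a * g = g * scU C a :=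
  Subtype.ext (AutPSL.scalar_comm _ _)

theorem scU_mulVec (C : Conj F q) (a : N1 C) (x : Vn) :
    (((scU C a : GUn) : GL (Fin n) F) : Mn) *ᵥ x = ((a : Fˣ) : F) • x := by
  show Matrix.scalar (Fin n) ((a : Fˣ) : F) *ᵥ x = _
  rw [Matrix.scalar_apply, ← Matrix.smul_one_eq_diagonal, Matrix.smul_mulVec, Matrix.one_mulVec]

theorem inner_eq_semi (s : SUn) :
    (MulAut.conj (QuotientGroup.mk s : PSUn) : MulAut PSUn) =
      semi (⟨_, HermSU.toGL_mem_GU s⟩ : GUn) 1 := MulEquiv.ext fun x => by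
  induction x using QuotientGroup.induction_on with
  | _ t =>
    rw [MulAut.conj_apply, ← QuotientGroup.mk_inv, ← QuotientGroup.mk_mul, ← QuotientGroup.mk_mul,
      semi_mk]
    refine congrArg QuotientGroup.mk (Subtype.ext (Subtype.ext ?_))
    rw [suConj_coe]
    simp only [Subgroup.coe_mul, Subgroup.coe_inv, Matrix.SpecialLinearGroup.coe_mul]
    rw [← map_inv]
    rfl

theorem inn_le_range : Cfsg.Inn PSUn ≤ (conjHom : GUn →* MulAut PSUn).range := by
  rintro _ ⟨x, rfl⟩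
  obtain ⟨s, rfl⟩ := QuotientGroup.mk_surjective x
  exact ⟨_, (inner_eq_semi s).symm⟩

theorem range_conjHom : (conjHom : GUn →* MulAut PSUn).range = Cfsg.inndiagPSU n F q := by
  refine le_antisymm ?_ (by
    rw [Cfsg.inndiagPSU, Cfsg.autSubgroupOf, Subgroup.closure_le]
    rintro β ⟨g, hg, hβ⟩
    refine ⟨⟨g, hg⟩, (semi_eq_of_induced ⟨g, hg⟩ 1 fun s s' hs => hβ s s' (hs.trans ?_)).symm⟩
    simp)
  rintro _ ⟨g, rfl⟩
  exact Subgroup.subset_closure ⟨g, g.2, fun s s' hs => induced_semi g 1 s s' (hs.trans (by simp))⟩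

theorem mem_inndiag {δ : MulAut PSUn} :
    δ ∈ Cfsg.inndiagPSU n F q ↔ ∃ g : GUn, δ = semi g 1 := by
  rw [← range_conjHom]
  exact ⟨fun ⟨g, hg⟩ => ⟨g, hg.symm⟩, fun ⟨g, hg⟩ => ⟨g, hg.symm⟩⟩

section semi_eq

variable (C : Conj F q) [Fintype F] (hn : 3 ≤ n) (hF : Fintype.card F = q ^ 2)
include C hn hF

theorem semi_eq_one_iff' {g : GUn} {τ : F ≃+* F} :
    (semi g τ : MulAut PSUn) = 1 ↔ τ = 1 ∧ ∃ a : N1 C, g = scU C a := by
  rw [semi_eq_one_iff hn hF]
  constructor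
  · rintro ⟨rfl, a, ha⟩
    refine ⟨rfl, ?_⟩
    obtain ⟨i, -⟩ : ∃ i : Fin n, i.val = 0 := ⟨⟨0, by omega⟩, rfl⟩
    have hs : h (q := q) (Pi.single i (1 : F) : Vn) (Pi.single i 1) = 1 := by
      rw [h, HermStd.hermForm_single (σ := C.σ.toRingHom) C.apply_eq, if_pos rfl]
    have e : a * C.σ a = 1 := by
      have e1 : h (q := q) (((g : GL (Fin n) F) : Mn) *ᵥ (Pi.single i (1 : F)))
          (((g : GL (Fin n) F) : Mn) *ᵥ (Pi.single i (1 : F))) = _ := g.2 _ _
      rw [ha, smul_left C, smul_right C] at e1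
      simpa [show Cfsg.hermForm n F q (Pi.single i (1 : F)) (Pi.single i 1) = 1 from hs, hs] using e1
    have ha0 : a ≠ 0 := fun e0 => by simp [e0] at e
    refine ⟨⟨Units.mk0 a ha0, e⟩, Subtype.ext (Units.ext (Matrix.ext_of_mulVec_single fun j => ?_))⟩
    rw [ha, scU_mulVec]
    rfl
  · rintro ⟨rfl, a, rfl⟩
    exact ⟨rfl, _, scU_mulVec C a⟩

theorem semi_eq_semi {g g' : GUn} {τ τ' : F ≃+* F} :
    (semi g τ : MulAut PSUn) = semi g' τ' ↔ τ = τ' ∧ ∃ a : N1 C, g = scU C a * g' := by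
  constructor
  · intro e
    obtain ⟨g'', hg''⟩ := semi_inverse g' τ'
    have h1 : (semi (g'' * mapGU τ'⁻¹ g) (τ'⁻¹ * τ) : MulAut PSUn) = 1 := by
      rw [← semi_mul, e, hg'']
    obtain ⟨hτ, -⟩ := (semi_eq_one_iff' C hn hF).1 h1
    obtain rfl : τ' = τ := inv_mul_eq_one.1 hτ
    rw [semi_decomp g, semi_decomp g', mul_left_inj, ← conjHom_apply, ← conjHom_apply,
      ← mul_inv_eq_one, ← map_inv, ← map_mul, conjHom_apply] at e
    obtain ⟨-, a, ha⟩ := (semi_eq_one_iff' C hn hF).1 e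
    exact ⟨rfl, a, mul_inv_eq_iff_eq_mul.1 ha⟩
  · rintro ⟨rfl, a, rfl⟩
    rw [← semi_mul_one, (semi_eq_one_iff' C hn hF).2 ⟨rfl, a, rfl⟩, one_mul]

theorem semi_one_injective {τ τ' : F ≃+* F} (e : (semi 1 τ : MulAut PSUn) = semi 1 τ') : τ = τ' :=
  ((semi_eq_semi C hn hF).1 e).1

omit hn hF [Fintype F] in
theorem det_scU (a : N1 C) :
    HermSU.detHom (n := n) (σ := C.σ.toRingHom) C.apply_eq (scU C a) = a ^ n :=
  Subtype.ext (Units.ext (by
    show (Matrix.scalar (Fin n) ((a : Fˣ) : F)).det = _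
    simp))

theorem semi_mem_inn (g : GUn) :
    (semi g 1 : MulAut PSUn) ∈ Cfsg.Inn PSUn ↔
      HermSU.detHom (n := n) (σ := C.σ.toRingHom) C.apply_eq g ∈ (powMonoidHom n : N1 C →* N1 C).range := by
  constructor
  · rintro ⟨x, hx⟩
    obtain ⟨s, rfl⟩ := QuotientGroup.mk_surjective x
    rw [inner_eq_semi] at hx
    obtain ⟨-, a, ha⟩ := (semi_eq_semi C hn hF).1 hx.symm
    refine ⟨a, ?_⟩
    rw [ha, map_mul, det_scU, powMonoidHom_apply,
      show HermSU.detHom (σ := C.σ.toRingHom) C.apply_eq (⟨_, HermSU.toGL_mem_GU s⟩ : GUn) = 1 from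
        Subtype.ext (Units.ext (s : Matrix.SpecialLinearGroup (Fin n) F).2), mul_one]
  · rintro ⟨a, ha⟩
    rw [powMonoidHom_apply] at ha
    have hd : (((scU C a⁻¹ * g : GUn) : GL (Fin n) F) : Mn).det = 1 := by
      have : HermSU.detHom (n := n) (σ := C.σ.toRingHom) C.apply_eq (scU C a⁻¹ * g) = 1 := by
        rw [map_mul, det_scU, ← ha, inv_pow, inv_mul_cancel]
      exact congrArg (fun u : N1 C => ((u : Fˣ) : F)) this
    refine ⟨QuotientGroup.mk (⟨⟨_, hd⟩, (scU C a⁻¹ * g).2⟩ : SUn), ?_⟩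
    rw [inner_eq_semi, semi_eq_semi C hn hF]
    exact ⟨rfl, a⁻¹, Subtype.ext (Units.ext rfl)⟩

theorem card_inn : Nat.card (Cfsg.Inn PSUn) = Nat.card PSUn := by
  refine (Nat.card_congr (MonoidHom.ofInjective ((injective_iff_map_eq_one _).2 fun x hx => ?_)).toEquiv).symm
  obtain ⟨s, rfl⟩ := QuotientGroup.mk_surjective x
  rw [inner_eq_semi, semi_eq_one_iff hn hF] at hx
  obtain ⟨-, a, ha⟩ := hx
  exact (QuotientGroup.eq_one_iff s).2 ((mem_center_iff C (by omega) hF s).2 ⟨a, ha⟩)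

theorem card_N1 : Nat.card (N1 C) = q + 1 := by
  have hne : C.σ.toRingHom ≠ RingHom.id F := fun e => by
    obtain ⟨μ, hμ⟩ := C.ne_one
    exact hμ (RingHom.congr_fun e μ)
  refine HermSU.card_normOne hne C.invol ?_
  refine Nat.pow_left_injective two_ne_zero ?_
  show Nat.card (Hermitian.fixed C.σ.toRingHom) ^ 2 = q ^ 2
  rw [← Hermitian.card_eq_sq hne C.invol, Nat.card_eq_fintype_card, hF]

theorem exists_outer_hom (hs : ¬ (n = 3 ∧ q = 2)) :
    ∃ φ : Cfsg.Out PSUn →* (F ≃+* F), Function.Surjective φ ∧ IsCyclic φ.ker ∧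
      Nat.card φ.ker = Nat.gcd n (q + 1) := by
  classical
  choose g fld hfld using fun β : MulAut PSUn => exists_semi' hn hF hs β
  have huniq : ∀ g' τ, fld (semi g' τ) = τ := fun g' τ =>
    ((semi_eq_semi C hn hF).1 (hfld (semi g' τ))).1.symm
  let Φ : MulAut PSUn →* (F ≃+* F) := MonoidHom.mk' fld fun β γ => by
    conv_lhs => rw [hfld β, hfld γ, semi_mul, huniq]
  have hinn : Cfsg.Inn PSUn ≤ Φ.ker := by
    rintro _ ⟨x, rfl⟩
    obtain ⟨s, rfl⟩ := QuotientGroup.mk_surjective x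
    rw [MonoidHom.mem_ker, inner_eq_semi]
    exact huniq _ _
  obtain ⟨φ, hφ⟩ : ∃ φ : Cfsg.Out PSUn →* (F ≃+* F), ∀ β, φ (QuotientGroup.mk β) = fld β :=
    ⟨QuotientGroup.lift _ Φ hinn, fun β => rfl⟩
  refine ⟨φ, fun τ => ⟨QuotientGroup.mk (semi 1 τ), by rw [hφ, huniq]⟩, ?_⟩
  let D : GUn →* N1 C ⧸ (powMonoidHom n : N1 C →* N1 C).range :=
    (QuotientGroup.mk' _).comp (HermSU.detHom (n := n) (σ := C.σ.toRingHom) C.apply_eq)
  let Ψ : GUn →* Cfsg.Out PSUn := (QuotientGroup.mk' _).comp conjHom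
  have hker : Ψ.ker = D.ker := by
    ext g
    rw [MonoidHom.mem_ker, MonoidHom.mem_ker]
    show (QuotientGroup.mk (semi g 1) : MulAut PSUn ⧸ Cfsg.Inn PSUn) = 1 ↔
      (QuotientGroup.mk (HermSU.detHom (σ := C.σ.toRingHom) C.apply_eq g) : N1 C ⧸ _) = 1
    rw [QuotientGroup.eq_one_iff, QuotientGroup.eq_one_iff, semi_mem_inn C hn hF]
  have hrange : φ.ker = Ψ.range := by
    ext x
    induction x using QuotientGroup.induction_on with
    | _ β =>
      constructor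
      · intro hx
        rw [MonoidHom.mem_ker, hφ] at hx
        refine ⟨g β, ?_⟩
        show QuotientGroup.mk (semi (g β) 1) = _
        conv_rhs => rw [hfld β, hx]
      · rintro ⟨g', hg'⟩
        rw [← hg', MonoidHom.mem_ker]
        show φ (QuotientGroup.mk (semi g' 1)) = 1
        rw [hφ, huniq]
  have hsurj : Function.Surjective D :=
    (QuotientGroup.mk'_surjective _).comp (HermSU.detHom_surjective C.apply_eq (by omega))
  let e : φ.ker ≃* N1 C ⧸ (powMonoidHom n : N1 C →* N1 C).range :=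
    ((MulEquiv.subgroupCongr hrange).trans (QuotientGroup.quotientKerEquivRange Ψ).symm).trans
      ((QuotientGroup.quotientMulEquivOfEq hker).trans
        (QuotientGroup.quotientKerEquivOfSurjective D hsurj))
  refine ⟨isCyclic_of_surjective (e.symm.toMonoidHom.comp (QuotientGroup.mk' _))
    (e.symm.surjective.comp (QuotientGroup.mk'_surjective _)), ?_⟩
  rw [Nat.card_congr e.toEquiv, ← Subgroup.index_eq_card]
  have h1 := Subgroup.card_mul_index (powMonoidHom n : N1 C →* N1 C).ker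
  rw [Subgroup.index_ker] at h1
  have h2 := Subgroup.card_mul_index (powMonoidHom n : N1 C →* N1 C).range
  rw [← h1, mul_comm (Nat.card (powMonoidHom n : N1 C →* N1 C).ker)] at h2
  rw [Nat.eq_of_mul_eq_mul_left Nat.card_pos h2, IsCyclic.card_powMonoidHom_ker,
    card_N1 C hn hF, Nat.gcd_comm]

end semi_eq

end Cfsg.Agent.AutPSU
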