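import Cfsg.Agent.Lib.AutPSU.GraphInv

/-!
Involutory graph automorphisms of `PSU_n`: classes and centralisers.
-/

set_option autoImplicit false

namespace Cfsg.Agent.AutPSU

open Matrix
open Cfsg
open Cfsg.Agent.SimForms (Cong GSim)

variable {F : Type*} [Field F] {n q : ℕ} {F₀ : Type*} [Field F₀]

local notation "Mn" => Matrix (Fin n) (Fin n) F
local notation "M0" => Matrix (Fin n) (Fin n) F₀
local notation "GUn" => Cfsg.GU n F q
local notation "GLn" => GL (Fin n) F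
local notation "PSUn" => Cfsg.PSU n F q

variable [Fintype F]

theorem smul_of_scalar {g g' : Cfsg.GU n F q} (a : F) (h : mat g = a • mat g') (τ : F ≃+* F) :
    (semi g τ : MulAut PSUn) = semi g' τ := by
  have h1 : (semi (g * g'⁻¹) 1 : MulAut PSUn) = 1 := by
    refine semi_scalar _ a fun x => ?_
    show mat (g * g'⁻¹) *ᵥ x = _
    rw [mat_mul, h, Matrix.smul_mul, ← mat_mul, mul_inv_cancel, Matrix.smul_mulVec]
    show a • ((1 : Mn) *ᵥ x) = _
    rw [Matrix.one_mulVec]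
  conv_lhs => rw [← inv_mul_cancel_right g g', ← semi_mul_one, h1, one_mul]

theorem semi_iff (C : Conj F q) (hn : 3 ≤ n) (hF : Fintype.card F = q ^ 2) {g g' : Cfsg.GU n F q}
    {τ : F ≃+* F} : (semi g τ : MulAut PSUn) = semi g' τ ↔ ∃ a : F, mat g = a • mat g' := by
  refine ⟨fun h => ?_, fun ⟨a, ha⟩ => smul_of_scalar a ha τ⟩
  obtain ⟨-, a, ha⟩ := (semi_eq_semi C hn hF).1 h
  refine ⟨((a : Fˣ) : F), ?_⟩
  rw [ha, mat_mul]
  show Matrix.scalar (Fin n) ((a : Fˣ) : F) * mat g' = _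
  rw [Matrix.scalar_apply, ← Matrix.smul_one_eq_diagonal, smul_mul_assoc, one_mul]

/-- The graph automorphism attached to a unitary matrix. -/
noncomputable abbrev grfU (C : Conj F q) (g : Cfsg.GU n F q) : MulAut PSUn := semi g C.σ

theorem twist_iff (C : Conj F q) (hn : 3 ≤ n) (hF : Fintype.card F = q ^ 2) (M g g' : Cfsg.GU n F q) :
    (semi M 1 : MulAut PSUn) * grfU C g' = grfU C g * semi M 1 ↔
      ∃ a : F, mat M * mat g' = a • (mat g * (mat M).map C.σ) := by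
  rw [grfU, grfU, semi_mul_one, semi_mul, mul_one, semi_iff C hn hF, mat_mul, mat_mul, mat_mapGU]

theorem sigma_orderOf (C : Conj F q) : orderOf C.σ = 2 := by
  refine orderOf_eq_prime (RingEquiv.ext fun x => ?_) fun h => ?_
  · rw [pow_two]; exact C.invol x
  · obtain ⟨μ, hμ⟩ := C.ne_one
    exact hμ (RingEquiv.congr_fun h μ)

theorem sigma_unique (C : Conj F q) {τ : F ≃+* F} (h : τ ^ 2 = 1) (h1 : τ ≠ 1) : τ = C.σ := by
  classical
  obtain ⟨p, hp⟩ := CharP.exists F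
  obtain ⟨f, hpp, hpf⟩ := FiniteField.card F p
  haveI : Fact p.Prime := ⟨hpp⟩
  obtain ⟨e⟩ := AutPSL.exists_ringAut_equiv (F := F) p f hpf
  haveI : Finite (F ≃+* F) := Finite.of_injective (fun e : F ≃+* F => (e : F → F)) DFunLike.coe_injective
  haveI : Fintype (F ≃+* F) := Fintype.ofFinite _
  haveI : IsCyclic (F ≃+* F) := isCyclic_of_surjective e.symm.toMonoidHom e.symm.surjective
  by_contra hne
  have h3 : ({1, τ, C.σ} : Finset (F ≃+* F)).card = 3 := by
    rw [Finset.card_insert_of_notMem, Finset.card_pair hne]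
    simp only [Finset.mem_insert, Finset.mem_singleton, not_or]
    exact ⟨Ne.symm h1, fun e => orderOf_eq_one_iff.2 e.symm |>.symm.trans (sigma_orderOf C) |>
      fun h => by omega⟩
  have hsub : ({1, τ, C.σ} : Finset (F ≃+* F)) ⊆ Finset.univ.filter fun x => x ^ 2 = 1 := by
    intro x hx
    rw [Finset.mem_filter]
    refine ⟨Finset.mem_univ _, ?_⟩
    simp only [Finset.mem_insert, Finset.mem_singleton] at hx
    rcases hx with rfl | rfl | rfl
    · exact one_pow _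
    · exact h
    · rw [← sigma_orderOf C]; exact pow_orderOf_eq_one _
  have := (Finset.card_le_card hsub).trans (IsCyclic.card_pow_eq_one_le (by norm_num))
  omega

omit [Fintype F] in
theorem mat_sq (C : Conj F q) (g : Cfsg.GU n F q) :
    (mat g).map C.σ * (mat g)ᵀ = 1 := mul_eq_one_comm.1 (gu_mul C g)

theorem exists_grfU (C : Conj F q) (hn : 3 ≤ n) (hF : Fintype.card F = q ^ 2) {γ : MulAut PSUn}
    (hγ : Cfsg.IsGraphAutClassPSU γ) (h2 : orderOf γ = 2) :
    ∃ g : Cfsg.GU n F q, γ = grfU C g ∧ ((mat g)ᵀ = mat g ∨ (mat g)ᵀ = -mat g) := by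
  obtain ⟨-, δ, φ, τ, hτ, ⟨g, hg, hδ⟩, hφ, rfl⟩ := hγ
  have hδ' : δ = semi ⟨g, hg⟩ 1 :=
    semi_eq_of_induced ⟨g, hg⟩ 1 fun s s' hs => hδ s s' (hs.trans (by simp))
  have hφ' : φ = semi 1 τ := semi_eq_of_induced 1 τ fun s s' hs => hφ s s' (hs.trans (by simp))
  rw [hδ', hφ', semi_mul_one, mul_one] at h2 ⊢
  obtain ⟨g', hgdef⟩ : ∃ g' : GUn, g' = ⟨g, hg⟩ := ⟨_, rfl⟩
  rw [← hgdef] at h2 ⊢
  have hsq : (semi g' τ : MulAut PSUn) ^ 2 = 1 := h2 ▸ pow_orderOf_eq_one _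
  rw [pow_two, semi_mul, ← semi_one] at hsq
  obtain ⟨hττ, -⟩ := (semi_eq_semi C hn hF).1 hsq
  have hτ1 : τ ≠ 1 := fun e => by rw [e, orderOf_one] at hτ; exact Nat.not_even_one hτ
  obtain rfl := sigma_unique C (by rw [pow_two, hττ]) hτ1
  rw [hττ, semi_iff C hn hF] at hsq
  obtain ⟨a, ha⟩ := hsq
  refine ⟨g', rfl, ?_⟩
  rw [mat_mul, mat_mapGU] at ha
  have e : mat g' = a • (mat g')ᵀ := by
    have := congrArg (· * (mat g')ᵀ) ha
    simp only [Matrix.mul_assoc, mat_sq C, Matrix.mul_one, Matrix.smul_mul] at this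
    refine this.trans ?_
    show a • ((1 : Mn) * (mat g')ᵀ) = _
    rw [Matrix.one_mul]
  haveI : Nonempty (Fin n) := ⟨⟨0, by omega⟩⟩
  have ha0 : a ≠ 0 := fun h0 => mat_ne_zero g' (by rw [e, h0, zero_smul])
  exact AutPSL.sym_or_skew (by omega) (A := (g' : GLn)) (c := Units.mk0 a ha0) e

omit [Fintype F] in
theorem sq_of_symm (C : Conj F q) {g : Cfsg.GU n F q} {ε : F} (h : (mat g)ᵀ = ε • mat g) (hε : ε * ε = 1) :
    mat g * (mat g).map C.σ = ε • (1 : Mn) := by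
  rw [← gu_mul C g, h, Matrix.smul_mul, smul_smul, hε, one_smul]

theorem orderOf_grfU (C : Conj F q) (hn : 3 ≤ n) (hF : Fintype.card F = q ^ 2) {g : Cfsg.GU n F q}
    (h : (mat g)ᵀ = mat g ∨ (mat g)ᵀ = -mat g) : orderOf (grfU C g) = 2 := by
  refine orderOf_eq_prime ?_ fun e => ?_
  · rw [grfU, pow_two, semi_mul, ← semi_one, show C.σ * C.σ = 1 from RingEquiv.ext C.invol,
      semi_iff C hn hF]
    rcases h with h | h
    · exact ⟨1, by rw [mat_mul, mat_mapGU, sq_of_symm C (ε := 1) (by rw [one_smul, h]) (mul_one 1)]; rfl⟩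
    · exact ⟨-1, by
        rw [mat_mul, mat_mapGU, sq_of_symm C (ε := -1) (by rw [neg_one_smul, h]) (by ring)]; rfl⟩
  · obtain ⟨μ, hμ⟩ := C.ne_one
    exact hμ (RingEquiv.congr_fun ((semi_eq_one_iff' C hn hF).1 e).1 μ)

theorem isGraph_grfU (C : Conj F q) (hn : 3 ≤ n) (g : Cfsg.GU n F q) :
    Cfsg.IsGraphAutClassPSU (grfU C g) := by
  refine ⟨hn, semi g 1, semi 1 C.σ, C.σ, by rw [sigma_orderOf C]; exact even_two,
    ⟨(g : GLn), g.2, fun s s' hs => induced_semi g 1 s s' (hs.trans (by simp))⟩,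
    fun s s' hs => induced_semi 1 C.σ s s' (hs.trans (by simp)), semi_decomp g C.σ⟩

/-- Every involutory semilinear map descends. -/
theorem exists_dat {C : Conj F q} (E : Emb C F₀) {g : Cfsg.GU n F q}
    (h : (mat g)ᵀ = mat g ∨ (mat g)ᵀ = -mat g) :
    ∃ H : M0, Nonempty (Dat E H g) ∧
      (((mat g)ᵀ = mat g → Hᵀ = H) ∧ ((mat g)ᵀ = -mat g → Hᵀ = -H)) := by
  obtain ⟨ε, hε, hεε, hg⟩ : ∃ ε : F, (ε = 1 ∨ ε = -1) ∧ ε * ε = 1 ∧ (mat g)ᵀ = ε • mat g := by
    rcases h with h | h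
    · exact ⟨1, Or.inl rfl, one_mul 1, by rw [one_smul, h]⟩
    · exact ⟨-1, Or.inr rfl, by ring, by rw [neg_one_smul, h]⟩
  have hε0 : ε ≠ 0 := left_ne_zero_of_mul_eq_one hεε
  obtain ⟨z, hz⟩ := exists_norm C (x := ε) (by rcases hε with rfl | rfl <;> simp)
  have hz0 : z ≠ 0 := fun e => by rw [e, zero_mul] at hz; exact hε0 hz.symm
  obtain ⟨zu, hzu⟩ : ∃ zu : Fˣ, (zu : F) = z := ⟨Units.mk0 z hz0, rfl⟩
  let g' : GLn := Matrix.GeneralLinearGroup.scalar (Fin n) zu⁻¹ * (g : GLn)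
  have hg' : (g' : Mn) = z⁻¹ • mat g := by
    rw [← hzu]
    show Matrix.scalar (Fin n) ((zu⁻¹ : Fˣ) : F) * mat g = _
    rw [Matrix.scalar_apply, ← Matrix.smul_one_eq_diagonal, smul_mul_assoc, one_mul,
      Units.val_inv_eq_inv_val]
  have htw : AutPSL.twist C.σ g' (orderOf C.σ) = 1 := by
    rw [sigma_orderOf C]
    refine Units.ext ?_
    simp only [AutPSL.twist, _root_.map_one, mul_one, Units.val_mul, AutPSL.mapGL_coe, Units.val_one]
    rw [hg', map_smul', Matrix.smul_mul, Matrix.mul_smul, smul_smul, sq_of_symm C hg hεε, smul_smul,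
      map_inv₀, ← mul_inv, hz, inv_mul_cancel₀ hε0, one_smul]
  obtain ⟨B, hB⟩ := AutPSL.exists_descent C.σ g' (by rw [sigma_orderOf C]; norm_num) htw
  have htwist : mat g * (B : Mn).map C.σ = z • (B : Mn) := by
    have e : (g' : Mn) * (B : Mn).map C.σ = B := congrArg Units.val hB
    rw [hg', Matrix.smul_mul] at e
    conv_rhs => rw [← e, smul_smul, mul_inv_cancel₀ hz0, one_smul]
  obtain ⟨G, hG⟩ : ∃ G : Mn, G = (B : Mn)ᵀ * (B : Mn).map C.σ := ⟨_, rfl⟩
  have hGσ : G.map C.σ = Gᵀ := by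
    rw [hG, Matrix.map_mul, map_map_conj C, Matrix.transpose_map, Matrix.transpose_mul,
      Matrix.transpose_transpose]
  have hσB : (B : Mn).map C.σ = z • (((mat g).map C.σ)ᵀ * (B : Mn)) := by
    rw [← Matrix.mul_smul, ← htwist, ← Matrix.mul_assoc, gu_mul' C, Matrix.one_mul]
  have hGt : Gᵀ = ε • G := by
    have hc : ((mat g).map C.σ)ᵀ = ε • (mat g).map C.σ := by
      rw [← Matrix.transpose_map, hg, map_smul']
      congr 1
      rcases hε with rfl | rfl <;> simp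
    rw [hG, hσB, Matrix.mul_smul, Matrix.transpose_smul, smul_comm ε z]
    congr 1
    rw [Matrix.transpose_mul, Matrix.transpose_mul, Matrix.transpose_transpose,
      Matrix.transpose_transpose, hc, Matrix.smul_mul, Matrix.mul_smul, smul_smul, hεε, one_smul,
      Matrix.mul_assoc]
  obtain ⟨θ, hθ0, hθ⟩ : ∃ θ : F, θ ≠ 0 ∧ C.σ θ = ε * θ := by
    rcases hε with rfl | rfl
    · exact ⟨1, one_ne_zero, by rw [_root_.map_one, one_mul]⟩
    · obtain ⟨μ, hμ⟩ := C.ne_one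
      exact ⟨μ - C.σ μ, sub_ne_zero.2 (Ne.symm hμ), by rw [map_sub, C.invol]; ring⟩
  have hfix : ∀ i j, C.σ (G i j / θ) = G i j / θ := by
    intro i j
    have e : C.σ (G i j) = (ε • G) i j := by rw [← hGt, ← hGσ]; rfl
    rw [map_div₀, e, hθ, Matrix.smul_apply, smul_eq_mul, mul_div_mul_left _ _ hε0]
  choose H hH using fun i j => E.mem _ (hfix i j)
  have hherm : (B : Mn)ᵀ * (B : Mn).map C.σ = θ • (Matrix.of H : M0).map E.ι := by
    rw [← hG]
    ext i j
    rw [Matrix.smul_apply, Matrix.map_apply, Matrix.of_apply, hH, smul_eq_mul, mul_div_cancel₀ _ hθ0]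
  refine ⟨Matrix.of H, ⟨⟨B, θ, z, hθ0, hherm, htwist⟩⟩, fun hs => ?_, fun hs => ?_⟩ <;>
  · refine emb_inj E.ι (smul_right_injective _ hθ0 ?_)
    have e1 : ε • mat g = (mat g)ᵀ := hg.symm
    rw [hs] at e1
    beta_reduce
    have hM : mat g ≠ 0 → _ := fun hne => SimForms.smul_cancel hne
      (show ε • mat g = _ • mat g from e1.trans (by first | exact (one_smul F _).symm | exact (neg_one_smul F _).symm))
    rcases isEmpty_or_nonempty (Fin n) with he | he
    · exact Subsingleton.elim _ _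
    rw [hM (mat_ne_zero g), hG, hherm, Matrix.transpose_smul, ← Matrix.transpose_map] at hGt
    rw [hGt]
    ext i j
    simp

end Cfsg.Agent.AutPSU
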