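import Cfsg.Agent.Lib.AutPSU.GraphInvSplit

/-!
Involutory graph automorphisms of `PSU_n`: comparison with the forms over the small field.
-/

set_option autoImplicit false

namespace Cfsg.Agent.AutPSU

open Matrix
open Cfsg
open Cfsg.Agent.SimForms (Cong GSim)

variable {F : Type*} [Field F] {n q : ℕ} {F₀ : Type*} [Field F₀] [Fintype F]
variable {C : Conj F q}

/-- The form of an involutory graph automorphism. -/
theorem exists_form (E : Emb C F₀) {g : Cfsg.GU n F q}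
    (h : (mat g)ᵀ = mat g ∨ (mat g)ᵀ = -mat g) :
    ∃ A : GL (Fin n) F₀, Nonempty (Dat E (A : Matrix (Fin n) (Fin n) F₀) g) ∧
      ((A : Matrix (Fin n) (Fin n) F₀)ᵀ = (A : Matrix (Fin n) (Fin n) F₀) ∨
        (A : Matrix (Fin n) (Fin n) F₀)ᵀ = -(A : Matrix (Fin n) (Fin n) F₀)) := by
  obtain ⟨H, ⟨d⟩, h1, h2⟩ := exists_dat E h
  exact ⟨d.H_unit.unit, ⟨d⟩, h.imp h1 h2⟩

/-- Each form gives an involutory graph automorphism. -/
theorem exists_rep_of_form [Finite F₀] (E : Emb C F₀) (hn : 3 ≤ n) (hF : Fintype.card F = q ^ 2)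
    {A : GL (Fin n) F₀}
    (h : (A : Matrix (Fin n) (Fin n) F₀)ᵀ = (A : Matrix (Fin n) (Fin n) F₀) ∨
        (A : Matrix (Fin n) (Fin n) F₀)ᵀ = -(A : Matrix (Fin n) (Fin n) F₀)) :
    ∃ g : Cfsg.GU n F q, Nonempty (Dat E (A : Matrix (Fin n) (Fin n) F₀) g) ∧
      Cfsg.IsGraphAutClassPSU (grfU C g) ∧ orderOf (grfU C g) = 2 := by
  obtain ⟨g, hd, hg⟩ := exists_of_form E A.isUnit h
  exact ⟨g, hd, isGraph_grfU C hn g, orderOf_grfU C hn hF hg⟩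

variable {E : Emb C F₀} {g g' : Cfsg.GU n F q} (hn : 3 ≤ n) (hF : Fintype.card F = q ^ 2)
include hn hF

theorem centralizer_iso [Fintype F₀] {A : GL (Fin n) F₀}
    (d : Dat E (A : Matrix (Fin n) (Fin n) F₀) g) :
    Nonempty (↥(Cfsg.inndiagPSU n F q ⊓ Subgroup.centralizer {grfU C g}) ≃*
      ↥(Cfsg.inndiagPSL n F₀ ⊓ Subgroup.centralizer {AutPSL.grf A})) := by
  obtain ⟨e⟩ := centralizer_grfU hn hF d
  obtain ⟨e'⟩ := AutPSL.centralizer_grf (by omega) A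
  exact ⟨e.trans e'.symm⟩

theorem centralizer_congU [Finite F₀] {H : Matrix (Fin n) (Fin n) F₀} (d : Dat E H g)
    {ι : Type} [Fintype ι] [DecidableEq ι] {M : Matrix ι ι F₀} (h : Cong H M) :
    Nonempty (↥(Cfsg.inndiagPSU n F q ⊓ Subgroup.centralizer {grfU C g}) ≃*
      Cfsg.projQuot (GSim M)) := by
  obtain ⟨e⟩ := centralizer_grfU hn hF d
  obtain ⟨e'⟩ := h.iso
  exact ⟨e.trans e'⟩

theorem pgo_of_congU [Fintype F₀] (h2 : (2 : F₀) ≠ 0) {A : GL (Fin n) F₀}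
    (d : Dat E (A : Matrix (Fin n) (Fin n) F₀) g) {ι : Type} [Fintype ι] [DecidableEq ι]
    {M : Matrix ι ι F₀} (hM : Mᵀ = M) {Q : (ι → F₀) → F₀}
    (hQ : ∀ v, SimForms.bl M v v = 2 * Q v) (h : Cong (A : Matrix (Fin n) (Fin n) F₀) M) :
    Nonempty (↥(Cfsg.inndiagPSU n F q ⊓ Subgroup.centralizer {grfU C g}) ≃* Cfsg.PGO F₀ Q) := by
  obtain ⟨e⟩ := centralizer_iso hn hF d
  obtain ⟨e'⟩ := AutPSL.pgo_of_cong (by omega) h2 hM hQ h
  exact ⟨e.trans e'⟩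

end Cfsg.Agent.AutPSU
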