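import Cfsg.Agent.Lib.Classical.HermSU
import Cfsg.Agent.Lib.AutPSL.Stabilizers
import Cfsg.Prelude.Def_StandardType
import Cfsg.Prelude.Def_LieTypeDatum
import Cfsg.Prelude.Def_KGroupFacts

/-!
The action of `SU n` on the hermitian space, root groups of isotropic points, lifting of `p`-subgroups
of `PSU n`, and the automorphisms induced by semilinear isometries.
-/

set_option autoImplicit false

namespace Cfsg.Agent.AutPSU

open Matrix

variable {F : Type*} [Field F] {n q : ℕ}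

local notation "Vn" => Fin n → F
local notation "Mn" => Matrix (Fin n) (Fin n) F
local notation "SUn" => Cfsg.SU n F q
local notation "PSUn" => Cfsg.PSU n F q
local notation "GUn" => Cfsg.GU n F q

/-- The automorphism `x ↦ x ^ q` of the field. -/
structure Conj (F : Type*) [Field F] (q : ℕ) where
  σ : F ≃+* F
  apply_eq : ∀ x, σ x = x ^ q
  invol : ∀ x, σ (σ x) = x
  ne_one : ∃ μ, σ μ ≠ μ

theorem exists_conj [Fintype F] (hF : Fintype.card F = q ^ 2) : Nonempty (Conj F q) := by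
  obtain ⟨σ, hσ, hne, hinv, -, -⟩ := HermStd.exists_sigma hF
  refine ⟨⟨RingEquiv.ofBijective σ (Function.Involutive.bijective hinv), hσ, hinv, ?_⟩⟩
  by_contra! h
  exact hne (RingHom.ext h)

/-- The hermitian form. -/
abbrev h (x y : Vn) : F := Cfsg.hermForm n F q x y

local notation "𝕙" => h (q := q)

section form

variable (C : Conj F q)
include C

theorem isHerm : Hermitian.IsHerm C.σ.toRingHom (Cfsg.hermForm n F q) :=
  HermStd.isHerm_std (fun e => C.ne_one.elim fun μ hμ => hμ (RingHom.congr_fun e μ)) C.invol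
    C.apply_eq n

theorem add_left (x y v : Vn) : 𝕙 (x + y) v = 𝕙 x v + 𝕙 y v := (isHerm C).add_left x y v

theorem smul_left (c : F) (x v : Vn) : 𝕙 (c • x) v = c * 𝕙 x v := (isHerm C).smul_left c x v

theorem symm (v w : Vn) : 𝕙 w v = C.σ (𝕙 v w) := (isHerm C).symm v w

theorem add_right (v x y : Vn) : 𝕙 v (x + y) = 𝕙 v x + 𝕙 v y := (isHerm C).add_right v x y

theorem smul_right (c : F) (v x : Vn) : 𝕙 v (c • x) = C.σ c * 𝕙 v x := (isHerm C).smul_right c v x

theorem sub_left (x y v : Vn) : 𝕙 (x - y) v = 𝕙 x v - 𝕙 y v := (isHerm C).sub_left x y v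

theorem sub_right (v x y : Vn) : 𝕙 v (x - y) = 𝕙 v x - 𝕙 v y := by
  rw [symm C (x - y), sub_left C, map_sub, ← symm C, ← symm C]

theorem zero_left (v : Vn) : 𝕙 0 v = 0 := (isHerm C).zero_left v

theorem zero_right (v : Vn) : 𝕙 v 0 = 0 := (isHerm C).zero_right v

theorem eq_zero_comm {x y : Vn} : 𝕙 x y = 0 ↔ 𝕙 y x = 0 := (isHerm C).eq_zero_comm

theorem nondeg {v : Vn} (hv : ∀ w, 𝕙 v w = 0) : v = 0 := (isHerm C).nondeg v hv

theorem self_fixed (v : Vn) : C.σ (𝕙 v v) = 𝕙 v v := (symm C v v).symm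

/-- The functional `x ↦ h x v`. -/
def form (v : Vn) : Module.Dual F Vn where
  toFun x := 𝕙 x v
  map_add' x y := add_left C x y v
  map_smul' c x := by simpa using smul_left C c x v

theorem form_apply (v x : Vn) : form C v x = 𝕙 x v := rfl

theorem conj_fixed [Finite F] {x : F} (hx : C.σ x = x) : ∃ b, b + C.σ b = x :=
  Transvec.Herm.exists_trace (fun e => C.ne_one.elim fun μ hμ => hμ (RingEquiv.congr_fun e μ))
    C.invol x hx

theorem exists_norm [Finite F] {x : F} (hx : C.σ x = x) : ∃ b, b * C.σ b = x :=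
  Transvec.Herm.exists_norm (fun e => C.ne_one.elim fun μ hμ => hμ (RingEquiv.congr_fun e μ))
    C.invol x hx

end form

/-! ### the action -/

/-- The action of a special unitary matrix on vectors. -/
def act (s : SUn) (x : Vn) : Vn := ((s : Matrix.SpecialLinearGroup (Fin n) F) : Mn) *ᵥ x

theorem act_mul (s t : SUn) (x : Vn) : act (s * t) x = act s (act t x) := by
  simp [act, Matrix.mulVec_mulVec]

theorem act_one (x : Vn) : act (1 : SUn) x = x := by simp [act]

theorem act_inv_act (s : SUn) (x : Vn) : act s⁻¹ (act s x) = x := by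
  rw [← act_mul, inv_mul_cancel, act_one]

theorem act_act_inv (s : SUn) (x : Vn) : act s (act s⁻¹ x) = x := by
  rw [← act_mul, mul_inv_cancel, act_one]

theorem act_add (s : SUn) (x y : Vn) : act s (x + y) = act s x + act s y := Matrix.mulVec_add _ _ _

theorem act_sub (s : SUn) (x y : Vn) : act s (x - y) = act s x - act s y := Matrix.mulVec_sub _ _ _

theorem act_smul (s : SUn) (c : F) (x : Vn) : act s (c • x) = c • act s x := Matrix.mulVec_smul _ _ _

theorem act_zero (s : SUn) : act s (0 : Vn) = 0 := Matrix.mulVec_zero _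

theorem act_pres (s : SUn) (x y : Vn) : 𝕙 (act s x) (act s y) = 𝕙 x y := s.2 x y

theorem act_inj (s : SUn) {x y : Vn} (e : act s x = act s y) : x = y := by
  rw [← act_inv_act s x, e, act_inv_act]

theorem act_ne_zero (s : SUn) {x : Vn} (hx : x ≠ 0) : act s x ≠ 0 := fun e =>
  hx (act_inj s (e.trans (act_zero s).symm))

theorem ext_act {s t : SUn} (H : ∀ x, act s x = act t x) : s = t :=
  Subtype.ext (Subtype.ext (Matrix.ext_of_mulVec_single fun i => H _))

theorem exists_SU (M : Mn) (hd : M.det = 1) (hM : ∀ x y, 𝕙 (M *ᵥ x) (M *ᵥ y) = 𝕙 x y) :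
    ∃ s : SUn, ∀ x, act s x = M *ᵥ x :=
  ⟨⟨⟨M, hd⟩, hM⟩, fun _ => rfl⟩

/-! ### the centre and `p`-elements -/

theorem mem_center_iff [Fintype F] (C : Conj F q) (hn : 2 ≤ n) (hF : Fintype.card F = q ^ 2)
    (s : SUn) : s ∈ Subgroup.center SUn ↔ ∃ c : F, ∀ x, act s x = c • x := by
  constructor
  · intro hs
    obtain ⟨τ, hτ, hne, hinv, hfix, -⟩ := HermStd.exists_sigma hF
    obtain ⟨c, hc⟩ := HermSU.scalar_of_commute hne hinv hτ hn hfix
      ((s : Matrix.SpecialLinearGroup (Fin n) F) : Mn) fun A hA =>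
        (congrArg (fun X : SUn => ((X : Matrix.SpecialLinearGroup (Fin n) F) : Mn))
          (Subgroup.mem_center_iff.1 hs ⟨A, hA⟩)).symm
    refine ⟨c, fun x => ?_⟩
    rw [act, hc, ← Matrix.smul_one_eq_diagonal, Matrix.smul_mulVec, Matrix.one_mulVec]
  · rintro ⟨c, hc⟩
    exact Subgroup.mem_center_iff.2 fun t => ext_act fun x => by
      rw [act_mul, act_mul, hc, hc, act_smul]

theorem scalar_norm (C : Conj F q) (hn : 1 ≤ n) {s : SUn} {c : F} (hc : ∀ x, act s x = c • x) :
    C.σ c * c = 1 := by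
  have e := act_pres s (Pi.single (⟨0, hn⟩ : Fin n) (1 : F)) (Pi.single (⟨0, hn⟩ : Fin n) (1 : F))
  have h1 : 𝕙 (Pi.single (⟨0, hn⟩ : Fin n) (1 : F) : Vn) (Pi.single (⟨0, hn⟩ : Fin n) 1) = 1 := by
    rw [h, HermStd.hermForm_single (σ := C.σ.toRingHom) C.apply_eq]
    simp
  rwa [hc, smul_left C, smul_right C, h1, mul_one, mul_comm] at e

theorem act_pow_scalar {s : SUn} {c : F} (hc : ∀ x, act s x = c • x) (k : ℕ) (x : Vn) :
    act (s ^ k) x = c ^ k • x := by
  induction k with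
  | zero => rw [pow_zero, act_one, pow_zero, one_smul]
  | succ k ih => rw [pow_succ', act_mul, ih, hc, smul_smul, mul_comm, pow_succ]

/-- Central `p`-elements are trivial. -/
theorem eq_one_of_central [Fintype F] (C : Conj F q) (hn : 2 ≤ n) (hF : Fintype.card F = q ^ 2)
    (p : ℕ) [Fact p.Prime] [CharP F p] {z : SUn} (hz : z ∈ Subgroup.center SUn) {T : ℕ}
    (hpow : z ^ p ^ T = 1) : z = 1 := by
  obtain ⟨c, hc⟩ := (mem_center_iff C hn hF z).1 hz
  have h1 := act_pow_scalar hc (p ^ T) (Pi.single (⟨0, by omega⟩ : Fin n) (1 : F))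
  rw [hpow, act_one] at h1
  have h2 : c ^ p ^ T = 1 := by simpa using (congrFun h1 ⟨0, by omega⟩).symm
  have h3 : c = 1 := by
    have : (c - 1) ^ p ^ T = 0 := by rw [sub_pow_char_pow, h2, one_pow, sub_self]
    exact sub_eq_zero.1 (eq_zero_of_pow_eq_zero this)
  exact ext_act fun x => by rw [hc, h3, one_smul, act_one]

/-- `p`-elements with the same class are equal. -/
theorem eq_of_mk_eq [Fintype F] (C : Conj F q) (hn : 2 ≤ n) (hF : Fintype.card F = q ^ 2)
    (p : ℕ) [Fact p.Prime] [CharP F p] {u v : SUn} {a b : ℕ} (hu : u ^ p ^ a = 1)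
    (hv : v ^ p ^ b = 1) (e : (QuotientGroup.mk u : PSUn) = QuotientGroup.mk v) : u = v := by
  have hz : u⁻¹ * v ∈ Subgroup.center SUn := QuotientGroup.eq.1 e
  have hcomm : Commute u (u⁻¹ * v) := (Subgroup.mem_center_iff.1 hz u : _)
  have huv : Commute u⁻¹ v := by
    have h1 : Commute u v := by
      have := hcomm.mul_right (Commute.refl u)
      have e1 : u * (u⁻¹ * v) = u⁻¹ * v * u := hcomm
      show u * v = v * u
      calc u * v = u * (u * (u⁻¹ * v)) := by group
        _ = u * (u⁻¹ * v * u) := by rw [e1]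
        _ = v * u := by group
    exact h1.inv_left
  refine inv_mul_eq_one.1 (eq_one_of_central C hn hF p hz (T := a + b) ?_)
  rw [huv.mul_pow, inv_pow, pow_add, pow_mul, hu, one_pow, inv_one, one_mul, mul_comm, pow_mul, hv,
    one_pow]

/-- `p`-subgroups of the quotient lift. -/
theorem exists_lift [Fintype F] (p : ℕ) [Fact p.Prime] (H : Subgroup PSUn) (hH : IsPGroup p H) :
    ∃ K : Subgroup SUn, IsPGroup p K ∧ K.map (QuotientGroup.mk' (Subgroup.center SUn)) = H := by
  obtain ⟨C', hC⟩ : ∃ C' : Subgroup SUn, C' = H.comap (QuotientGroup.mk' (Subgroup.center SUn)) :=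
    ⟨_, rfl⟩
  have hle : ∀ x : C', QuotientGroup.mk' (Subgroup.center SUn) (x : SUn) ∈ H := fun x =>
    Subgroup.mem_comap.1 (by rw [← hC]; exact x.2)
  let f : C' →* H := ((QuotientGroup.mk' (Subgroup.center SUn)).comp C'.subtype).codRestrict H hle
  have hf : Function.Surjective f := by
    rintro ⟨y, hy⟩
    obtain ⟨x, rfl⟩ := QuotientGroup.mk'_surjective (Subgroup.center SUn) y
    exact ⟨⟨x, hC ▸ Subgroup.mem_comap.2 hy⟩, rfl⟩
  obtain ⟨P⟩ : Nonempty (Sylow p C') := Sylow.nonempty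
  have hidx : ((P : Subgroup C').map f).index = 1 := by
    have h1 : ¬ p ∣ ((P : Subgroup C').map f).index := fun hd =>
      P.not_dvd_index (hd.trans ((P : Subgroup C').index_map_dvd hf))
    obtain ⟨k, hk⟩ := hH.index ((P : Subgroup C').map f)
    rcases k with _ | k
    · simpa using hk
    · exact absurd (hk ▸ dvd_pow_self p k.succ_ne_zero) h1
  rw [Subgroup.index_eq_one] at hidx
  refine ⟨(P : Subgroup C').map C'.subtype, P.isPGroup'.map _, ?_⟩
  rw [Subgroup.map_map]
  have hcomp : (QuotientGroup.mk' (Subgroup.center SUn)).comp C'.subtype = H.subtype.comp f := rfl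
  rw [hcomp, ← Subgroup.map_map, hidx, ← MonoidHom.range_eq_map, Subgroup.range_subtype]

/-! ### semilinear isometries -/

/-- The value of the semilinear map `x ↦ g τ(x)`. -/
def sm (g : GL (Fin n) F) (τ : F ≃+* F) (x : Vn) : Vn := (g : Mn) *ᵥ (τ ∘ x)

theorem sm_smul (g : GL (Fin n) F) (τ : F ≃+* F) (c : F) (x : Vn) :
    sm g τ (c • x) = τ c • sm g τ x := by
  rw [sm, sm, ← Matrix.mulVec_smul]
  congr 1
  funext i
  simp

theorem sm_add (g : GL (Fin n) F) (τ : F ≃+* F) (x y : Vn) :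
    sm g τ (x + y) = sm g τ x + sm g τ y := by
  rw [sm, sm, sm, ← Matrix.mulVec_add]
  congr 1
  funext i
  simp

theorem sm_inj (g : GL (Fin n) F) (τ : F ≃+* F) {x y : Vn} (e : sm g τ x = sm g τ y) : x = y := by
  have := Matrix.mulVec_injective_iff_isUnit.2 g.isUnit e
  exact funext fun i => τ.injective (congrFun this i)

theorem map_mulVec_eq (τ : F ≃+* F) (M : Mn) (x : Vn) : (τ : F → F) ∘ (M *ᵥ x) = M.map τ *ᵥ (τ ∘ x) :=
  funext fun i => RingHom.map_mulVec τ.toRingHom M x i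

theorem sm_pres {g : GL (Fin n) F} (hg : g ∈ GUn) (τ : F ≃+* F) (x y : Vn) :
    𝕙 (sm g τ x) (sm g τ y) = τ (𝕙 x y) := by
  rw [sm, sm]
  refine (hg (τ ∘ x) (τ ∘ y)).trans ?_
  simp [h, Cfsg.hermForm, map_sum]

/-- Conjugation by a semilinear isometry on `SU`. -/
def suConj (g : GUn) (τ : F ≃+* F) : SUn →* SUn where
  toFun s := ⟨⟨((g : GL (Fin n) F) : Mn) * ((s : Matrix.SpecialLinearGroup (Fin n) F) : Mn).map τ *
      (((g : GL (Fin n) F)⁻¹ : GL (Fin n) F) : Mn), by
        rw [Matrix.det_units_conj, ← RingEquiv.mapMatrix_apply, ← RingEquiv.map_det,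
          (s : Matrix.SpecialLinearGroup (Fin n) F).2, map_one]⟩, by
      intro u v
      obtain ⟨u', rfl⟩ : ∃ u', u = sm (g : GL (Fin n) F) τ u' :=
        ⟨τ.symm ∘ ((((g : GL (Fin n) F)⁻¹ : GL (Fin n) F) : Mn) *ᵥ u), by
          rw [sm, ← Function.comp_assoc, show ⇑τ ∘ ⇑τ.symm = id from funext τ.apply_symm_apply,
            Function.id_comp, Matrix.mulVec_mulVec, ← Units.val_mul, mul_inv_cancel, Units.val_one,
            Matrix.one_mulVec]⟩
      obtain ⟨v', rfl⟩ : ∃ v', v = sm (g : GL (Fin n) F) τ v' :=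
        ⟨τ.symm ∘ ((((g : GL (Fin n) F)⁻¹ : GL (Fin n) F) : Mn) *ᵥ v), by
          rw [sm, ← Function.comp_assoc, show ⇑τ ∘ ⇑τ.symm = id from funext τ.apply_symm_apply,
            Function.id_comp, Matrix.mulVec_mulVec, ← Units.val_mul, mul_inv_cancel, Units.val_one,
            Matrix.one_mulVec]⟩
      have key : ∀ w : Vn, (((g : GL (Fin n) F) : Mn) *
          ((s : Matrix.SpecialLinearGroup (Fin n) F) : Mn).map τ *
            (((g : GL (Fin n) F)⁻¹ : GL (Fin n) F) : Mn)) *ᵥ sm (g : GL (Fin n) F) τ w =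
          sm (g : GL (Fin n) F) τ (act s w) := fun w => by
        rw [sm, sm, act, map_mulVec_eq, Matrix.mulVec_mulVec, Matrix.mulVec_mulVec, mul_assoc,
          ← Units.val_mul, inv_mul_cancel, Units.val_one, mul_one]
      refine (congrArg₂ (h (q := q)) (key u') (key v')).trans ?_
      show 𝕙 _ _ = 𝕙 _ _
      rw [sm_pres g.2, sm_pres g.2, act_pres]⟩
  map_one' := Subtype.ext (Subtype.ext (by
    show ((g : GL (Fin n) F) : Mn) * ((1 : Mn)).map τ * _ = 1
    rw [Matrix.map_one _ (map_zero τ) (map_one τ), mul_one, ← Units.val_mul, mul_inv_cancel,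
      Units.val_one]))
  map_mul' s t := Subtype.ext (Subtype.ext (by
    show ((g : GL (Fin n) F) : Mn) * (((s * t : SUn) : Matrix.SpecialLinearGroup (Fin n) F) : Mn).map τ * _ =
      (((g : GL (Fin n) F) : Mn) * ((s : Matrix.SpecialLinearGroup (Fin n) F) : Mn).map τ * _) *
        (((g : GL (Fin n) F) : Mn) * ((t : Matrix.SpecialLinearGroup (Fin n) F) : Mn).map τ * _)
    rw [Subgroup.coe_mul, Matrix.SpecialLinearGroup.coe_mul, Matrix.map_mul]
    simp [mul_assoc]))

theorem suConj_coe (g : GUn) (τ : F ≃+* F) (s : SUn) :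
    ((suConj g τ s : Matrix.SpecialLinearGroup (Fin n) F) : Mn) = ((g : GL (Fin n) F) : Mn) *
      ((s : Matrix.SpecialLinearGroup (Fin n) F) : Mn).map τ *
        (((g : GL (Fin n) F)⁻¹ : GL (Fin n) F) : Mn) := rfl

theorem act_suConj (g : GUn) (τ : F ≃+* F) (s : SUn) (x : Vn) :
    act (suConj g τ s) (sm (g : GL (Fin n) F) τ x) = sm (g : GL (Fin n) F) τ (act s x) := by
  rw [act, suConj_coe, sm, sm, act, map_mulVec_eq, Matrix.mulVec_mulVec, Matrix.mulVec_mulVec,
    mul_assoc, ← Units.val_mul, inv_mul_cancel, Units.val_one, mul_one]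

/-- Entrywise field automorphism on `GU`. -/
def mapGU (τ : F ≃+* F) (g : GUn) : GUn :=
  ⟨Matrix.GeneralLinearGroup.map τ.toRingHom (g : GL (Fin n) F), by
    intro u v
    have hu : ∀ w : Vn, ((Matrix.GeneralLinearGroup.map τ.toRingHom (g : GL (Fin n) F) : GL (Fin n) F) : Mn) *ᵥ w =
        (τ : F → F) ∘ (((g : GL (Fin n) F) : Mn) *ᵥ (τ.symm ∘ w)) := fun w => by
      rw [map_mulVec_eq, ← Function.comp_assoc,
        show ⇑τ ∘ ⇑τ.symm = id from funext τ.apply_symm_apply, Function.id_comp]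
      rfl
    refine (congrArg₂ (h (q := q)) (hu u) (hu v)).trans ?_
    show 𝕙 _ _ = 𝕙 _ _
    have hτ : ∀ a b : Vn, 𝕙 ((τ : F → F) ∘ a) ((τ : F → F) ∘ b) = τ (𝕙 a b) := fun a b => by
      simp [h, Cfsg.hermForm, map_sum]
    rw [hτ, show 𝕙 (((g : GL (Fin n) F) : Mn) *ᵥ (τ.symm ∘ u)) (((g : GL (Fin n) F) : Mn) *ᵥ (τ.symm ∘ v)) =
      𝕙 (τ.symm ∘ u) (τ.symm ∘ v) from g.2 _ _, ← hτ, ← Function.comp_assoc, ← Function.comp_assoc,
      show ⇑τ ∘ ⇑τ.symm = id from funext τ.apply_symm_apply, Function.id_comp, Function.id_comp]⟩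

theorem sm_comp (g g' : GUn) (τ τ' : F ≃+* F) (x : Vn) :
    sm (g : GL (Fin n) F) τ (sm (g' : GL (Fin n) F) τ' x) =
      sm ((g * mapGU τ g' : GUn) : GL (Fin n) F) (τ * τ') x := by
  rw [sm, sm, sm, map_mulVec_eq, Matrix.mulVec_mulVec]
  rfl

theorem sm_one (x : Vn) : sm ((1 : GUn) : GL (Fin n) F) 1 x = x := by
  simp [sm, show ((1 : F ≃+* F) : F → F) = id from rfl]

theorem suConj_comp (g g' : GUn) (τ τ' : F ≃+* F) (s : SUn) :
    suConj g τ (suConj g' τ' s) = suConj (g * mapGU τ g') (τ * τ') s := by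
  refine ext_act fun x => ?_
  obtain ⟨y, rfl⟩ : ∃ y, x = sm ((g * mapGU τ g' : GUn) : GL (Fin n) F) (τ * τ') y :=
    ⟨(τ * τ').symm ∘ (((((g * mapGU τ g' : GUn) : GL (Fin n) F))⁻¹ : GL (Fin n) F) *ᵥ x : Vn), by
      rw [sm, ← Function.comp_assoc, show ⇑(τ * τ') ∘ ⇑(τ * τ').symm = id from
        funext (τ * τ').apply_symm_apply, Function.id_comp, Matrix.mulVec_mulVec, ← Units.val_mul,
        mul_inv_cancel, Units.val_one, Matrix.one_mulVec]⟩
  conv_lhs => rw [← sm_comp, act_suConj, act_suConj, sm_comp]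
  rw [act_suConj]

theorem suConj_one (s : SUn) : suConj 1 1 s = s := ext_act fun x => by
  conv_lhs => rw [← sm_one (q := q) x, act_suConj, sm_one]

theorem exists_inverse (g : GUn) (τ : F ≃+* F) : ∃ g' : GUn,
    g * mapGU τ g' = 1 ∧ g' * mapGU τ⁻¹ g = 1 := by
  refine ⟨(mapGU τ⁻¹ g)⁻¹, ?_, inv_mul_cancel _⟩
  refine Subtype.ext (Units.ext ?_)
  show ((g : GL (Fin n) F) : Mn) * ((Matrix.GeneralLinearGroup.map τ.toRingHom
    (Matrix.GeneralLinearGroup.map (τ⁻¹ : F ≃+* F).toRingHom (g : GL (Fin n) F))⁻¹ : GL (Fin n) F) : Mn) = 1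
  rw [map_inv, show Matrix.GeneralLinearGroup.map τ.toRingHom
      (Matrix.GeneralLinearGroup.map (τ⁻¹ : F ≃+* F).toRingHom (g : GL (Fin n) F)) = (g : GL (Fin n) F) from
    Units.ext (Matrix.ext fun i j => τ.apply_symm_apply _), ← Units.val_mul, mul_inv_cancel,
    Units.val_one]

/-- The automorphism of `SU` induced by a semilinear isometry. -/
noncomputable def suAut (g : GUn) (τ : F ≃+* F) : MulAut SUn :=
  MulEquiv.ofBijective (suConj g τ) <| by
    obtain ⟨g', h1, h2⟩ := exists_inverse g τ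
    refine Function.bijective_iff_has_inverse.2 ⟨suConj g' τ⁻¹, fun s => ?_, fun s => ?_⟩
    · rw [suConj_comp, h2, inv_mul_cancel, suConj_one]
    · rw [suConj_comp, h1, mul_inv_cancel, suConj_one]

/-- The automorphism of `PSU` induced by a semilinear isometry. -/
noncomputable def semi (g : GUn) (τ : F ≃+* F) : MulAut PSUn :=
  QuotientGroup.congr _ _ (suAut g τ) (Subgroup.characteristic_iff_map_eq.1 inferInstance (suAut g τ))

@[simp] theorem semi_mk (g : GUn) (τ : F ≃+* F) (s : SUn) :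
    semi g τ (QuotientGroup.mk s : PSUn) = QuotientGroup.mk (suConj g τ s) := rfl

theorem semi_mul (g g' : GUn) (τ τ' : F ≃+* F) :
    semi g τ * semi g' τ' = (semi (g * mapGU τ g') (τ * τ') : MulAut PSUn) := MulEquiv.ext fun x => by
  induction x using QuotientGroup.induction_on with
  | _ s => exact congrArg QuotientGroup.mk (suConj_comp g g' τ τ' s)

theorem semi_one : (semi 1 1 : MulAut PSUn) = 1 := MulEquiv.ext fun x => by
  induction x using QuotientGroup.induction_on with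
  | _ s => exact congrArg QuotientGroup.mk (suConj_one s)

theorem semi_inverse (g : GUn) (τ : F ≃+* F) : ∃ (g' : GUn),
    (semi g' τ⁻¹ * semi g τ : MulAut PSUn) = 1 := by
  obtain ⟨g', -, h2⟩ := exists_inverse g τ
  exact ⟨g', by rw [semi_mul, h2, inv_mul_cancel, semi_one]⟩

theorem induced_semi (g : GUn) (τ : F ≃+* F) :
    Cfsg.IsInducedBySemilinearPSU (g : GL (Fin n) F) τ (semi g τ : MulAut PSUn) := by
  intro s s' hs
  rw [semi_mk]
  exact congrArg QuotientGroup.mk (Subtype.ext (Subtype.ext hs.symm))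

theorem semi_eq_of_induced (g : GUn) (τ : F ≃+* F) {β : MulAut PSUn}
    (hβ : Cfsg.IsInducedBySemilinearPSU (g : GL (Fin n) F) τ β) : β = semi g τ :=
  MulEquiv.ext fun x => by
    induction x using QuotientGroup.induction_on with
    | _ s => exact hβ s (suConj g τ s) rfl

end Cfsg.Agent.AutPSU
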