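import Cfsg.Agent.Lib.AutPSU.Classes

/-!
Centralisers of the field automorphisms of `PSU n` in the inner-diagonal group and the splitting of their
classes.
-/

set_option autoImplicit false

namespace Cfsg.Agent.AutPSU

open Matrix

theorem card_cyclic_quotient_sup {G : Type*} [CommGroup G] [Finite G] [IsCyclic G] (n : ℕ)
    (A : Subgroup G) :
    Nat.card (G ⧸ ((powMonoidHom n : G →* G).range ⊔ A)) = Nat.gcd n A.index := by
  have h1 := Subgroup.index_map (powMonoidHom n : G →* G).range (QuotientGroup.mk' A)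
  rw [QuotientGroup.ker_mk', MonoidHom.range_eq_top.2 (QuotientGroup.mk'_surjective A),
    Subgroup.index_top, mul_one] at h1
  rw [← Subgroup.index_eq_card, ← h1]
  have h2 : Subgroup.map (QuotientGroup.mk' A) (powMonoidHom n : G →* G).range =
      (powMonoidHom (α := G ⧸ A) n).range := by
    ext x
    constructor
    · rintro ⟨_, ⟨a, rfl⟩, rfl⟩
      exact ⟨QuotientGroup.mk' A a, by simp⟩
    · rintro ⟨y, rfl⟩
      obtain ⟨a, rfl⟩ := QuotientGroup.mk_surjective y
      exact ⟨_, ⟨a, rfl⟩, by simp⟩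
  rw [h2]
  have : IsCyclic (G ⧸ A) := isCyclic_of_surjective _ (QuotientGroup.mk'_surjective A)
  have h3 := Subgroup.card_mul_index (powMonoidHom (α := G ⧸ A) n).ker
  rw [Subgroup.index_ker] at h3
  have h4 := Subgroup.card_mul_index (powMonoidHom (α := G ⧸ A) n).range
  rw [← h3, mul_comm (Nat.card (powMonoidHom (α := G ⧸ A) n).ker)] at h4
  rw [Nat.eq_of_mul_eq_mul_left Nat.card_pos h4, IsCyclic.card_powMonoidHom_ker,
    ← Subgroup.index_eq_card, Nat.gcd_comm]

variable {F : Type*} [Field F] {n q : ℕ}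

local notation "Vn" => Fin n → F
local notation "Mn" => Matrix (Fin n) (Fin n) F
local notation "GUn" => Cfsg.GU n F q
local notation "PSUn" => Cfsg.PSU n F q

instance inn_normal : (Cfsg.Inn PSUn).Normal := by
  constructor
  rintro _ ⟨x, rfl⟩ α
  exact ⟨α x, MulEquiv.ext fun y => by simp⟩

/-- The norm-one units fixed by a field automorphism. -/
def fixN1 (C : Conj F q) (σ : F ≃+* F) : Subgroup (N1 C) where
  carrier := {a | σ ((a : Fˣ) : F) = ((a : Fˣ) : F)}
  one_mem' := map_one σ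
  mul_mem' {a b} ha hb := by
    show σ (((a * b : N1 C) : Fˣ) : F) = _
    rw [Subgroup.coe_mul, Units.val_mul, map_mul, ha, hb]
  inv_mem' {a} ha := by
    show σ (((a⁻¹ : N1 C) : Fˣ) : F) = _
    rw [Subgroup.coe_inv, Units.val_inv_eq_inv_val, map_inv₀, ha]

theorem mapGU_scU (C : Conj F q) (σ : F ≃+* F) (a : N1 C) :
    ((mapGU σ (scU C a : GUn) : GUn) : GL (Fin n) F) =
      Matrix.GeneralLinearGroup.scalar (Fin n) (Units.map σ.toMonoidHom (a : Fˣ)) := by
  rw [mapGU_coe, scU_coe, AutPSL.mapGL_scalar]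

variable (C : Conj F q) [Fintype F] (hn : 3 ≤ n) (hF : Fintype.card F = q ^ 2)
include C hn hF

theorem commute_field_iff (g : GUn) (σ : F ≃+* F) :
    Commute (conjHom g) (semi 1 σ : MulAut PSUn) ↔ ∃ c : N1 C, g = scU C c * mapGU σ g := by
  unfold Commute SemiconjBy
  rw [conjHom_apply, semi_mul_one, semi_mul, mul_one, one_mul, mul_one, semi_eq_semi C hn hF]
  simp

theorem exists_fixed_of_commute {g : GUn} {σ : F ≃+* F} (hodd : Odd (orderOf σ))
    (h' : Commute (conjHom g) (semi 1 σ : MulAut PSUn)) :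
    ∃ (t : N1 C) (g' : GUn), mapGU σ g' = g' ∧ g = scU C t * g' := by
  obtain ⟨c, hc⟩ := (commute_field_iff C hn hF g σ).1 h'
  have hcG : (g : GL (Fin n) F) = Matrix.GeneralLinearGroup.scalar (Fin n) (c : Fˣ) *
      AutPSL.mapGL σ (g : GL (Fin n) F) := by
    conv_lhs => rw [hc, Subgroup.coe_mul, scU_coe, mapGU_coe]
  have hit : ∀ k, (g : GL (Fin n) F) = Matrix.GeneralLinearGroup.scalar (Fin n)
      (∏ i ∈ Finset.range k, Units.map (σ ^ i : F ≃+* F).toMonoidHom (c : Fˣ)) *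
      AutPSL.mapGL (σ ^ k) (g : GL (Fin n) F) := by
    intro k
    induction k with
    | zero => simp [AutPSL.mapGL_one]
    | succ k ih =>
      conv_lhs => rw [ih, hcG, map_mul, AutPSL.mapGL_scalar]
      rw [Finset.prod_range_succ, map_mul (Matrix.GeneralLinearGroup.scalar (Fin n)), mul_assoc,
        pow_succ, AutPSL.mapGL_mul]
  have hN : AutPSL.normHom σ (c : Fˣ) = 1 := by
    have := hit (orderOf σ)
    rw [pow_orderOf_eq_one, AutPSL.mapGL_one, right_eq_mul,
      ← map_one (Matrix.GeneralLinearGroup.scalar (Fin n))] at this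
    rw [AutPSL.normHom_eq]
    exact AutPSL.scalar_injective (by omega) this
  obtain ⟨t₀, ht₀⟩ := AutPSL.exists_div_of_normHom_eq_one σ hN
  have ht : ((c : Fˣ) : F) * σ (t₀ : F) = (t₀ : F) := congrArg Units.val ht₀
  have hc1 : ((c : Fˣ) : F) * C.σ ((c : Fˣ) : F) = 1 := c.2
  have hc0 : ((c : Fˣ) : F) ≠ 0 := Units.ne_zero _
  obtain ⟨K, hK, -⟩ := AutPSL.exists_fixed_field σ
  have hu : (t₀ : F) * C.σ t₀ ∈ K := by
    rw [hK, map_mul, sigma_comm C σ]
    have e2 : C.σ ((c : Fˣ) : F) * C.σ (σ t₀) = C.σ t₀ := by rw [← map_mul, ht]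
    linear_combination -(σ (t₀ : F) * C.σ (σ t₀)) * hc1 + C.σ (t₀ : F) * ht +
      ((c : Fˣ) : F) * σ (t₀ : F) * e2
  obtain ⟨z, hz, hzz⟩ := exists_norm_fixed C hF hodd hK hu
    (by rw [map_mul, C.invol, mul_comm])
  have ht0 : (t₀ : F) ≠ 0 := t₀.ne_zero
  have hz0 : z ≠ 0 := fun e => by
    rw [e, zero_mul, eq_comm, mul_eq_zero] at hzz
    exact hzz.elim ht0 ((map_ne_zero C.σ).2 ht0)
  have hσz : C.σ z ≠ 0 := (map_ne_zero C.σ).2 hz0
  obtain ⟨t, htdef⟩ : ∃ t : N1 C, ((t : Fˣ) : F) = (t₀ : F) / z := by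
    refine ⟨⟨Units.mk0 _ (div_ne_zero ht0 hz0), ?_⟩, rfl⟩
    show (t₀ : F) / z * C.σ ((t₀ : F) / z) = 1
    rw [map_div₀]
    field_simp
    linear_combination -hzz
  refine ⟨t, scU C t⁻¹ * g, ?_, by rw [← mul_assoc, ← map_mul, mul_inv_cancel, map_one, one_mul]⟩
  refine Subtype.ext ?_
  rw [mapGU_mul, Subgroup.coe_mul, mapGU_scU, Subgroup.coe_mul, scU_coe, mapGU_coe]
  conv_rhs => rw [hcG, ← mul_assoc, ← map_mul]
  congr 2
  refine Units.ext ?_
  show σ (((t⁻¹ : N1 C) : Fˣ) : F) = (((t⁻¹ : N1 C) : Fˣ) : F) * ((c : Fˣ) : F)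
  rw [Subgroup.coe_inv, Units.val_inv_eq_inv_val, map_inv₀, htdef, map_div₀, (hK z).1 hz,
    inv_div, inv_div]
  conv_rhs => rw [← ht]
  have hσt : σ (t₀ : F) ≠ 0 := (map_ne_zero σ).2 ht0
  field_simp

theorem split_field {σ : F ≃+* F} (hodd : Odd (orderOf σ)) :
    Cfsg.splitClassCount (Cfsg.inndiagPSU n F q) (Cfsg.Inn PSUn) (semi 1 σ) =
      Nat.gcd n (fixN1 C σ).index := by
  classical
  rw [← card_cyclic_quotient_sup, ← range_conjHom]
  refine AutPSL.splitClassCount_eq conjHom _ inn_le_range _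
    ((QuotientGroup.mk' _).comp (HermSU.detHom (n := n) (σ := C.σ.toRingHom) C.apply_eq))
    ((QuotientGroup.mk'_surjective _).comp (HermSU.detHom_surjective C.apply_eq (by omega)))
    fun g => ?_
  rw [MonoidHom.comp_apply, QuotientGroup.mk'_apply, QuotientGroup.eq_one_iff, Subgroup.mem_sup]
  constructor
  · rintro ⟨a, ha, b, hb, hab⟩
    obtain ⟨i₀, -⟩ : ∃ i : Fin n, i.val = 0 := ⟨⟨0, by omega⟩, rfl⟩
    obtain ⟨D, hDdet, hDfix⟩ : ∃ D : GUn,
        HermSU.detHom (n := n) (σ := C.σ.toRingHom) C.apply_eq D = b ∧ mapGU σ D = D := by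
      refine ⟨⟨_, HermSU.diag_mem_GU (σ := C.σ.toRingHom) C.apply_eq
        (d := Function.update (1 : Fin n → Fˣ) i₀ (b : Fˣ)) fun i => ?_⟩,
        Subtype.ext (Units.ext ?_), Subtype.ext (Units.ext ?_)⟩
      · by_cases hi : i = i₀
        · subst hi; rw [Function.update_self]; exact b.2
        · simpa [hi] using (N1 C).one_mem
      · show (Matrix.diagonal fun i => ((Function.update (1 : Fin n → Fˣ) i₀ (b : Fˣ) i : Fˣ) : F)).det = _
        rw [Matrix.det_diagonal, Finset.prod_eq_single i₀ (fun i _ hi => by simp [hi])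
          (fun h' => absurd (Finset.mem_univ _) h'), Function.update_self]
      · show (Matrix.diagonal fun i => ((Function.update (1 : Fin n → Fˣ) i₀ (b : Fˣ) i : Fˣ) : F)).map σ =
          Matrix.diagonal fun i => ((Function.update (1 : Fin n → Fˣ) i₀ (b : Fˣ) i : Fˣ) : F)
        rw [Matrix.diagonal_map (map_zero σ)]
        congr 1
        funext i
        by_cases hi : i = i₀
        · subst hi; simp only [Function.update_self]; exact hb
        · simp [hi]
    refine ⟨g * D⁻¹, D, ?_, ?_, (inv_mul_cancel_right _ _).symm⟩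
    · rw [conjHom_apply]
      refine (semi_mem_inn C hn hF _).2 ?_
      rw [map_mul, map_inv, hDdet, ← hab, mul_inv_cancel_right]
      exact ha
    · rw [commute_field_iff C hn hF]
      exact ⟨1, by rw [map_one, one_mul, hDfix]⟩
  · rintro ⟨s, c, hs, hc, rfl⟩
    obtain ⟨t, g', hg', rfl⟩ := exists_fixed_of_commute C hn hF hodd hc
    refine ⟨HermSU.detHom (σ := C.σ.toRingHom) C.apply_eq s * t ^ n,
      Subgroup.mul_mem _ ((semi_mem_inn C hn hF s).1 hs) ⟨t, rfl⟩,
      HermSU.detHom (σ := C.σ.toRingHom) C.apply_eq g', ?_, by rw [map_mul, map_mul, det_scU, mul_assoc]⟩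
    show σ (((g' : GL (Fin n) F) : Mn)).det = ((g' : GL (Fin n) F) : Mn).det
    conv_rhs => rw [← hg', mapGU_coe, AutPSL.mapGL_coe]
    exact RingHom.map_det σ.toRingHom ((g' : GL (Fin n) F) : Mn)

theorem centralizer_field {σ : F ≃+* F} (hodd : Odd (orderOf σ)) {F₀ : Type*} [Field F₀]
    (ι : F₀ →+* F) (hι : ∀ a, a ∈ ι.range ↔ σ a = a) (q₀ : ℕ) (hιq : ∀ a, C.σ (ι a) = ι (a ^ q₀)) :
    Nonempty (↥(Cfsg.inndiagPSU n F q ⊓ Subgroup.centralizer {(semi 1 σ : MulAut PSUn)}) ≃*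
      Cfsg.PGU n F₀ q₀) := by
  have hform : ∀ u v : Fin n → F₀, h (q := q) (ι ∘ u) (ι ∘ v) = ι (Cfsg.hermForm n F₀ q₀ u v) := by
    intro u v
    simp only [h, Cfsg.hermForm, map_sum, map_mul, Function.comp_apply, ← C.apply_eq, hιq]
  obtain ⟨i₀, -⟩ : ∃ i : Fin n, i.val = 0 := ⟨⟨0, by omega⟩, rfl⟩
  let M : Cfsg.GU n F₀ q₀ →* GL (Fin n) F :=
    (Matrix.GeneralLinearGroup.map ι).comp (Cfsg.GU n F₀ q₀).subtype
  have hM : ∀ g, M g ∈ Cfsg.GU n F q := by
    intro g
    have key : ∀ i j, h (q := q) (((M g : GL (Fin n) F) : Mn) *ᵥ Pi.single i 1)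
        (((M g : GL (Fin n) F) : Mn) *ᵥ Pi.single j 1) = h (q := q) (Pi.single i (1 : F) : Vn) (Pi.single j 1) := by
      intro i j
      have hs : ∀ l : Fin n, (Pi.single l (1 : F) : Vn) = ι ∘ (Pi.single l (1 : F₀) : Fin n → F₀) :=
        fun l => funext fun m => by rcases eq_or_ne m l with rfl | hm <;> simp [*]
      have hmv : ∀ u : Fin n → F₀, ((M g : GL (Fin n) F) : Mn) *ᵥ (ι ∘ u) =
          ι ∘ (((g : GL (Fin n) F₀) : Matrix (Fin n) (Fin n) F₀) *ᵥ u) := fun u =>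
        funext fun l => (RingHom.map_mulVec ι _ u l).symm
      rw [hs, hs, hmv, hmv, hform, hform]
      exact congrArg ι (g.2 _ _)
    intro u v
    show h (q := q) _ _ = h (q := q) u v
    rw [pi_eq_sum_univ' u, pi_eq_sum_univ' v, Matrix.mulVec_sum, Matrix.mulVec_sum]
    simp only [Matrix.mulVec_smul]
    exact (isHerm C).map_sum_eq key u v
  let MU : Cfsg.GU n F₀ q₀ →* GUn := M.codRestrict _ hM
  let Θ : Cfsg.GU n F₀ q₀ →* MulAut PSUn := conjHom.comp MU
  have hMcoe : ∀ g, ((MU g : GUn) : GL (Fin n) F) =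
      Matrix.GeneralLinearGroup.map ι (g : GL (Fin n) F₀) := fun g => rfl
  have hker : Θ.ker = (Cfsg.Geo.scalars (Fin n) F₀).subgroupOf (Cfsg.GU n F₀ q₀) := by
    ext g
    rw [MonoidHom.mem_ker, MonoidHom.comp_apply, conjHom_apply, semi_eq_one_iff' C hn hF,
      Subgroup.mem_subgroupOf, Cfsg.Geo.mem_scalars_iff]
    constructor
    · rintro ⟨-, c, hc⟩
      have hd : ∀ a b, ι (((g : GL (Fin n) F₀) : Matrix (Fin n) (Fin n) F₀) a b) =
          (Matrix.scalar (Fin n) ((c : Fˣ) : F)) a b := fun a b =>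
        congrArg (fun u : GUn => (((u : GL (Fin n) F) : Mn)) a b) hc
      have h1 := hd i₀ i₀
      simp only [Matrix.scalar_apply, Matrix.diagonal_apply_eq] at h1
      have hc0 : ((g : GL (Fin n) F₀) : Matrix (Fin n) (Fin n) F₀) i₀ i₀ ≠ 0 := fun h0 => by
        rw [h0, map_zero] at h1
        exact (c : Fˣ).ne_zero h1.symm
      refine ⟨Units.mk0 _ hc0, Matrix.ext fun a b => ι.injective ?_⟩
      rw [hd]
      rcases eq_or_ne a b with rfl | hab <;> simp [*]
    · rintro ⟨c, hc⟩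
      have hn1 : ι (c : F₀) * C.σ (ι (c : F₀)) = 1 := by
        have e : Cfsg.hermForm n F₀ q₀
            (((g : GL (Fin n) F₀) : Matrix (Fin n) (Fin n) F₀) *ᵥ Pi.single i₀ (1 : F₀))
            (((g : GL (Fin n) F₀) : Matrix (Fin n) (Fin n) F₀) *ᵥ Pi.single i₀ (1 : F₀)) = _ :=
          g.2 (Pi.single i₀ (1 : F₀)) (Pi.single i₀ (1 : F₀))
        rw [hc, Matrix.smul_mulVec, Matrix.one_mulVec] at e
        have e' := congrArg ι e
        have hsingle : ι ∘ (Pi.single i₀ (1 : F₀) : Fin n → F₀) = (Pi.single i₀ (1 : F) : Vn) :=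
          funext fun m => by rcases eq_or_ne m i₀ with rfl | hm <;> simp [*]
        have hsm : ι ∘ ((c : F₀) • (Pi.single i₀ (1 : F₀) : Fin n → F₀)) =
            ι (c : F₀) • (Pi.single i₀ (1 : F) : Vn) := by
          rw [← hsingle]
          funext m
          simp
        rw [← hform, ← hform, hsm, hsingle, smul_left C, smul_right C, h,
          HermStd.hermForm_single (σ := C.σ.toRingHom) C.apply_eq, if_pos rfl, mul_one] at e'
        exact e'
      refine ⟨rfl, ⟨Units.map ι.toMonoidHom c, hn1⟩, Subtype.ext (Units.ext ?_)⟩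
      show ((g : GL (Fin n) F₀) : Matrix (Fin n) (Fin n) F₀).map ι = Matrix.scalar (Fin n) (ι c)
      rw [hc, Matrix.scalar_apply]
      ext a b
      rcases eq_or_ne a b with rfl | hab <;> simp [*]
  have hrange : Θ.range = Cfsg.inndiagPSU n F q ⊓ Subgroup.centralizer {(semi 1 σ : MulAut PSUn)} := by
    apply le_antisymm
    · rintro _ ⟨g, rfl⟩
      refine ⟨mem_inndiag.2 ⟨_, rfl⟩, Subgroup.mem_centralizer_singleton_iff.2 ?_⟩
      refine ((commute_field_iff C hn hF _ σ).2 ⟨1, ?_⟩).eq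
      rw [map_one, one_mul]
      exact Subtype.ext (Units.ext (Matrix.ext fun a b => ((hι _).1 ⟨_, rfl⟩).symm))
    · rintro y ⟨hy, hyc⟩
      obtain ⟨g, rfl⟩ := mem_inndiag.1 hy
      obtain ⟨t, g', hg', rfl⟩ := exists_fixed_of_commute C hn hF hodd (g := g)
        (Subgroup.mem_centralizer_singleton_iff.1 hyc)
      rw [← semi_mul_one, (semi_eq_one_iff' C hn hF).2 ⟨rfl, t, rfl⟩, one_mul]
      have hfix : ∀ a b, ((g' : GL (Fin n) F) : Mn) a b ∈ ι.range := fun a b =>
        (hι _).2 (congrArg (fun u : GUn => ((u : GL (Fin n) F) : Mn) a b) hg')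
      choose A hA using hfix
      have hmap : (Matrix.of A).map ι = ((g' : GL (Fin n) F) : Mn) := Matrix.ext hA
      have hu : IsUnit (Matrix.of A) := by
        rw [Matrix.isUnit_iff_isUnit_det, isUnit_iff_ne_zero]
        intro h0
        have := congrArg ι h0
        rw [RingHom.map_det, RingHom.mapMatrix_apply, hmap, map_zero] at this
        exact (isUnit_iff_ne_zero.1 ((Matrix.isUnit_iff_isUnit_det _).1 (g' : GL (Fin n) F).isUnit)) this
      have hmem : hu.unit ∈ Cfsg.GU n F₀ q₀ := by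
        intro u v
        have hmv : ∀ u : Fin n → F₀, ι ∘ ((Matrix.of A) *ᵥ u) =
            ((g' : GL (Fin n) F) : Mn) *ᵥ (ι ∘ u) := fun u => by
          rw [← hmap]
          exact funext fun l => RingHom.map_mulVec ι _ u l
        show Cfsg.hermForm n F₀ q₀ (((hu.unit : GL (Fin n) F₀) : Matrix (Fin n) (Fin n) F₀) *ᵥ u)
          (((hu.unit : GL (Fin n) F₀) : Matrix (Fin n) (Fin n) F₀) *ᵥ v) = _
        apply ι.injective
        rw [← hform, ← hform, IsUnit.unit_spec, hmv, hmv]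
        exact g'.2 _ _
      refine ⟨⟨hu.unit, hmem⟩, ?_⟩
      rw [MonoidHom.comp_apply, conjHom_apply]
      congr 1
      refine Subtype.ext (Units.ext ?_)
      show ((hu.unit : GL (Fin n) F₀) : Matrix (Fin n) (Fin n) F₀).map ι = _
      rw [IsUnit.unit_spec, hmap]
  exact ⟨(MulEquiv.subgroupCongr hrange.symm).trans ((QuotientGroup.quotientKerEquivRange Θ).symm.trans
    (QuotientGroup.quotientMulEquivOfEq hker))⟩

omit hn in
theorem index_fixN1 (p f : ℕ) [Fact p.Prime] (hq : q = p ^ f) (hn : 3 ≤ n) {σ : F ≃+* F}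
    (hodd : Odd (orderOf σ)) :
    (fixN1 C σ).index = (q + 1) / (p ^ (f / orderOf σ) + 1) := by
  classical
  obtain ⟨K, hK, hcard⟩ := AutPSL.exists_fixed_field σ
  obtain ⟨hKc, hKσ⟩ := conj_on_fixed C hF p f hq hodd hcard
  haveI : Fintype K := Fintype.ofFinite _
  rw [Nat.card_eq_fintype_card] at hKc
  obtain ⟨C₀⟩ := exists_conj hKc
  have hcompat : ∀ a : K, C.σ (a : F) = (C₀.σ a : F) := fun a => by
    rw [hKσ _ a.2, C₀.apply_eq, SubmonoidClass.coe_pow]
  let E : fixN1 C σ ≃ N1 C₀ :=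
    { toFun := fun a => ⟨Units.mk0 ⟨((a.1 : Fˣ) : F), (hK _).2 a.2⟩
        (fun e => (a.1 : Fˣ).ne_zero (congrArg Subtype.val e)), Subtype.ext (by
          show ((a.1 : Fˣ) : F) * (C₀.σ ⟨((a.1 : Fˣ) : F), _⟩ : F) = 1
          rw [← hcompat]
          exact a.1.2)⟩
      invFun := fun b => ⟨⟨Units.mk0 (((b : Kˣ) : K) : F)
        (fun e => (b : Kˣ).ne_zero (Subtype.ext e)), by
          show (((b : Kˣ) : K) : F) * C.σ (((b : Kˣ) : K) : F) = 1
          rw [hcompat]
          exact congrArg Subtype.val b.2⟩, (hK _).1 ((b : Kˣ) : K).2⟩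
      left_inv := fun a => Subtype.ext (Subtype.ext (Units.ext rfl))
      right_inv := fun b => Subtype.ext (Units.ext (Subtype.ext rfl)) }
  have h1 := Subgroup.card_mul_index (fixN1 C σ)
  rw [Nat.card_congr E, card_N1 C₀ hn hKc, card_N1 C hn hF] at h1
  rw [← h1, Nat.mul_div_cancel_left _ (Nat.succ_pos _)]

end Cfsg.Agent.AutPSU
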