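import Cfsg.Agent.Lib.AutPSU.Outer
import Cfsg.Agent.Lib.AutPSL.Centralizer

/-!
Classes of the field automorphisms of `PSU n` in the coset of the inner-diagonal group.
-/

set_option autoImplicit false

namespace Cfsg.Agent.AutPSU

open Matrix

variable {F : Type*} [Field F] {n q : ℕ}

local notation "Vn" => Fin n → F
local notation "Mn" => Matrix (Fin n) (Fin n) F
local notation "GUn" => Cfsg.GU n F q
local notation "PSUn" => Cfsg.PSU n F q
local notation "𝕙" => h (q := q)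

/-- The twisted product in `GU`. -/
def twistU (σ : F ≃+* F) (g : GUn) : ℕ → GUn
  | 0 => 1
  | k + 1 => g * mapGU σ (twistU σ g k)

theorem twistU_coe (σ : F ≃+* F) (g : GUn) (k : ℕ) :
    ((twistU σ g k : GUn) : GL (Fin n) F) = AutPSL.twist σ (g : GL (Fin n) F) k := by
  induction k with
  | zero => rfl
  | succ k ih => rw [twistU, AutPSL.twist, Subgroup.coe_mul, mapGU_coe, ih]

theorem semi_pow (g : GUn) (σ : F ≃+* F) (k : ℕ) :
    (semi g σ : MulAut PSUn) ^ k = semi (twistU σ g k) (σ ^ k) := by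
  induction k with
  | zero => rw [pow_zero, twistU, pow_zero, semi_one]
  | succ k ih => rw [pow_succ', ih, semi_mul, twistU, pow_succ']

theorem semi_inv_one (P : GUn) : (semi P 1 : MulAut PSUn)⁻¹ = semi P⁻¹ 1 := by
  rw [← conjHom_apply, ← conjHom_apply, map_inv]

theorem semi_conj (P : GUn) (σ : F ≃+* F) :
    (semi P 1 * semi 1 σ * (semi P 1)⁻¹ : MulAut PSUn) = semi (P * (mapGU σ P)⁻¹) σ := by
  rw [semi_inv_one, semi_mul_one, semi_mul, mul_one, mul_one]
  congr 1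

theorem sigma_comm (C : Conj F q) (σ : F ≃+* F) (a : F) : σ (C.σ a) = C.σ (σ a) := by
  rw [C.apply_eq, C.apply_eq, map_pow]

theorem h_map (σ : F ≃+* F) (u v : Vn) : 𝕙 (σ ∘ u) (σ ∘ v) = σ (𝕙 u v) := by
  simp [h, Cfsg.hermForm, map_sum]

variable (C : Conj F q) [Fintype F] (hn : 3 ≤ n) (hF : Fintype.card F = q ^ 2)
include C hn hF

theorem orderOf_semi_one (σ : F ≃+* F) : orderOf (semi 1 σ : MulAut PSUn) = orderOf σ := by
  have hpow : ∀ k, (semi 1 σ : MulAut PSUn) ^ k = semi 1 (σ ^ k) := by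
    intro k
    induction k with
    | zero => simp [semi_one]
    | succ k ih => rw [pow_succ, ih, semi_mul, mapGU_one', mul_one, pow_succ]
  refine orderOf_eq_orderOf_iff.2 fun k => ?_
  rw [hpow]
  exact ⟨fun e => ((semi_eq_one_iff' C hn hF).1 e).1, fun e => by rw [e, semi_one]⟩

omit hn in
/-- The exponents attached to an automorphism of odd order. -/
theorem odd_exponent (p f : ℕ) [Fact p.Prime] (hq : q = p ^ f) {σ : F ≃+* F}
    (hodd : Odd (orderOf σ)) : orderOf σ ∣ f := by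
  have hd := AutPSL.orderOf_dvd_exponent p (2 * f) (by rw [hF, hq, ← pow_mul, mul_comm]) σ
  refine (Nat.Coprime.dvd_mul_left ?_).1 hd
  exact Nat.coprime_two_right.2 hodd

omit hn in
/-- The conjugation on the fixed field of an automorphism of odd order. -/
theorem conj_on_fixed (p f : ℕ) [Fact p.Prime] (hq : q = p ^ f) {σ : F ≃+* F}
    (hodd : Odd (orderOf σ)) {K : Subfield F} (hcard : Fintype.card F = Nat.card K ^ orderOf σ) :
    Nat.card K = (p ^ (f / orderOf σ)) ^ 2 ∧ ∀ a ∈ K, C.σ a = a ^ p ^ (f / orderOf σ) := by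
  classical
  have hdvd := odd_exponent C hF p f hq hodd
  have hK := AutPSL.card_fixed_field p (2 * f) (by rw [hF, hq, ← pow_mul, mul_comm]) hcard
  have hK' : Nat.card K = (p ^ (f / orderOf σ)) ^ 2 := by
    rw [hK, ← pow_mul]
    congr 1
    rw [Nat.mul_div_assoc _ hdvd, mul_comm]
  refine ⟨hK', fun a ha => ?_⟩
  obtain ⟨c, hc⟩ := hdvd
  obtain ⟨j, hj⟩ := hodd
  have hpos : 0 < orderOf σ := by omega
  have hfc : f / orderOf σ = c := by rw [hc, Nat.mul_div_cancel_left _ hpos]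
  rw [hfc] at hK' ⊢
  haveI : Fintype K := Fintype.ofFinite _
  have hpow : ∀ y : K, y ^ ((p ^ c) ^ 2) = y := fun y => by
    rw [← hK', Nat.card_eq_fintype_card]
    exact FiniteField.pow_card y
  have hperiod : ∀ (i : ℕ) (y : K), y ^ (((p ^ c) ^ 2) ^ i) = y := fun i y => by
    induction i with
    | zero => simp
    | succ i ih => rw [pow_succ, pow_mul, ih, hpow]
  have e : p ^ f = ((p ^ c) ^ 2) ^ j * p ^ c := by
    rw [hc, hj, ← pow_mul, ← pow_mul, ← pow_add]
    ring_nf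
  rw [C.apply_eq, hq, e, pow_mul]
  have := congrArg Subtype.val (hperiod j ⟨a, ha⟩)
  rw [SubmonoidClass.coe_pow] at this
  rw [this]

omit hn in
/-- An automorphism of odd order does not fix the whole fixed field of the conjugation. -/
theorem exists_moved {σ : F ≃+* F} (hodd : Odd (orderOf σ)) {K : Subfield F}
    (hK : ∀ a, a ∈ K ↔ σ a = a) :
    ∃ μ, μ ∈ K ∧ C.σ μ ≠ μ := by
  classical
  obtain ⟨L, hL, hcard⟩ := AutPSL.exists_fixed_field σ
  obtain ⟨p, hp⟩ := CharP.exists F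
  obtain ⟨a, hpp, hpa⟩ := FiniteField.card F p
  haveI : Fact p.Prime := ⟨hpp⟩
  obtain ⟨b, -, hb⟩ := (Nat.dvd_prime_pow hpp).1
    (⟨q, by rw [← hpa, hF, pow_two]⟩ : q ∣ p ^ (a : ℕ))
  obtain ⟨hLc, hLσ⟩ := conj_on_fixed C hF p b hb hodd hcard
  have hc2 : 2 ≤ p ^ (b / orderOf σ) := by
    rcases Nat.eq_zero_or_pos (b / orderOf σ) with h0 | h0
    · have hL2 : 1 < Nat.card L := Finite.one_lt_card
      rw [hLc, h0] at hL2
      simp at hL2
    · exact (Nat.le_self_pow h0.ne' p).trans' hpp.two_le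
  haveI : Fintype L := Fintype.ofFinite _
  obtain ⟨x, hx⟩ := IsCyclic.exists_generator (α := Lˣ)
  have ho : orderOf x = (p ^ (b / orderOf σ)) ^ 2 - 1 := by
    rw [orderOf_eq_card_of_forall_mem_zpowers hx, Nat.card_units, hLc]
  refine ⟨((x : L) : F), (hK _).2 ((hL _).1 (x : L).2), fun e => ?_⟩
  rw [hLσ _ (x : L).2] at e
  have h5 : x ^ (p ^ (b / orderOf σ)) = x := Units.ext (Subtype.ext (by simpa using e))
  have h4 : x ^ (p ^ (b / orderOf σ) - 1) = 1 := by
    rw [pow_sub _ (by omega : 1 ≤ p ^ (b / orderOf σ)), h5, pow_one, mul_inv_cancel]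
  have h6 := Nat.le_of_dvd (by omega) (orderOf_dvd_of_pow_eq_one h4)
  rw [ho] at h6
  have : p ^ (b / orderOf σ) < (p ^ (b / orderOf σ)) ^ 2 := by nlinarith
  omega

omit hn in
/-- The conjugation restricted to the fixed field of an automorphism of odd order. -/
theorem exists_norm_fixed {σ : F ≃+* F} (hodd : Odd (orderOf σ)) {K : Subfield F}
    (hK : ∀ a, a ∈ K ↔ σ a = a) {x : F} (hx : x ∈ K) (hxs : C.σ x = x) :
    ∃ z ∈ K, z * C.σ z = x := by
  obtain ⟨μ, hμ, hμ'⟩ := exists_moved C hF hodd hK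
  have hmem : ∀ a : F, a ∈ K → C.σ a ∈ K := fun a ha => by rw [C.apply_eq]; exact K.pow_mem ha q
  let τ : K ≃+* K :=
    { toFun := fun a => ⟨C.σ (a : F), hmem _ a.2⟩
      invFun := fun a => ⟨C.σ (a : F), hmem _ a.2⟩
      left_inv := fun a => Subtype.ext (C.invol _)
      right_inv := fun a => Subtype.ext (C.invol _)
      map_mul' := fun a b => Subtype.ext (map_mul C.σ _ _)
      map_add' := fun a b => Subtype.ext (map_add C.σ _ _) }
  obtain ⟨b, hb⟩ := Transvec.Herm.exists_norm (σ := τ)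
    (fun e => hμ' (congrArg Subtype.val (RingEquiv.congr_fun e ⟨μ, hμ⟩)))
    (fun a => Subtype.ext (C.invol _)) ⟨x, hx⟩ (Subtype.ext hxs)
  exact ⟨b, b.2, congrArg Subtype.val hb⟩

/-- Descent in the unitary group. -/
theorem exists_descent_GU (σ : F ≃+* F) (hodd : Odd (orderOf σ)) (g : GUn) {a : N1 C}
    (hg : twistU σ g (orderOf σ) = scU C a) :
    ∃ (P : GUn) (t : N1 C), g = scU C t * P * (mapGU σ P)⁻¹ := by
  obtain ⟨K, hK, -⟩ := AutPSL.exists_fixed_field σ
  have hg' : AutPSL.twist σ (g : GL (Fin n) F) (orderOf σ) =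
      Matrix.GeneralLinearGroup.scalar (Fin n) (a : Fˣ) := by
    rw [← twistU_coe, hg, scU_coe]
  obtain ⟨P, t, hP⟩ := AutPSL.exists_descent_scalar σ (by omega) (g : GL (Fin n) F) _ hg'
  obtain ⟨T, hTdef⟩ : ∃ T : F, T = (t : Fˣ) := ⟨_, rfl⟩
  obtain ⟨B, hB⟩ : ∃ B : Vn → Vn → F, ∀ u v, B u v = 𝕙 ((P : Mn) *ᵥ u) ((P : Mn) *ᵥ v) :=
    ⟨_, fun _ _ => rfl⟩
  have hgP : ∀ w, ((g : GL (Fin n) F) : Mn) *ᵥ (σ ∘ ((P : Mn) *ᵥ w)) = T • ((P : Mn) *ᵥ (σ ∘ w)) := by
    intro w
    have e : ((g : GL (Fin n) F) : Mn) * ((AutPSL.mapGL σ P : GL (Fin n) F) : Mn) =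
        T • (P : Mn) := by
      rw [← Units.val_mul, hP, mul_assoc _ _ (AutPSL.mapGL σ P), inv_mul_cancel, mul_one,
        Units.val_mul]
      show Matrix.scalar (Fin n) ((t : Fˣ) : F) * (P : Mn) = _
      rw [Matrix.scalar_apply, ← Matrix.smul_one_eq_diagonal, smul_mul_assoc, one_mul, hTdef]
    rw [map_mulVec_eq, Matrix.mulVec_mulVec, ← AutPSL.mapGL_coe, e, Matrix.smul_mulVec]
  have hBσ : ∀ u v : Vn, (∀ i, σ (u i) = u i) → (∀ i, σ (v i) = v i) →
      σ (B u v) = T * C.σ T * B u v := by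
    intro u v hu hv
    have hu' : (σ : F → F) ∘ u = u := funext hu
    have hv' : (σ : F → F) ∘ v = v := funext hv
    rw [hB, ← h_map]
    refine (g.2 _ _).symm.trans ?_
    show 𝕙 (((g : GL (Fin n) F) : Mn) *ᵥ _) (((g : GL (Fin n) F) : Mn) *ᵥ _) = _
    rw [hgP, hgP, smul_left C, smul_right C, hu', hv', mul_assoc]
  have hBsym : ∀ u v, B v u = C.σ (B u v) := fun u v => by rw [hB, hB, symm C]
  -- a fixed vector which is not isotropic
  obtain ⟨μ, hμK, hμ⟩ := exists_moved C hF hodd hK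
  obtain ⟨v₀, hv₀, hv₀0⟩ : ∃ v : Vn, (∀ i, σ (v i) = v i) ∧ B v v ≠ 0 := by
    by_contra! hall
    have hsingle : ∀ i : Fin n, ∀ j, σ ((Pi.single i (1 : F) : Vn) j) = (Pi.single i (1 : F) : Vn) j :=
      fun i j => by rcases eq_or_ne j i with rfl | hji <;> simp [*]
    have h0 : ∀ i j, B (Pi.single i 1) (Pi.single j 1) = 0 := by
      intro i j
      have key : ∀ c, σ c = c → C.σ c * B (Pi.single i 1) (Pi.single j 1) +
          c * C.σ (B (Pi.single i 1) (Pi.single j 1)) = 0 := by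
        intro c hc
        have e := hall (Pi.single i 1 + c • Pi.single j 1) (fun l => by
          rw [Pi.add_apply, Pi.smul_apply, smul_eq_mul, map_add, map_mul, hsingle, hsingle, hc])
        have ei := hall _ (hsingle i)
        have ej := hall _ (hsingle j)
        rw [hB] at e ei ej ⊢
        rw [Matrix.mulVec_add, Matrix.mulVec_smul, add_left C, add_right C, add_right C, smul_left C,
          smul_left C, smul_right C, smul_right C, ei, ej,
          symm C ((P : Mn) *ᵥ Pi.single i 1) ((P : Mn) *ᵥ Pi.single j 1)] at e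
        linear_combination e
      have e1 := key 1 (map_one σ)
      have e2 := key μ ((hK μ).1 hμK)
      rw [map_one] at e1
      have : (C.σ μ - μ) * B (Pi.single i 1) (Pi.single j 1) = 0 := by linear_combination e2 - μ * e1
      exact (mul_eq_zero.1 this).resolve_left (sub_ne_zero.2 hμ)
    obtain ⟨i, -⟩ : ∃ i : Fin n, i.val = 0 := ⟨⟨0, by omega⟩, rfl⟩
    have hne : (P : Mn) *ᵥ Pi.single i (1 : F) ≠ 0 := fun e => by
      have := Matrix.mulVec_injective_iff_isUnit.2 P.isUnit (e.trans (Matrix.mulVec_zero _).symm)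
      exact one_ne_zero ((Pi.single_eq_zero_iff).1 this)
    refine hne (nondeg C fun w => ?_)
    obtain ⟨w', rfl⟩ : ∃ w', w = (P : Mn) *ᵥ w' :=
      ⟨((P⁻¹ : GL (Fin n) F) : Mn) *ᵥ w, by
        rw [Matrix.mulVec_mulVec, ← Units.val_mul, mul_inv_cancel, Units.val_one, Matrix.one_mulVec]⟩
    rw [pi_eq_sum_univ' w', Matrix.mulVec_sum]
    refine (map_sum (AddMonoidHom.mk' (fun x => 𝕙 ((P : Mn) *ᵥ Pi.single i (1 : F)) x)
      (fun x y => add_right C _ x y)) _ _).trans ?_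
    refine Finset.sum_eq_zero fun j _ => ?_
    show 𝕙 _ _ = 0
    rw [Matrix.mulVec_smul, smul_right C]
    have := h0 i j
    rw [hB] at this
    convert mul_zero _ using 2
  -- rescale
  obtain ⟨z, hz⟩ := exists_norm C (x := (B v₀ v₀)⁻¹) (by rw [map_inv₀, ← hBsym])
  have hz0 : z ≠ 0 := fun e => by rw [e, zero_mul] at hz; exact inv_ne_zero hv₀0 hz.symm
  obtain ⟨T', hT'⟩ : ∃ T', T' = T * (σ z / z) := ⟨_, rfl⟩
  have hT0 : T ≠ 0 := hTdef ▸ t.ne_zero
  have hT'1 : T' * C.σ T' = 1 := by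
    have e := congrArg σ hz
    rw [map_mul, sigma_comm C σ, map_inv₀, hBσ _ _ hv₀ hv₀] at e
    have hσz : C.σ z ≠ 0 := (map_ne_zero C.σ).2 hz0
    have hσT : C.σ T ≠ 0 := (map_ne_zero C.σ).2 hT0
    have e2 : T * C.σ T * (σ z * C.σ (σ z)) = z * C.σ z := by
      rw [e, hz]; field_simp
    rw [hT', map_mul, map_div₀]
    field_simp
    linear_combination e2
  obtain ⟨B', hB'⟩ : ∃ B' : Vn → Vn → F, ∀ u v, B' u v = z * C.σ z * B u v := ⟨_, fun _ _ => rfl⟩
  have hB'fix : ∀ u v : Vn, (∀ i, σ (u i) = u i) → (∀ i, σ (v i) = v i) → B' u v ∈ K := by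
    intro u v hu hv
    rw [hK, hB', map_mul, map_mul, hBσ u v hu hv, sigma_comm C σ]
    rw [hT', map_mul, map_div₀] at hT'1
    have hσz : C.σ z ≠ 0 := (map_ne_zero C.σ).2 hz0
    field_simp at hT'1
    linear_combination B u v * hT'1
  -- an orthonormal basis over the fixed field
  have hmem : ∀ x : F, x ∈ K → C.σ x ∈ K := fun x hx => by rw [C.apply_eq]; exact K.pow_mem hx q
  let sK : K →+* K :=
    { toFun := fun a => ⟨C.σ (a : F), hmem _ a.2⟩
      map_one' := Subtype.ext (map_one C.σ)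
      map_zero' := Subtype.ext (map_zero C.σ)
      map_mul' := fun a b => Subtype.ext (map_mul C.σ _ _)
      map_add' := fun a b => Subtype.ext (map_add C.σ _ _) }
  obtain ⟨ι, hι⟩ : ∃ ι : (Fin n → K) → Vn, ∀ u i, ι u i = (u i : F) := ⟨fun u i => (u i : F), fun _ _ => rfl⟩
  have hιfix : ∀ u i, σ (ι u i) = ι u i := fun u i => by rw [hι]; exact (hK _).1 (u i).2
  have hιadd : ∀ u v, ι (u + v) = ι u + ι v := fun u v => funext fun i => by simp [hι]
  have hιsmul : ∀ (c : K) u, ι (c • u) = (c : F) • ι u := fun c u => funext fun i => by simp [hι]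
  obtain ⟨H, hH⟩ : ∃ H : (Fin n → K) → (Fin n → K) → K, ∀ u v, (H u v : F) = B' (ι u) (ι v) :=
    ⟨fun u v => ⟨_, hB'fix _ _ (hιfix u) (hιfix v)⟩, fun _ _ => rfl⟩
  have hherm : Hermitian.IsHerm sK H := by
    refine ⟨fun e => hμ (congrArg Subtype.val (RingHom.congr_fun e ⟨μ, hμK⟩)),
      fun c => Subtype.ext (C.invol _), fun a b v => Subtype.ext ?_, fun c a v => Subtype.ext ?_,
      fun a b => Subtype.ext ?_, fun a ha => ?_⟩
    · rw [Subfield.coe_add, hH, hH, hH, hB', hB', hB', hιadd, hB, hB, hB, Matrix.mulVec_add,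
        add_left C]
      ring
    · rw [Subfield.coe_mul, hH, hH, hB', hB', hιsmul, hB, hB, Matrix.mulVec_smul, smul_left C]
      ring
    · show (H b a : F) = C.σ (H a b : F)
      rw [hH, hH, hB', hB', hBsym, map_mul, map_mul, C.invol]
      ring
    · have h1 : (P : Mn) *ᵥ ι a = 0 := nondeg C fun w => by
        obtain ⟨w', rfl⟩ : ∃ w', w = (P : Mn) *ᵥ w' :=
          ⟨((P⁻¹ : GL (Fin n) F) : Mn) *ᵥ w, by
            rw [Matrix.mulVec_mulVec, ← Units.val_mul, mul_inv_cancel, Units.val_one, Matrix.one_mulVec]⟩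
        rw [pi_eq_sum_univ' w', Matrix.mulVec_sum]
        refine (map_sum (AddMonoidHom.mk' (fun x => 𝕙 ((P : Mn) *ᵥ ι a) x)
          (fun x y => add_right C _ x y)) _ _).trans ?_
        refine Finset.sum_eq_zero fun j _ => ?_
        show 𝕙 _ _ = 0
        rw [Matrix.mulVec_smul, smul_right C]
        have e := congrArg Subtype.val (ha (Pi.single j 1))
        rw [hH, hB', hB, ZeroMemClass.coe_zero, mul_eq_zero] at e
        have hzs : z * C.σ z ≠ 0 := mul_ne_zero hz0 ((map_ne_zero C.σ).2 hz0)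
        have e' := e.resolve_left hzs
        have hsi : ι (Pi.single j 1) = Pi.single j (1 : F) := funext fun i => by
          rw [hι]
          rcases eq_or_ne i j with rfl | hij <;> simp [*]
        rw [hsi] at e'
        convert mul_zero _ using 2
      have h2 := Matrix.mulVec_injective_iff_isUnit.2 P.isUnit (h1.trans (Matrix.mulVec_zero _).symm)
      exact funext fun i => Subtype.ext (by
        have := congrFun h2 i
        rwa [hι] at this)
  obtain ⟨b, hb⟩ := Hermitian.exists_orthonormal (n := n) hherm (Module.finrank_fin_fun K)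
  obtain ⟨M, hM⟩ : ∃ M : Mn, M = Matrix.of fun i j => (b j i : F) := ⟨_, rfl⟩
  have hMfix : M.map σ = M := Matrix.ext fun i j => by
    rw [hM, Matrix.map_apply, Matrix.of_apply]
    exact (hK _).1 (b j i).2
  have hQ : ∀ u v, 𝕙 ((z • ((P : Mn) * M)) *ᵥ u) ((z • ((P : Mn) * M)) *ᵥ v) = 𝕙 u v := by
    have hcol : ∀ j, M *ᵥ Pi.single j 1 = ι (b j) := fun j => funext fun i => by
      rw [Matrix.mulVec_single_one, hι, hM]; rfl
    have hkey : ∀ i j, 𝕙 ((z • ((P : Mn) * M)) *ᵥ Pi.single i 1) ((z • ((P : Mn) * M)) *ᵥ Pi.single j 1) =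
        if i = j then 1 else 0 := fun i j => by
      rw [Matrix.smul_mulVec, Matrix.smul_mulVec, smul_left C, smul_right C,
        ← Matrix.mulVec_mulVec, ← Matrix.mulVec_mulVec, hcol, hcol, ← hB, ← mul_assoc, ← hB', ← hH,
        hb]
      split_ifs <;> rfl
    intro u v
    rw [pi_eq_sum_univ' u, pi_eq_sum_univ' v, Matrix.mulVec_sum, Matrix.mulVec_sum]
    simp only [Matrix.mulVec_smul]
    exact (isHerm C).map_sum_eq (fun i j => (hkey i j).trans (by
      rw [show Cfsg.hermForm n F q (Pi.single i (1 : F)) (Pi.single j 1) = if i = j then 1 else 0 from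
        HermStd.hermForm_single (σ := C.σ.toRingHom) C.apply_eq i j])) u v
  obtain ⟨Q, hQM⟩ := exists_GU (q := q) C _ hQ
  refine ⟨Q, ⟨Units.mk0 T' (left_ne_zero_of_mul_eq_one hT'1), hT'1⟩ * 1, ?_⟩
  rw [mul_one, eq_mul_inv_iff_mul_eq]
  refine Subtype.ext (Units.ext ?_)
  show ((g : GL (Fin n) F) : Mn) * ((Q : GL (Fin n) F) : Mn).map σ =
    Matrix.scalar (Fin n) T' * ((Q : GL (Fin n) F) : Mn)
  rw [hQM, Matrix.scalar_apply, ← Matrix.smul_one_eq_diagonal, smul_mul_assoc, one_mul]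
  have e : ((g : GL (Fin n) F) : Mn) * ((P : Mn).map σ) = T • (P : Mn) := by
    rw [← AutPSL.mapGL_coe, ← Units.val_mul, hP, mul_assoc _ _ (AutPSL.mapGL σ P), inv_mul_cancel,
      mul_one, Units.val_mul]
    show Matrix.scalar (Fin n) ((t : Fˣ) : F) * (P : Mn) = _
    rw [Matrix.scalar_apply, ← Matrix.smul_one_eq_diagonal, smul_mul_assoc, one_mul, hTdef]
  rw [show (z • ((P : Mn) * M)).map σ = σ z • ((P : Mn).map σ * M) by
      rw [show (P : Mn).map σ * M = ((P : Mn) * M).map σ by rw [Matrix.map_mul, hMfix]]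
      ext i j
      rw [Matrix.map_apply, Matrix.smul_apply, Matrix.smul_apply, smul_eq_mul, smul_eq_mul, map_mul,
        Matrix.map_apply],
    mul_smul_comm, ← mul_assoc, e, smul_mul_assoc, smul_smul, smul_smul, hT']
  congr 1
  field_simp

/-- Prime order elements of a field automorphism coset are conjugate. -/
theorem conj_of_pow_eq_one (g : GUn) (σ : F ≃+* F) (hodd : Odd (orderOf σ))
    (hg : (semi g σ : MulAut PSUn) ^ orderOf σ = 1) :
    ∃ P : GUn, semi P 1 * semi 1 σ * (semi P 1)⁻¹ = (semi g σ : MulAut PSUn) := by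
  rw [semi_pow, semi_eq_one_iff' C hn hF] at hg
  obtain ⟨-, a, ha⟩ := hg
  obtain ⟨P, t, hP⟩ := exists_descent_GU C hn hF σ hodd g ha
  exact ⟨P, by rw [semi_conj, semi_eq_semi C hn hF]; exact ⟨rfl, t⁻¹, by
    rw [hP, ← mul_assoc, ← mul_assoc, ← map_mul, inv_mul_cancel, map_one, one_mul]⟩⟩

/-- The classes of the field automorphisms. -/
theorem exists_conj_field (hs : ¬ (n = 3 ∧ q = 2)) {x : MulAut PSUn} (hx : Cfsg.IsFieldAutClassPSU x) :
    ∃ (σ : F ≃+* F) (P : GUn), σ ≠ 1 ∧ Odd (orderOf σ) ∧ orderOf x = orderOf σ ∧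
      x = semi P 1 * semi 1 σ * (semi P 1)⁻¹ := by
  obtain ⟨α, φ, σ, hσ, hodd, hφ, hconj⟩ := hx
  have hφ' : φ = semi 1 σ := semi_eq_of_induced 1 σ fun s s' hs' => hφ s s' (hs'.trans (by simp))
  rw [hφ'] at hconj
  obtain ⟨g, τ, rfl⟩ := exists_semi' hn hF hs α
  obtain ⟨p, hp⟩ := CharP.exists F
  obtain ⟨a, hpp, hpa⟩ := FiniteField.card F p
  haveI : Fact p.Prime := ⟨hpp⟩
  have hcomm : (semi 1 τ : MulAut PSUn) * semi 1 σ = semi 1 σ * semi 1 τ := by
    rw [semi_mul, semi_mul, mapGU_one', mapGU_one', AutPSL.ringAut_comm]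
  obtain ⟨P, hP⟩ : ∃ P : GUn, (semi 1 τ : MulAut PSUn)⁻¹ * (semi g 1)⁻¹ * semi 1 τ = semi P 1 := by
    obtain ⟨g', hg'⟩ := semi_inverse (1 : GUn) τ
    refine ⟨g' * mapGU τ⁻¹ g⁻¹ * mapGU τ⁻¹ 1, ?_⟩
    rw [← eq_inv_of_mul_eq_one_left hg', semi_inv_one, semi_mul, semi_mul, mul_one, inv_mul_cancel]
  have hx' : x = semi P 1 * semi 1 σ * (semi P 1)⁻¹ := by
    rw [← hP]
    have e : x = (semi g τ : MulAut PSUn)⁻¹ * semi 1 σ * semi g τ := by rw [← hconj]; group
    rw [e, semi_decomp g τ]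
    calc ((semi g 1 : MulAut PSUn) * semi 1 τ)⁻¹ * semi 1 σ * (semi g 1 * semi 1 τ)
        = (semi 1 τ)⁻¹ * (semi g 1)⁻¹ * semi 1 σ * semi g 1 * semi 1 τ := by group
      _ = (semi 1 τ)⁻¹ * (semi g 1)⁻¹ * (semi 1 τ * semi 1 σ * (semi 1 τ)⁻¹) * semi g 1 * semi 1 τ := by
          rw [hcomm, mul_inv_cancel_right]
      _ = _ := by group
  refine ⟨σ, P, hσ, hodd, ?_, hx'⟩
  rw [hx', show semi P 1 * semi 1 σ * (semi P 1 : MulAut PSUn)⁻¹ =
    MulAut.conj (semi P 1) (semi 1 σ) from (MulAut.conj_apply _ _).symm, MulEquiv.orderOf_eq,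
    orderOf_semi_one C hn hF]

end Cfsg.Agent.AutPSU
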