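import Cfsg.Agent.Lib.AutPSU.Main
import Mathlib.FieldTheory.Finite.Basic

/-!
The automorphisms of `PSU n` over the field with `q ^ 2` elements.
-/

set_option autoImplicit false

namespace Cfsg.Agent.AutPSU

open Matrix

variable {F : Type*} [Field F] {n q : ℕ}

local notation "Vn" => Fin n → F
local notation "Mn" => Matrix (Fin n) (Fin n) F
local notation "GUn" => Cfsg.GU n F q
local notation "PSUn" => Cfsg.PSU n F q

variable [Fintype F] (hn : 3 ≤ n) (hF : Fintype.card F = q ^ 2)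
include hn hF

theorem two_le_q : 2 ≤ q := by
  have h1 := Fintype.one_lt_card (α := F)
  rw [hF] at h1
  rcases q with _ | _ | q <;> simp_all

theorem exists_semi' (hs : ¬ (n = 3 ∧ q = 2)) (β : MulAut PSUn) :
    ∃ (g : GUn) (τ : F ≃+* F), β = semi g τ := by
  obtain ⟨C⟩ := exists_conj hF
  obtain ⟨p, hp⟩ := CharP.exists F
  haveI : Fact p.Prime := ⟨CharP.char_is_prime F p⟩
  haveI : Nonempty (Fin (n - 2)) := ⟨⟨0, by omega⟩⟩
  obtain ⟨Fr⟩ := Frame.exists_frame C (n := n) (by omega)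
  refine exists_semi C (by omega) hF p Fr ?_ hn β
  by_cases h3 : n = 3
  · exact Or.inr (Frame.exists_cube C hF (by
      have := two_le_q hn hF
      have : q ≠ 2 := fun e => hs ⟨h3, e⟩
      omega))
  · exact Or.inl (by omega)

theorem semi_eq_one_iff {g : GUn} {τ : F ≃+* F} :
    (semi g τ : MulAut PSUn) = 1 ↔
      τ = 1 ∧ ∃ a : F, ∀ x : Vn, ((g : GL (Fin n) F) : Mn) *ᵥ x = a • x := by
  constructor
  · intro h'
    obtain ⟨C⟩ := exists_conj hF
    obtain ⟨p, hp⟩ := CharP.exists F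
    haveI : Fact p.Prime := ⟨CharP.char_is_prime F p⟩
    haveI : Nonempty (Fin (n - 2)) := ⟨⟨0, by omega⟩⟩
    obtain ⟨Fr⟩ := Frame.exists_frame C (n := n) (by omega)
    exact semi_eq_one_imp C (by omega) hF p Fr h'
  · rintro ⟨rfl, a, ha⟩
    exact semi_scalar g a ha

end Cfsg.Agent.AutPSU
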