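import Cfsg.Agent.Lib.AutPSU.Basic

/-!
Hyperbolic frames of the hermitian space, the radical of the stabiliser of an isotropic point and the
transvection groups.
-/

set_option autoImplicit false

namespace Cfsg.Agent.AutPSU

open Matrix

variable {F : Type*} [Field F] {n q k : ℕ}

local notation "Vn" => Fin n → F
local notation "Mn" => Matrix (Fin n) (Fin n) F
local notation "SUn" => Cfsg.SU n F q
local notation "GUn" => Cfsg.GU n F q
local notation "𝕙" => h (q := q)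

/-- A hyperbolic pair completed by an orthonormal basis of its orthogonal. -/
structure Frame (F : Type*) [Field F] (n q k : ℕ) where
  e : Fin n → F
  f : Fin n → F
  b : Fin k → Fin n → F
  hee : h (q := q) e e = 0
  hff : h (q := q) f f = 0
  hef : h (q := q) e f = 1
  hfe : h (q := q) f e = 1
  hbe : ∀ i, h (q := q) (b i) e = 0
  hbf : ∀ i, h (q := q) (b i) f = 0
  hb : ∀ i j, h (q := q) (b i) (b j) = if i = j then 1 else 0
  expand : ∀ x, x = h (q := q) x f • e + h (q := q) x e • f + ∑ i, h (q := q) x (b i) • b i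

variable (C : Conj F q)

section field

include C

theorem exists_anti : ∃ t : F, t ≠ 0 ∧ C.σ t = -t :=
  Transvec.Herm.exists_anti (fun e => C.ne_one.elim fun μ hμ => hμ (RingEquiv.congr_fun e μ)) C.invol

/-- Hilbert 90. -/
theorem exists_div {z : F} (hz : z * C.σ z = 1) : ∃ d, d ≠ 0 ∧ d = z * C.σ d := by
  obtain ⟨t, ht0, ht⟩ := exists_anti C
  by_cases h1 : 1 + z = 0
  · exact ⟨t, ht0, by rw [ht]; linear_combination t * h1⟩
  · exact ⟨1 + z, h1, by rw [map_add, map_one]; linear_combination -hz⟩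

theorem exists_smul_eq {x : Vn} (hx : x ≠ 0) : ∃ w, 𝕙 x w = 1 := by
  obtain ⟨w, hw⟩ : ∃ w, 𝕙 x w ≠ 0 := by
    by_contra! h
    exact hx (nondeg C h)
  exact ⟨C.σ (𝕙 x w)⁻¹ • w, by rw [smul_right C, C.invol, inv_mul_cancel₀ hw]⟩

theorem eq_of_forall {x y : Vn} (H : ∀ w, 𝕙 x w = 𝕙 y w) : x = y :=
  sub_eq_zero.1 (nondeg C fun w => by rw [sub_left C, H, sub_self])

theorem exists_GU (M : Mn) (hM : ∀ x y, 𝕙 (M *ᵥ x) (M *ᵥ y) = 𝕙 x y) :
    ∃ g : GUn, ((g : GL (Fin n) F) : Mn) = M := by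
  have hu : IsUnit M := Matrix.mulVec_injective_iff_isUnit.1 fun x y e => eq_of_forall C fun w => by
    rw [← hM x w, ← hM y w]
    exact congrArg (fun z => 𝕙 z _) e
  exact ⟨⟨hu.unit, fun x y => hM x y⟩, rfl⟩

theorem det_norm {g : GL (Fin n) F} (hg : g ∈ GUn) : (g : Mn).det * C.σ (g : Mn).det = 1 := by
  have e := HermSU.det_mem_normOne (σ := C.σ.toRingHom) C.apply_eq hg
  exact e

end field

namespace Frame

theorem exists_of_pair [Finite F] (C : Conj F q) {e f : Vn} (hee : 𝕙 e e = 0) (hff : 𝕙 f f = 0)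
    (hef : 𝕙 e f = 1) : ∃ Fr : Frame F n q (n - 2), Fr.e = e ∧ Fr.f = f := by
  have hfe : 𝕙 f e = 1 := by rw [symm C e f, hef, map_one]
  have hh := isHerm (n := n) C
  have hg : ∀ c : Fin 2 → F, (∀ j, ∑ i, c i * Cfsg.hermForm n F q (![e, f] i) (![e, f] j) = 0) → c = 0 := by
    intro c hc
    have h0 := hc 0
    have h1 := hc 1
    simp only [Fin.sum_univ_two, Matrix.cons_val_zero, Matrix.cons_val_one] at h0 h1
    change c 0 * 𝕙 e e + c 1 * 𝕙 f e = 0 at h0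
    change c 0 * 𝕙 e f + c 1 * 𝕙 f f = 0 at h1
    rw [hee, hfe] at h0
    rw [hef, hff] at h1
    funext i
    fin_cases i
    · simpa using h1
    · simpa using h0
  obtain ⟨hdim, hW, -⟩ := hh.orth_spec hg
  rw [Fintype.card_fin, Module.finrank_fin_fun] at hdim
  obtain ⟨b, hb⟩ := Hermitian.exists_orthonormal (n := n - 2) hW (by omega)
  have hbe : ∀ i, 𝕙 (b i).1 e = 0 := fun i => hh.mem_orth.1 (b i).2 0
  have hbf : ∀ i, 𝕙 (b i).1 f = 0 := fun i => hh.mem_orth.1 (b i).2 1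
  refine ⟨{ e := e, f := f, b := fun i => (b i).1, hee := hee, hff := hff, hef := hef, hfe := hfe,
            hbe := hbe, hbf := hbf, hb := hb, expand := fun x => ?_ }, rfl, rfl⟩
  obtain ⟨y, hy⟩ : ∃ y, y = x - 𝕙 x f • e - 𝕙 x e • f := ⟨_, rfl⟩
  have hye : 𝕙 y e = 0 := by
    rw [hy, sub_left C, sub_left C, smul_left C, smul_left C, hee, hfe]; ring
  have hyf : 𝕙 y f = 0 := by
    rw [hy, sub_left C, sub_left C, smul_left C, smul_left C, hef, hff]; ring
  have hymem : y ∈ hh.orth ![e, f] := hh.mem_orth.2 fun i => by fin_cases i <;> assumption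
  have li : LinearIndependent F b := hW.linearIndependent_of_gram fun c hc => funext fun j => by
    simpa [hb] using hc j
  have hspan : Submodule.span F (Set.range b) = ⊤ :=
    li.span_eq_top_of_card_eq_finrank' (by rw [Fintype.card_fin]; omega)
  obtain ⟨c, hc⟩ := (Submodule.mem_span_range_iff_exists_fun F).1
    (hspan ▸ Submodule.mem_top (x := (⟨y, hymem⟩ : hh.orth ![e, f])))
  have hc' : y = ∑ i, c i • (b i).1 := by
    have := congrArg Subtype.val hc.symm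
    rw [AddSubmonoidClass.coe_finsetSum] at this
    exact this
  have hcoef : ∀ j, 𝕙 x (b j).1 = c j := by
    intro j
    have : 𝕙 y (b j).1 = 𝕙 x (b j).1 := by
      rw [hy, sub_left C, sub_left C, smul_left C, smul_left C, symm C (b j).1 e, symm C (b j).1 f,
        hbe, hbf, map_zero]
      ring
    rw [← this, hc']
    refine (hh.sum_left _ _ _).trans ?_
    simp [hh.smul_left, hb]
  simp_rw [hcoef]
  rw [← hc', hy]
  abel

theorem exists_of_isotropic [Finite F] (C : Conj F q) {c : Vn} (hc0 : c ≠ 0) (hc : 𝕙 c c = 0) :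
    ∃ Fr : Frame F n q (n - 2), Fr.e = c := by
  obtain ⟨x, hx⟩ := exists_smul_eq C hc0
  obtain ⟨t, ht⟩ := conj_fixed C (x := -𝕙 x x) (by rw [map_neg, self_fixed C])
  have hxc : 𝕙 x c = 1 := by rw [symm C c x, hx, map_one]
  obtain ⟨Fr, hFr, -⟩ := exists_of_pair C hc (f := x + t • c)
    (by rw [add_left C, add_right C, add_right C, smul_left C, smul_left C, smul_right C,
        smul_right C, hc, hx, hxc]; linear_combination ht)
    (by rw [add_right C, smul_right C, hc, hx]; ring)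
  exact ⟨Fr, hFr⟩

theorem exists_frame [Finite F] (C : Conj F q) (hn : 2 ≤ n) : Nonempty (Frame F n q (n - 2)) := by
  obtain ⟨a, ha⟩ := exists_norm C (x := -1) (by rw [map_neg, map_one])
  obtain ⟨i, hi⟩ : ∃ i : Fin n, i.val = 0 := ⟨⟨0, by omega⟩, rfl⟩
  obtain ⟨j, hj⟩ : ∃ j : Fin n, j.val = 1 := ⟨⟨1, by omega⟩, rfl⟩
  have hij : i ≠ j := fun e => by rw [e, hj] at hi; exact one_ne_zero hi
  have hs : ∀ l m : Fin n, 𝕙 (Pi.single l (1 : F) : Vn) (Pi.single m 1) = if l = m then 1 else 0 :=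
    fun l m => by
      rw [h, HermStd.hermForm_single (σ := C.σ.toRingHom) C.apply_eq]
  have hne : (Pi.single i (1 : F) + a • Pi.single j 1 : Vn) ≠ 0 := fun e => by
    simpa [hij] using congrFun e i
  obtain ⟨Fr, -⟩ := exists_of_isotropic C hne (by
    rw [add_left C, add_right C, add_right C, smul_left C, smul_left C, smul_right C, smul_right C,
      hs, hs, hs, hs, if_pos rfl, if_pos rfl, if_neg hij, if_neg hij.symm]
    linear_combination ha)
  exact ⟨Fr⟩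

variable (Fr : Frame F n q k)

/-- Projection to the orthogonal of the hyperbolic pair. -/
def P (x : Vn) : Vn := x - 𝕙 x Fr.f • Fr.e - 𝕙 x Fr.e • Fr.f

theorem decomp (x : Vn) : x = 𝕙 x Fr.f • Fr.e + 𝕙 x Fr.e • Fr.f + Fr.P x := by
  rw [P]; abel

theorem P_eq_sum (x : Vn) : Fr.P x = ∑ i, 𝕙 x (Fr.b i) • Fr.b i := by
  conv_lhs => rw [P]; arg 1; arg 1; rw [Fr.expand x]
  abel

include C

theorem e_ne_zero : Fr.e ≠ 0 := fun e0 => by
  have := Fr.hef
  rw [e0, zero_left C] at this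
  exact zero_ne_one this

theorem f_ne_zero : Fr.f ≠ 0 := fun e0 => by
  have := Fr.hef
  rw [e0, zero_right C] at this
  exact zero_ne_one this

theorem hbe' (i : Fin k) : 𝕙 Fr.e (Fr.b i) = 0 := (eq_zero_comm C).1 (Fr.hbe i)

theorem hbf' (i : Fin k) : 𝕙 Fr.f (Fr.b i) = 0 := (eq_zero_comm C).1 (Fr.hbf i)

/-- The orthogonal of the hyperbolic pair. -/
def W : Submodule F Vn where
  carrier := {v | 𝕙 v Fr.e = 0 ∧ 𝕙 v Fr.f = 0}
  add_mem' := fun {a b} ha hb => by simp_all [add_left C]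
  zero_mem' := ⟨zero_left C _, zero_left C _⟩
  smul_mem' c a ha := by simp_all [smul_left C]

theorem mem_W {v : Vn} : v ∈ Fr.W C ↔ 𝕙 v Fr.e = 0 ∧ 𝕙 v Fr.f = 0 := Iff.rfl

theorem P_mem (x : Vn) : Fr.P x ∈ Fr.W C := by
  constructor
  · rw [P, sub_left C, sub_left C, smul_left C, smul_left C, Fr.hee, Fr.hfe]; ring
  · rw [P, sub_left C, sub_left C, smul_left C, smul_left C, Fr.hef, Fr.hff]; ring

theorem b_mem (i : Fin k) : Fr.b i ∈ Fr.W C := ⟨Fr.hbe i, Fr.hbf i⟩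

theorem P_of_mem {v : Vn} (hv : v ∈ Fr.W C) : Fr.P v = v := by
  simp [P, hv.1, hv.2]

theorem P_add (x y : Vn) : Fr.P (x + y) = Fr.P x + Fr.P y := by
  simp only [P, add_left C, add_smul]; abel

theorem P_smul (c : F) (x : Vn) : Fr.P (c • x) = c • Fr.P x := by
  simp only [P, smul_left C, smul_sub, mul_smul]

theorem P_e : Fr.P Fr.e = 0 := by simp [P, Fr.hef, Fr.hee]

theorem P_f : Fr.P Fr.f = 0 := by simp [P, Fr.hff, Fr.hfe]

theorem h_P_left {v : Vn} (hv : v ∈ Fr.W C) (x : Vn) : 𝕙 (Fr.P x) v = 𝕙 x v := by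
  rw [P, sub_left C, sub_left C, smul_left C, smul_left C, (eq_zero_comm C).1 hv.1,
    (eq_zero_comm C).1 hv.2]
  ring

theorem h_decomp (x y : Vn) : 𝕙 x y = 𝕙 x Fr.f * C.σ (𝕙 y Fr.e) + 𝕙 x Fr.e * C.σ (𝕙 y Fr.f) +
    𝕙 (Fr.P x) (Fr.P y) := by
  conv_lhs => rw [Fr.decomp y]
  rw [add_right C, add_right C, smul_right C, smul_right C, ← Fr.h_P_left C (Fr.P_mem C y) x]
  ring

theorem W_nondeg {v : Vn} (hv : v ∈ Fr.W C) (H : ∀ w ∈ Fr.W C, 𝕙 v w = 0) : v = 0 :=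
  nondeg C fun x => by
    rw [Fr.h_decomp C v x, hv.1, hv.2, Fr.P_of_mem C hv, H _ (Fr.P_mem C x)]
    ring

theorem W_eq_of_forall {v v' : Vn} (hv : v ∈ Fr.W C) (hv' : v' ∈ Fr.W C)
    (H : ∀ w ∈ Fr.W C, 𝕙 v w = 𝕙 v' w) : v = v' :=
  sub_eq_zero.1 (Fr.W_nondeg C (sub_mem hv hv') fun w hw => by rw [sub_left C, H w hw, sub_self])

theorem exists_W_one {v : Vn} (hv : v ∈ Fr.W C) (hv0 : v ≠ 0) : ∃ w ∈ Fr.W C, 𝕙 v w = 1 := by
  obtain ⟨w, hw, hvw⟩ : ∃ w ∈ Fr.W C, 𝕙 v w ≠ 0 := by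
    by_contra! h
    exact hv0 (Fr.W_nondeg C hv h)
  exact ⟨C.σ (𝕙 v w)⁻¹ • w, Submodule.smul_mem _ _ hw,
    by rw [smul_right C, C.invol, inv_mul_cancel₀ hvw]⟩

theorem b_ne_zero (i : Fin k) : Fr.b i ≠ 0 := fun e0 => by
  have := Fr.hb i i
  rw [e0, zero_left C, if_pos rfl] at this
  exact zero_ne_one this

theorem ext_frame {s t : SUn} (he : act s Fr.e = act t Fr.e) (hf : act s Fr.f = act t Fr.f)
    (hw : ∀ v ∈ Fr.W C, act s v = act t v) : s = t := ext_act fun x => by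
  rw [Fr.decomp x, act_add, act_add, act_smul, act_smul, he, hf, hw _ (Fr.P_mem C x), act_add,
    act_add, act_smul, act_smul]

end Frame

/-! ### the radical and the transvection groups -/

/-- The transvection group of the vector `c`. -/
def cen (C : Conj F q) (c : Vn) : Subgroup SUn where
  carrier := {s | act s c = c ∧ ∃ l : F, ∀ x, act s x = x + (l * 𝕙 x c) • c}
  one_mem' := ⟨act_one c, 0, fun x => by rw [act_one]; simp⟩
  mul_mem' := by
    rintro s t ⟨hs, l, hl⟩ ⟨ht, m, hm⟩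
    refine ⟨by rw [act_mul, ht, hs], l + m, fun x => ?_⟩
    have e : 𝕙 (act t x) c = 𝕙 x c := by
      conv_lhs => rw [← ht]
      exact act_pres t x c
    rw [act_mul, hl, e, hm, add_assoc, ← add_smul]
    congr 2
    ring
  inv_mem' := by
    rintro s ⟨hs, l, hl⟩
    have hi : act s⁻¹ c = c := by
      conv_lhs => rw [← hs]
      exact act_inv_act s c
    refine ⟨hi, -l, fun x => act_inj s ?_⟩
    rw [act_act_inv, act_add, act_smul, hs, hl, add_assoc, ← add_smul]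
    ring_nf
    simp

/-- The radical of the stabiliser of the point of `e`. -/
def rad (C : Conj F q) (e : Vn) : Subgroup SUn where
  carrier := {s | act s e = e ∧ ∀ w, 𝕙 w e = 0 → ∃ l : F, act s w = w + l • e}
  one_mem' := ⟨act_one e, fun w _ => ⟨0, by rw [act_one]; simp⟩⟩
  mul_mem' := by
    rintro s t ⟨hs, hs'⟩ ⟨ht, ht'⟩
    refine ⟨by rw [act_mul, ht, hs], fun w hw => ?_⟩
    obtain ⟨m, hm⟩ := ht' w hw
    obtain ⟨l, hl⟩ := hs' w hw
    exact ⟨l + m, by rw [act_mul, hm, act_add, act_smul, hl, hs, add_assoc, ← add_smul]⟩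
  inv_mem' := by
    rintro s ⟨hs, hs'⟩
    have hi : act s⁻¹ e = e := by
      conv_lhs => rw [← hs]
      exact act_inv_act s e
    refine ⟨hi, fun w hw => ?_⟩
    obtain ⟨l, hl⟩ := hs' w hw
    refine ⟨-l, act_inj s ?_⟩
    rw [act_act_inv, act_add, act_smul, hl, hs, add_assoc, ← add_smul, add_neg_cancel, zero_smul,
      add_zero]

theorem mem_cen {c : Vn} {s : SUn} :
    s ∈ cen C c ↔ act s c = c ∧ ∃ l : F, ∀ x, act s x = x + (l * 𝕙 x c) • c := Iff.rfl

theorem mem_rad {e : Vn} {s : SUn} :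
    s ∈ rad C e ↔ act s e = e ∧ ∀ w, 𝕙 w e = 0 → ∃ l : F, act s w = w + l • e := Iff.rfl

theorem cen_le_rad (c : Vn) : cen C c ≤ rad C c := fun s ⟨hs, l, hl⟩ =>
  ⟨hs, fun w hw => ⟨0, by rw [hl, hw, mul_zero]⟩⟩

theorem exists_cen {c : Vn} (hc : 𝕙 c c = 0) {l : F} (hl : C.σ l = -l) :
    ∃ s ∈ cen C c, ∀ x, act s x = x + (l * 𝕙 x c) • c := by
  obtain ⟨s, hs⟩ := exists_SU (q := q) (Transvec.tvMat (l • c) (form C c))
    (by rw [Transvec.det_tvMat, form_apply, smul_left C, hc, mul_zero, add_zero]) (fun x y => by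
      rw [Transvec.tvMat_mulVec, Transvec.tvMat_mulVec, form_apply, form_apply, smul_smul, smul_smul,
        add_left C, add_right C, add_right C, smul_left C, smul_left C, smul_right C, smul_right C,
        hc, symm C y c]
      simp only [map_mul, hl]
      ring)
  have hs' : ∀ x, act s x = x + (l * 𝕙 x c) • c := fun x => by
    rw [hs, Transvec.tvMat_mulVec, form_apply, smul_smul, mul_comm]
  exact ⟨s, ⟨by rw [hs', hc, mul_zero, zero_smul, add_zero], l, hs'⟩, hs'⟩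

theorem cen_conj {c : Vn} (t : SUn) {s : SUn} (hs : s ∈ cen C c) :
    t * s * t⁻¹ ∈ cen C (act t c) := by
  obtain ⟨hs1, l, hl⟩ := hs
  refine ⟨by rw [act_mul, act_mul, act_inv_act, hs1], l, fun x => ?_⟩
  have e : 𝕙 (act t⁻¹ x) c = 𝕙 x (act t c) := by
    conv_rhs => rw [← act_act_inv t x]
    exact (act_pres t _ _).symm
  rw [act_mul, act_mul, hl, act_add, act_smul, act_act_inv, e]

theorem rad_conj {e : Vn} (t : SUn) {s : SUn} (hs : s ∈ rad C e) :
    t * s * t⁻¹ ∈ rad C (act t e) := by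
  refine ⟨by rw [act_mul, act_mul, act_inv_act, hs.1], fun w hw => ?_⟩
  obtain ⟨l, hl⟩ := hs.2 (act t⁻¹ w) (by
    rw [← act_pres t, act_act_inv]; exact hw)
  exact ⟨l, by rw [act_mul, act_mul, hl, act_add, act_smul, act_act_inv]⟩

theorem cen_smul {a : F} (ha : a ≠ 0) (c : Vn) : cen C (a • c) = cen C c := by
  ext s
  simp only [mem_cen, act_smul, smul_right C]
  constructor
  · rintro ⟨h1, l, hl⟩
    exact ⟨smul_right_injective _ ha h1, l * C.σ a * a, fun x => by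
      rw [hl, smul_smul]; congr 2; ring⟩
  · rintro ⟨h1, l, hl⟩
    refine ⟨by rw [h1], l / (C.σ a * a), fun x => ?_⟩
    rw [hl, smul_smul]
    congr 2
    have : C.σ a ≠ 0 := fun e0 => ha (by simpa using congrArg C.σ e0)
    field_simp

theorem rad_smul {a : F} (ha : a ≠ 0) (e : Vn) : rad C (a • e) = rad C e := by
  have hσ : C.σ a ≠ 0 := fun e0 => ha (by simpa using congrArg C.σ e0)
  ext s
  simp only [mem_rad, act_smul, smul_right C, mul_eq_zero, hσ, false_or]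
  constructor
  · rintro ⟨h1, h2⟩
    refine ⟨smul_right_injective _ ha h1, fun w hw => ?_⟩
    obtain ⟨l, hl⟩ := h2 w hw
    exact ⟨l * a, by rw [hl, smul_smul]⟩
  · rintro ⟨h1, h2⟩
    refine ⟨by rw [h1], fun w hw => ?_⟩
    obtain ⟨l, hl⟩ := h2 w hw
    exact ⟨l / a, by rw [hl, smul_smul, div_mul_cancel₀ _ ha]⟩

namespace Frame

variable (Fr : Frame F n q k)

/-- The weight of an element of the radical. -/
def wt (s : SUn) : Vn := Fr.P (act s Fr.f)

/-- The central coordinate of an element of the radical. -/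
def al (s : SUn) : F := 𝕙 (act s Fr.f) Fr.f

include C

theorem act_f {s : SUn} (hs : s ∈ rad C Fr.e) :
    act s Fr.f = Fr.al s • Fr.e + Fr.f + Fr.wt s := by
  conv_lhs => rw [Fr.decomp (act s Fr.f)]
  have e : 𝕙 (act s Fr.f) Fr.e = 1 := by
    conv_lhs => rw [← hs.1]
    exact (act_pres s _ _).trans Fr.hfe
  rw [e, one_smul]
  rfl

theorem al_norm {s : SUn} (hs : s ∈ rad C Fr.e) :
    Fr.al s + C.σ (Fr.al s) + 𝕙 (Fr.wt s) (Fr.wt s) = 0 := by
  have e1 := act_pres s Fr.f Fr.f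
  have e : 𝕙 (act s Fr.f) Fr.e = 1 := by
    conv_lhs => rw [← hs.1]
    exact (act_pres s _ _).trans Fr.hfe
  rw [Fr.hff, Fr.h_decomp C, e, map_one, mul_one, one_mul] at e1
  exact e1

theorem act_W {s : SUn} (hs : s ∈ rad C Fr.e) {w : Vn} (hw : w ∈ Fr.W C) :
    act s w = w - 𝕙 w (Fr.wt s) • Fr.e := by
  obtain ⟨l, hl⟩ := hs.2 w hw.1
  have e1 := act_pres s w Fr.f
  rw [hl, Fr.act_f C hs, hw.2, add_left C, add_right C, add_right C, add_right C, add_right C,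
    smul_left C, smul_left C, smul_left C, smul_right C, smul_right C, hw.1, hw.2, Fr.hef, Fr.hee,
    wt, (eq_zero_comm C).1 (Fr.P_mem C _).1] at e1
  have hl' : l = -𝕙 w (Fr.wt s) := by rw [wt]; linear_combination e1
  rw [hl, hl', neg_smul, sub_eq_add_neg]

theorem rad_ext {s t : SUn} (hs : s ∈ rad C Fr.e) (ht : t ∈ rad C Fr.e) (h1 : Fr.al s = Fr.al t)
    (h2 : Fr.wt s = Fr.wt t) : s = t :=
  Fr.ext_frame C (hs.1.trans ht.1.symm) (by rw [Fr.act_f C hs, Fr.act_f C ht, h1, h2])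
    fun v hv => by rw [Fr.act_W C hs hv, Fr.act_W C ht hv, h2]

theorem wt_mem (s : SUn) : Fr.wt s ∈ Fr.W C := Fr.P_mem C _

theorem act_rad_mul_f {s t : SUn} (hs : s ∈ rad C Fr.e) (ht : t ∈ rad C Fr.e) :
    act (s * t) Fr.f = (Fr.al s + Fr.al t - 𝕙 (Fr.wt t) (Fr.wt s)) • Fr.e + Fr.f +
      (Fr.wt s + Fr.wt t) := by
  rw [act_mul, Fr.act_f C ht, act_add, act_add, act_smul, hs.1, Fr.act_f C hs,
    Fr.act_W C hs (Fr.wt_mem C t), sub_smul, add_smul]
  abel

theorem al_of_eq {a : F} {v : Vn} (hv : v ∈ Fr.W C) {x : Vn} (hx : x = a • Fr.e + Fr.f + v) :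
    𝕙 x Fr.f = a ∧ Fr.P x = v := by
  subst hx
  constructor
  · rw [add_left C, add_left C, smul_left C, Fr.hef, Fr.hff, hv.2]; ring
  · rw [Fr.P_add C, Fr.P_add C, Fr.P_smul C, Fr.P_e C, Fr.P_f C, Fr.P_of_mem C hv]; simp

theorem wt_mul {s t : SUn} (hs : s ∈ rad C Fr.e) (ht : t ∈ rad C Fr.e) :
    Fr.wt (s * t) = Fr.wt s + Fr.wt t :=
  (Fr.al_of_eq C (add_mem (Fr.wt_mem C s) (Fr.wt_mem C t)) (Fr.act_rad_mul_f C hs ht)).2

theorem al_mul {s t : SUn} (hs : s ∈ rad C Fr.e) (ht : t ∈ rad C Fr.e) :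
    Fr.al (s * t) = Fr.al s + Fr.al t - 𝕙 (Fr.wt t) (Fr.wt s) :=
  (Fr.al_of_eq C (add_mem (Fr.wt_mem C s) (Fr.wt_mem C t)) (Fr.act_rad_mul_f C hs ht)).1

theorem wt_one : Fr.wt (1 : SUn) = 0 := by rw [wt, act_one, Fr.P_f C]

theorem al_one : Fr.al (1 : SUn) = 0 := by rw [al, act_one, Fr.hff]

theorem exists_rad {v : Vn} (hv : v ∈ Fr.W C) {a : F} (ha : a + C.σ a + 𝕙 v v = 0) :
    ∃ s ∈ rad C Fr.e, Fr.wt s = v ∧ Fr.al s = a := by
  have hve : 𝕙 Fr.e v = 0 := (eq_zero_comm C).1 hv.1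
  have hu : 𝕙 (a • Fr.e + v) Fr.e = 0 := by rw [add_left C, smul_left C, Fr.hee, hv.1]; ring
  obtain ⟨s, hs⟩ := exists_SU (q := q)
    (Transvec.tvMat (a • Fr.e + v) (form C Fr.e) * Transvec.tvMat (-Fr.e) (form C v))
    (by rw [Matrix.det_mul, Transvec.det_tvMat, Transvec.det_tvMat, form_apply, form_apply, hu,
      ← neg_one_smul F Fr.e, smul_left C, hve]; ring) (fun x y => by
      simp only [← Matrix.mulVec_mulVec, Transvec.tvMat_mulVec, form_apply, add_left C, add_right C,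
        smul_left C, smul_right C, ← neg_one_smul F Fr.e, map_mul, map_neg, map_one, map_add,
        Fr.hee, hve, hv.1, map_zero, symm C y Fr.e, symm C y v]
      linear_combination (𝕙 x Fr.e * C.σ (𝕙 y Fr.e)) * ha)
  have hs' : ∀ x, act s x = x - 𝕙 x v • Fr.e + 𝕙 x Fr.e • (a • Fr.e + v) := fun x => by
    rw [hs, ← Matrix.mulVec_mulVec, Transvec.tvMat_mulVec, Transvec.tvMat_mulVec, form_apply,
      form_apply, smul_neg, ← sub_eq_add_neg, sub_left C, smul_left C, Fr.hee, mul_zero, sub_zero]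
  have hsf : act s Fr.f = a • Fr.e + Fr.f + v := by
    rw [hs', Fr.hfe, (eq_zero_comm C).1 hv.2, zero_smul, sub_zero, one_smul]; abel
  refine ⟨s, ⟨?_, fun w hw => ⟨-𝕙 w v, ?_⟩⟩, (Fr.al_of_eq C hv hsf).2, (Fr.al_of_eq C hv hsf).1⟩
  · rw [hs', Fr.hee, hve]; simp
  · rw [hs', hw]; simp [sub_eq_add_neg]

theorem exists_wt [Finite F] {v : Vn} (hv : v ∈ Fr.W C) : ∃ s ∈ rad C Fr.e, Fr.wt s = v := by
  obtain ⟨a, ha⟩ := conj_fixed C (x := -𝕙 v v) (by rw [map_neg, self_fixed C])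
  obtain ⟨s, hs, h1, -⟩ := Fr.exists_rad C hv (a := a) (by linear_combination ha)
  exact ⟨s, hs, h1⟩

theorem exists_rad_of_point {y : Vn} (hy : 𝕙 y y = 0) (hye : 𝕙 y Fr.e = 1) :
    ∃ s ∈ rad C Fr.e, act s Fr.f = y := by
  have e1 := Fr.h_decomp C y y
  rw [hy, hye, map_one, mul_one, one_mul] at e1
  obtain ⟨s, hs, h1, h2⟩ := Fr.exists_rad C (Fr.P_mem C y) (a := 𝕙 y Fr.f) e1.symm
  refine ⟨s, hs, ?_⟩
  rw [Fr.act_f C hs, h1, h2]
  conv_rhs => rw [Fr.decomp y, hye, one_smul]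

theorem mem_cen_iff_wt {s : SUn} :
    s ∈ cen C Fr.e ↔ s ∈ rad C Fr.e ∧ Fr.wt s = 0 := by
  constructor
  · intro hs
    refine ⟨cen_le_rad C _ hs, ?_⟩
    obtain ⟨-, l, hl⟩ := hs
    rw [wt, hl, Fr.hfe, mul_one, Fr.P_add C, Fr.P_smul C, Fr.P_e C, Fr.P_f C]
    simp
  · rintro ⟨hs, h0⟩
    refine ⟨hs.1, Fr.al s, fun x => ?_⟩
    conv_lhs => rw [Fr.decomp x]
    rw [act_add, act_add, act_smul, act_smul, hs.1, Fr.act_f C hs, Fr.act_W C hs (Fr.P_mem C x), h0,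
      zero_right C]
    conv_rhs => arg 1; rw [Fr.decomp x]
    simp only [zero_smul, sub_zero, add_zero, smul_add, smul_smul, mul_comm (Fr.al s)]
    abel

theorem al_anti {z : SUn} (hz : z ∈ cen C Fr.e) : C.σ (Fr.al z) = -Fr.al z := by
  obtain ⟨h1, h2⟩ := (Fr.mem_cen_iff_wt C).1 hz
  have e1 := Fr.al_norm C h1
  rw [h2, zero_left C] at e1
  linear_combination e1

theorem wt_pow {s : SUn} (hs : s ∈ rad C Fr.e) (m : ℕ) : Fr.wt (s ^ m) = m • Fr.wt s := by
  induction m with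
  | zero => rw [pow_zero, Fr.wt_one C, zero_nsmul]
  | succ m ih => rw [pow_succ, Fr.wt_mul C (pow_mem hs m) hs, ih, succ_nsmul]

theorem al_pow {s : SUn} (hs : s ∈ rad C Fr.e) (h0 : Fr.wt s = 0) (m : ℕ) :
    Fr.al (s ^ m) = m • Fr.al s := by
  induction m with
  | zero => rw [pow_zero, Fr.al_one C, zero_nsmul]
  | succ m ih => rw [pow_succ, Fr.al_mul C (pow_mem hs m) hs, ih, h0, zero_left C, sub_zero,
      succ_nsmul]

theorem rad_pow (p : ℕ) [CharP F p] {s : SUn} (hs : s ∈ rad C Fr.e) : s ^ p ^ 2 = 1 := by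
  have hv : ∀ v : Vn, p • v = 0 := fun v => by
    rw [← Nat.cast_smul_eq_nsmul F, CharP.cast_eq_zero, zero_smul]
  have h1 : Fr.wt (s ^ p) = 0 := by rw [Fr.wt_pow C hs, hv]
  have h2 : Fr.al ((s ^ p) ^ p) = 0 := by
    rw [Fr.al_pow C (pow_mem hs p) h1, ← Nat.cast_smul_eq_nsmul F, CharP.cast_eq_zero, zero_smul]
  rw [pow_two, pow_mul]
  exact Fr.rad_ext C (pow_mem (pow_mem hs p) p) (one_mem _) (h2.trans (Fr.al_one C).symm)
    (by rw [Fr.wt_pow C (pow_mem hs p), h1, nsmul_zero, Fr.wt_one C])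

theorem isPGroup_rad (p : ℕ) [CharP F p] : IsPGroup p (rad C Fr.e) := fun s =>
  ⟨2, Subtype.ext (Fr.rad_pow C p s.2)⟩

end Frame

end Cfsg.Agent.AutPSU
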