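import Cfsg.Agent.Lib.AutPSU.Centralizer
import Cfsg.Agent.Lib.AutPSL.GraphInvClasses
import Mathlib.FieldTheory.Finite.GaloisField

/-!
Involutory graph automorphisms of `PSU_n`: descent to forms over the field with `q` elements.
-/

set_option autoImplicit false

namespace Cfsg.Agent.AutPSU

open Matrix
open Cfsg
open Cfsg.Agent.SimForms (Cong GSim)

variable {F : Type*} [Field F] {n q : ℕ} {F₀ : Type*} [Field F₀]

local notation "Mn" => Matrix (Fin n) (Fin n) F
local notation "M0" => Matrix (Fin n) (Fin n) F₀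
local notation "GUn" => Cfsg.GU n F q
local notation "GLn" => GL (Fin n) F
local notation "PSUn" => Cfsg.PSU n F q

/-- The matrix of a unitary element. -/
abbrev mat (g : GUn) : Mn := ((g : GLn) : Mn)

/-- An embedding of the small field onto the fixed field. -/
structure Emb (C : Conj F q) (F₀ : Type*) [Field F₀] where
  ι : F₀ →+* F
  fixed : ∀ a, C.σ (ι a) = ι a
  mem : ∀ x, C.σ x = x → ∃ a, ι a = x

theorem exists_emb [Fintype F] [Fintype F₀] (C : Conj F q) (hF : Fintype.card F = q ^ 2)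
    (hF₀ : Fintype.card F₀ = q) : Nonempty (Emb C F₀) := by
  classical
  have hne : C.σ.toRingHom ≠ RingHom.id F := fun e => by
    obtain ⟨μ, hμ⟩ := C.ne_one
    exact hμ (RingHom.congr_fun e μ)
  have hc : Nat.card (Hermitian.fixed C.σ.toRingHom) = q := by
    refine Nat.pow_left_injective two_ne_zero ?_
    show Nat.card (Hermitian.fixed C.σ.toRingHom) ^ 2 = q ^ 2
    rw [← Hermitian.card_eq_sq hne C.invol, Nat.card_eq_fintype_card, hF]
  let K : Subfield F := RingHom.eqLocusField C.σ.toRingHom (RingHom.id F)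
  have hK : Nat.card K = q := by
    rw [← hc]
    exact Nat.card_congr (Equiv.subtypeEquivRight fun x => Iff.rfl)
  haveI : Fintype K := Fintype.ofFinite _
  let e : F₀ ≃+* K := FiniteField.ringEquivOfCardEq (by rw [hF₀, ← hK, Nat.card_eq_fintype_card])
  exact ⟨⟨K.subtype.comp e.toRingHom, fun a => (e a).2, fun x hx =>
    ⟨e.symm ⟨x, hx⟩, congrArg Subtype.val (e.apply_symm_apply ⟨x, hx⟩)⟩⟩⟩

section basic

variable (C : Conj F q)
include C

theorem gu_mul (g : GUn) : (mat g)ᵀ * (mat g).map C.σ = 1 :=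
  (HermSU.mem_GU_iff (σ := C.σ.toRingHom) C.apply_eq _).1 g.2

theorem gu_mul' (g : GUn) : ((mat g).map C.σ)ᵀ * mat g = 1 := by
  have h := congrArg Matrix.transpose (gu_mul C g)
  rwa [Matrix.transpose_mul, Matrix.transpose_transpose, Matrix.transpose_one] at h

theorem exists_gu (M : Mn) (h : Mᵀ * M.map C.σ = 1) : ∃ g : GUn, mat g = M := by
  have hu : IsUnit M := by
    have := congrArg Matrix.det h
    rw [Matrix.det_mul, Matrix.det_transpose, Matrix.det_one] at this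
    exact (Matrix.isUnit_iff_isUnit_det _).2 (IsUnit.of_mul_eq_one _ this)
  exact ⟨⟨hu.unit, (HermSU.mem_GU_iff (σ := C.σ.toRingHom) C.apply_eq _).2 h⟩, rfl⟩

theorem map_map_conj (M : Mn) : (M.map C.σ).map C.σ = M := Matrix.ext fun i j => C.invol _

end basic

theorem map_smul' (τ : F ≃+* F) (a : F) (M : Mn) : (a • M).map τ = τ a • M.map τ := by
  ext i j; simp

theorem mat_mul (g g' : GUn) : mat (g * g') = mat g * mat g' := rfl

theorem mat_mapGU (τ : F ≃+* F) (g : GUn) : mat (mapGU τ g) = (mat g).map τ := rfl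

theorem mat_ne_zero [Nonempty (Fin n)] (g : GUn) : mat g ≠ 0 := fun h =>
  not_isUnit_zero (h ▸ (g : GLn).isUnit : IsUnit (0 : Mn))

theorem emb_smul (ι : F₀ →+* F) (a : F₀) (A : M0) : (a • A).map ι = ι a • A.map ι := by
  ext i j; simp

theorem emb_inj (ι : F₀ →+* F) {A B : M0} (h : A.map ι = B.map ι) : A = B :=
  Matrix.ext fun i j => ι.injective (congrFun (congrFun h i) j)

/-- A matrix that is fixed up to a scalar is a multiple of a fixed one. -/
theorem exists_fixed_multiple {C : Conj F q} (E : Emb C F₀) {Q : Mn} (hQ : Q ≠ 0) {c : F}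
    (h : Q.map C.σ = c • Q) : ∃ (t : F) (P : M0), t ≠ 0 ∧ C.σ t = c * t ∧ Q = t • P.map E.ι := by
  obtain ⟨i, j, hij⟩ : ∃ i j, Q i j ≠ 0 := by
    by_contra! h0
    exact hQ (Matrix.ext h0)
  have hs : ∀ k l, C.σ (Q k l) = c * Q k l := fun k l => congrFun (congrFun h k) l
  have hc : c ≠ 0 := fun e => (map_ne_zero C.σ).2 hij (by rw [hs, e, zero_mul])
  have hf : ∀ k l, C.σ (Q k l / Q i j) = Q k l / Q i j := fun k l => by
    rw [map_div₀, hs, hs, mul_div_mul_left _ _ hc]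
  choose P hP using fun k l => E.mem _ (hf k l)
  refine ⟨Q i j, Matrix.of P, hij, hs i j, Matrix.ext fun k l => ?_⟩
  rw [Matrix.smul_apply, Matrix.map_apply, Matrix.of_apply, hP, smul_eq_mul, mul_div_cancel₀ _ hij]

/-- Descent data: the fixed form `H` of the semilinear map of `g`. -/
structure Dat {C : Conj F q} (E : Emb C F₀) (H : M0) (g : GUn) where
  B : GLn
  θ : F
  z : F
  θ_ne : θ ≠ 0
  herm : (B : Mn)ᵀ * (B : Mn).map C.σ = θ • H.map E.ι
  twist : mat g * (B : Mn).map C.σ = z • (B : Mn)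

namespace Dat

variable {C : Conj F q} {E : Emb C F₀} {H H' : Matrix (Fin n) (Fin n) F₀}
  {g g' : Cfsg.GU n F q}

theorem H_unit (d : Dat E H g) : IsUnit H := by
  rw [Matrix.isUnit_iff_isUnit_det, isUnit_iff_ne_zero]
  intro h0
  have e := congrArg Matrix.det d.herm
  rw [Matrix.det_mul, Matrix.det_transpose, Matrix.det_smul, ← RingHom.mapMatrix_apply,
    ← RingHom.map_det, h0, map_zero, mul_zero] at e
  rcases mul_eq_zero.1 e with e | e
  · exact ((Matrix.isUnit_iff_isUnit_det _).1 d.B.isUnit).ne_zero e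
  · exact ((Matrix.isUnit_iff_isUnit_det _).1 (AutPSL.mapGL C.σ d.B).isUnit).ne_zero e

theorem H_ne [Nonempty (Fin n)] (d : Dat E H g) : H ≠ 0 := fun h =>
  not_isUnit_zero (h ▸ d.H_unit : IsUnit (0 : M0))

theorem z_ne [Nonempty (Fin n)] (d : Dat E H g) : d.z ≠ 0 := fun h => by
  have e : ((g : GLn) * AutPSL.mapGL C.σ d.B : GLn).val = 0 := by
    rw [Units.val_mul, AutPSL.mapGL_coe]
    exact d.twist.trans (by rw [h, zero_smul])
  exact not_isUnit_zero (e ▸ ((g : GLn) * AutPSL.mapGL C.σ d.B).isUnit)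

theorem herm_symm (d : Dat E H g) : C.σ d.θ • H.map E.ι = d.θ • Hᵀ.map E.ι := by
  have e1 : ((d.B : Mn)ᵀ * (d.B : Mn).map C.σ).map C.σ =
      ((d.B : Mn)ᵀ * (d.B : Mn).map C.σ)ᵀ := by
    rw [Matrix.map_mul, map_map_conj C, Matrix.transpose_map, Matrix.transpose_mul,
      Matrix.transpose_transpose]
  rw [d.herm, map_smul', Matrix.transpose_smul] at e1
  have e2 : (H.map E.ι).map C.σ = H.map E.ι := Matrix.ext fun i j => E.fixed _
  rw [e2, ← Matrix.transpose_map] at e1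
  exact e1

/-- The connecting matrix of two data. -/
noncomputable def conn (d : Dat E H g) (d' : Dat E H' g') (t : F) (P : M0) : Mn :=
  t • ((d.B : Mn) * P.map E.ι * ((d'.B⁻¹ : GLn) : Mn))

theorem conn_map (d : Dat E H g) (d' : Dat E H' g') (t : F) (P : M0) :
    (conn d d' t P).map C.σ = C.σ t •
      ((d.B : Mn).map C.σ * P.map E.ι * (((d'.B⁻¹ : GLn) : Mn)).map C.σ) := by
  rw [conn, map_smul', Matrix.map_mul, Matrix.map_mul]
  congr 3
  exact Matrix.ext fun i j => E.fixed _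

theorem inv_map (B : GLn) : (B : Mn).map C.σ * (((B⁻¹ : GLn) : Mn)).map C.σ = 1 := by
  rw [← Matrix.map_mul, Units.mul_inv,
    Matrix.map_one _ (map_zero C.σ) (map_one C.σ)]

theorem map_inv (B : GLn) : (((B⁻¹ : GLn) : Mn)).map C.σ * (B : Mn).map C.σ = 1 := by
  rw [← Matrix.map_mul, Units.inv_mul,
    Matrix.map_one _ (map_zero C.σ) (map_one C.σ)]

/-- The connecting matrix is unitary exactly when the forms match. -/
theorem conn_gu_iff (d : Dat E H g) (d' : Dat E H' g') (t : F) (P : M0) :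
    (conn d d' t P)ᵀ * (conn d d' t P).map C.σ = 1 ↔
      (t * C.σ t * d.θ) • (Pᵀ * H * P).map E.ι = d'.θ • H'.map E.ι := by
  have e : (conn d d' t P)ᵀ * (conn d d' t P).map C.σ = ((d'.B⁻¹ : GLn) : Mn)ᵀ *
      ((t * C.σ t * d.θ) • (Pᵀ * H * P).map E.ι) * (((d'.B⁻¹ : GLn) : Mn)).map C.σ := by
    rw [conn_map, conn, Matrix.transpose_smul, Matrix.smul_mul, Matrix.mul_smul, smul_smul,
      Matrix.transpose_mul, Matrix.transpose_mul, Matrix.map_mul, Matrix.map_mul,
      Matrix.transpose_map]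
    have e' : (P.map E.ι)ᵀ * (d.B : Mn)ᵀ * ((d.B : Mn).map C.σ * P.map E.ι) =
        d.θ • ((P.map E.ι)ᵀ * H.map E.ι * P.map E.ι) := by
      rw [Matrix.mul_assoc, ← Matrix.mul_assoc (d.B : Mn)ᵀ, d.herm, Matrix.smul_mul,
        Matrix.mul_smul, Matrix.mul_assoc]
    calc (t * C.σ t) • (((d'.B⁻¹ : GLn) : Mn)ᵀ * ((P.map E.ι)ᵀ * (d.B : Mn)ᵀ) *
          ((d.B : Mn).map C.σ * P.map E.ι * (((d'.B⁻¹ : GLn) : Mn)).map C.σ))
        = (t * C.σ t) • (((d'.B⁻¹ : GLn) : Mn)ᵀ * ((P.map E.ι)ᵀ * (d.B : Mn)ᵀ *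
          ((d.B : Mn).map C.σ * P.map E.ι)) * (((d'.B⁻¹ : GLn) : Mn)).map C.σ) := by
          simp only [Matrix.mul_assoc]
      _ = _ := by
          rw [e', Matrix.mul_smul, Matrix.mul_smul, Matrix.smul_mul, Matrix.smul_mul, smul_smul]
  rw [e]
  constructor
  · intro h
    have h1 := congrArg (fun X => (d'.B : Mn)ᵀ * X * (d'.B : Mn).map C.σ) h
    beta_reduce at h1
    rw [Matrix.mul_one, d'.herm, Matrix.mul_assoc _ _ ((d'.B : Mn).map C.σ),
      Matrix.mul_assoc _ _ ((d'.B : Mn).map C.σ), map_inv, Matrix.mul_one, ← Matrix.mul_assoc,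
      ← Matrix.transpose_mul, Units.inv_mul, Matrix.transpose_one,
      Matrix.one_mul] at h1
    exact h1
  · intro h
    rw [h, ← d'.herm, ← Matrix.mul_assoc, ← Matrix.transpose_mul, Units.mul_inv, Matrix.transpose_one, Matrix.one_mul, inv_map]

theorem conn_twist [Nonempty (Fin n)] (d : Dat E H g) (d' : Dat E H' g') {t : F} (ht : t ≠ 0) (P : M0) :
    conn d d' t P * mat g' =
      (t * d'.z / (C.σ t * d.z)) • (mat g * (conn d d' t P).map C.σ) := by
  have hg' : mat g' = d'.z • ((d'.B : Mn) * (((d'.B⁻¹ : GLn) : Mn)).map C.σ) := by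
    rw [← Matrix.smul_mul, ← d'.twist, Matrix.mul_assoc, inv_map, Matrix.mul_one]
  rw [conn_map, conn, Matrix.mul_smul, ← Matrix.mul_assoc (mat g), ← Matrix.mul_assoc (mat g),
    d.twist, hg']
  simp only [Matrix.smul_mul, Matrix.mul_smul, smul_smul]
  rw [show t * d'.z / (C.σ t * d.z) * (C.σ t * d.z) = t * d'.z from
    div_mul_cancel₀ _ (mul_ne_zero ((map_ne_zero C.σ).2 ht) d.z_ne)]
  congr 1
  · ring
  rw [Matrix.mul_assoc _ ((d'.B⁻¹ : GLn) : Mn), ← Matrix.mul_assoc ((d'.B⁻¹ : GLn) : Mn),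
    Units.inv_mul, Matrix.one_mul]

/-- A matrix conjugating one semilinear map to the other comes from the small field. -/
theorem exists_conn [Nonempty (Fin n)] (d : Dat E H g) (d' : Dat E H' g') (M : GUn) {a : F}
    (h : mat M * mat g' = a • (mat g * (mat M).map C.σ)) :
    ∃ (t : F) (P : GL (Fin n) F₀) (c : F₀ˣ), t ≠ 0 ∧ mat M = conn d d' t P ∧
      (P : M0)ᵀ * H * (P : M0) = (c : F₀) • H' ∧ t * C.σ t * d.θ * E.ι c = d'.θ := by
  obtain ⟨Q, hQdef⟩ : ∃ Q : GLn, Q = d.B⁻¹ * (M : GLn) * d'.B := ⟨_, rfl⟩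
  have hM : mat M = (d.B : Mn) * (Q : Mn) * ((d'.B⁻¹ : GLn) : Mn) := by
    rw [← Units.val_mul, ← Units.val_mul, hQdef]
    congr 1
    group
  have ha : a ≠ 0 := fun e => by
    rw [e, zero_smul] at h
    exact mat_ne_zero (M * g') h
  have hQm : (Q : Mn).map C.σ = (d'.z / (a * d.z)) • (Q : Mn) := by
    have e : mat g * (mat M).map C.σ * (d'.B : Mn).map C.σ = (d'.z / a) • (mat M * (d'.B : Mn)) := by
      rw [div_eq_inv_mul, mul_smul, ← Matrix.mul_smul, ← d'.twist, ← Matrix.mul_assoc, h,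
        Matrix.smul_mul, smul_smul, inv_mul_cancel₀ ha, one_smul]
    rw [hM, Matrix.map_mul, Matrix.map_mul, ← Matrix.mul_assoc, Matrix.mul_assoc _ _ ((d'.B : Mn).map C.σ),
      map_inv, Matrix.mul_one, ← Matrix.mul_assoc, d.twist, Matrix.smul_mul,
      Matrix.mul_assoc _ ((d'.B⁻¹ : GLn) : Mn), Units.inv_mul,
      Matrix.mul_one] at e
    have e2 := congrArg (fun X => d.z⁻¹ • (((d.B⁻¹ : GLn) : Mn) * X)) e
    simp only [Matrix.mul_smul, smul_smul] at e2
    rw [← Matrix.mul_assoc, ← Matrix.mul_assoc, Units.inv_mul,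
      Matrix.one_mul, Matrix.one_mul, inv_mul_cancel₀ d.z_ne, one_smul] at e2
    rw [e2]
    congr 1
    field_simp
  obtain ⟨t, P, ht, -, hP⟩ := exists_fixed_multiple E
    (fun e => not_isUnit_zero (e ▸ Q.isUnit)) hQm
  have hconn : mat M = conn d d' t P := by
    rw [hM, hP, conn, Matrix.mul_smul, Matrix.smul_mul]
  have hPu : IsUnit P := by
    rw [Matrix.isUnit_iff_isUnit_det, isUnit_iff_ne_zero]
    intro h0
    have e := congrArg Matrix.det hP
    rw [Matrix.det_smul, ← RingHom.mapMatrix_apply, ← RingHom.map_det, h0, map_zero, mul_zero] at e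
    exact ((Matrix.isUnit_iff_isUnit_det _).1 Q.isUnit).ne_zero e
  obtain ⟨P, rfl⟩ := hPu
  have hgu := gu_mul C M
  rw [hconn, conn_gu_iff] at hgu
  obtain ⟨i, j, hij⟩ : ∃ i j, H' i j ≠ 0 := by
    by_contra! h0
    exact d'.H_ne (Matrix.ext h0)
  have hN : t * C.σ t * d.θ ≠ 0 := mul_ne_zero (mul_ne_zero ht ((map_ne_zero C.σ).2 ht)) d.θ_ne
  have hent : ∀ k l, t * C.σ t * d.θ * E.ι (((P : M0)ᵀ * H * (P : M0)) k l) = d'.θ * E.ι (H' k l) :=
    fun k l => congrFun (congrFun hgu k) l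
  obtain ⟨c, hcdef⟩ : ∃ c, c = ((P : M0)ᵀ * H * (P : M0)) i j / H' i j := ⟨_, rfl⟩
  have hc : t * C.σ t * d.θ * E.ι c = d'.θ := by
    have hι : E.ι (H' i j) ≠ 0 := (map_ne_zero E.ι).2 hij
    rw [hcdef, map_div₀, ← mul_div_assoc, hent, mul_div_cancel_right₀ _ hι]
  have hc0 : c ≠ 0 := fun e => d'.θ_ne (by rw [← hc, e, map_zero, mul_zero])
  refine ⟨t, P, Units.mk0 c hc0, ht, hconn, emb_inj E.ι (Matrix.ext fun k l => ?_), hc⟩
  refine mul_left_cancel₀ hN ?_
  rw [Matrix.map_apply, hent, Units.val_mk0, Matrix.map_apply, Matrix.smul_apply, smul_eq_mul,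
    map_mul, ← mul_assoc (t * C.σ t * d.θ), hc]

/-- Similar forms give conjugating unitary matrices. -/
theorem exists_unitary [Nonempty (Fin n)] [Finite F] (d : Dat E H g) (d' : Dat E H' g')
    (P : M0) (c : F₀ˣ) (hP : Pᵀ * H * P = (c : F₀) • H')
    (hk : C.σ (d'.θ / d.θ) = d'.θ / d.θ) :
    ∃ (t : F) (M : GUn), t ≠ 0 ∧ t * C.σ t * d.θ * E.ι c = d'.θ ∧ mat M = conn d d' t P ∧
      ∃ a : F, mat M * mat g' = a • (mat g * (mat M).map C.σ) := by
  have hc : E.ι c ≠ 0 := (map_ne_zero E.ι).2 c.ne_zero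
  obtain ⟨t, ht⟩ := exists_norm C (x := d'.θ / d.θ / E.ι c) (by rw [map_div₀, hk, E.fixed])
  have ht0 : t ≠ 0 := fun e => by
    rw [e, zero_mul] at ht
    exact div_ne_zero (div_ne_zero d'.θ_ne d.θ_ne) hc ht.symm
  have htc : t * C.σ t * d.θ * E.ι c = d'.θ := by
    rw [ht]; field_simp [d.θ_ne]
  obtain ⟨M, hM⟩ := exists_gu C (conn d d' t P) ((conn_gu_iff d d' t P).2 (by
    rw [hP, emb_smul, smul_smul, htc]))
  exact ⟨t, M, ht0, htc, hM, _, hM ▸ conn_twist d d' ht0 P⟩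

end Dat

end Cfsg.Agent.AutPSU
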