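import Cfsg.Agent.Lib.AutPSU.GraphInvAut

/-!
Involutory graph automorphisms of `PSU_n`: conjugacy, centralisers, splitting.
-/

set_option autoImplicit false

namespace Cfsg.Agent.AutPSU

open Matrix
open Cfsg
open Cfsg.Agent.SimForms (Cong GSim)

variable {F : Type*} [Field F] {n q : ℕ} {F₀ : Type*} [Field F₀] [Fintype F]

local notation "Mn" => Matrix (Fin n) (Fin n) F
local notation "M0" => Matrix (Fin n) (Fin n) F₀
local notation "GUn" => Cfsg.GU n F q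
local notation "GLn" => GL (Fin n) F
local notation "PSUn" => Cfsg.PSU n F q

variable {C : Conj F q} (E : Emb C F₀)

/-- Every form occurs. -/
theorem exists_of_form [Finite F₀] {H : Matrix (Fin n) (Fin n) F₀} (hu : IsUnit H)
    (h : Hᵀ = H ∨ Hᵀ = -H) :
    ∃ g : Cfsg.GU n F q, Nonempty (Dat E H g) ∧ ((mat g)ᵀ = mat g ∨ (mat g)ᵀ = -mat g) := by
  obtain ⟨ε, hε, hεε, hH⟩ : ∃ ε : F, (ε = 1 ∨ ε = -1) ∧ ε * ε = 1 ∧
      (H.map E.ι)ᵀ = ε • H.map E.ι := by
    rw [← Matrix.transpose_map]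
    rcases h with h | h
    · exact ⟨1, Or.inl rfl, one_mul 1, by rw [one_smul, h]⟩
    · refine ⟨-1, Or.inr rfl, by ring, ?_⟩
      rw [h]; ext i j; simp
  obtain ⟨θ, hθ0, hθ⟩ : ∃ θ : F, θ ≠ 0 ∧ C.σ θ = ε * θ := by
    rcases hε with rfl | rfl
    · exact ⟨1, one_ne_zero, by rw [_root_.map_one, one_mul]⟩
    · obtain ⟨μ, hμ⟩ := C.ne_one
      exact ⟨μ - C.σ μ, sub_ne_zero.2 (Ne.symm hμ), by rw [map_sub, C.invol]; ring⟩
  have hAu : IsUnit (θ • H.map E.ι) := by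
    rw [Matrix.isUnit_iff_isUnit_det, Matrix.det_smul, ← RingHom.mapMatrix_apply, ← RingHom.map_det]
    exact ((isUnit_iff_ne_zero.2 hθ0).pow _).mul (((Matrix.isUnit_iff_isUnit_det _).1 hu).map _)
  obtain ⟨A, hA⟩ := hAu
  have hAt : (A : Mn)ᵀ = ε • (A : Mn) := by
    rw [hA, Matrix.transpose_smul, hH, smul_comm]
  have hAherm : ((A : Mn).map C.σ)ᵀ = (A : Mn) := by
    have e : (H.map E.ι).map C.σ = H.map E.ι := Matrix.ext fun i j => E.fixed _
    rw [hA, map_smul', e, Matrix.transpose_smul, hH, smul_smul, hθ,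
      show ε * θ * ε = θ by rw [mul_comm ε θ, mul_assoc, hεε, mul_one]]
  obtain ⟨P, hP⟩ := AutPSL.exists_congruent_one C.σ (sigma_orderOf C) A hAherm
  obtain ⟨z, hz⟩ := exists_norm C (x := ε) (by rcases hε with rfl | rfl <;> simp)
  let Q : GLn := AutPSL.mapGL C.σ P
  have hQ : (Q : Mn) = (P : Mn).map C.σ := rfl
  rw [← hQ] at hP
  have hQi : (((Q⁻¹ : GLn) : Mn)).map C.σ = ((P⁻¹ : GLn) : Mn) := by
    show ((((AutPSL.mapGL C.σ P)⁻¹ : GLn) : Mn)).map C.σ = _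
    rw [← _root_.map_inv, AutPSL.mapGL_coe, map_map_conj C]
  have hA' : ((Q⁻¹ : GLn) : Mn)ᵀ * ((P⁻¹ : GLn) : Mn) = (A : Mn) := by
    calc ((Q⁻¹ : GLn) : Mn)ᵀ * ((P⁻¹ : GLn) : Mn)
        = ((Q⁻¹ : GLn) : Mn)ᵀ * ((Q : Mn)ᵀ * (A : Mn) * (P : Mn)) * ((P⁻¹ : GLn) : Mn) := by
          rw [hP, Matrix.mul_one]
      _ = ((Q : Mn) * ((Q⁻¹ : GLn) : Mn))ᵀ * (A : Mn) * ((P : Mn) * ((P⁻¹ : GLn) : Mn)) := by
          simp only [Matrix.transpose_mul, Matrix.mul_assoc]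
      _ = (A : Mn) := by
          rw [Units.mul_inv, Units.mul_inv, Matrix.transpose_one, Matrix.one_mul, Matrix.mul_one]
  have hPt : (P : Mn)ᵀ * (A : Mn) * (Q : Mn) = ε • (1 : Mn) := by
    have e := congrArg Matrix.transpose hP
    rw [Matrix.transpose_one, Matrix.transpose_mul, Matrix.transpose_mul, Matrix.transpose_transpose,
      hAt, Matrix.smul_mul, Matrix.mul_smul, ← Matrix.mul_assoc] at e
    conv_rhs => rw [← e, smul_smul, hεε, one_smul]
  have hsymm : (P : Mn)ᵀ * ((Q⁻¹ : GLn) : Mn)ᵀ = ε • (((Q⁻¹ : GLn) : Mn) * (P : Mn)) := by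
    have e1 : (A : Mn) * ((P : Mn) * (Q : Mn)ᵀ) = 1 := by
      rw [← Matrix.mul_assoc]
      apply mul_eq_one_comm.1
      rw [← Matrix.mul_assoc]
      exact hP
    have e2 : (Q : Mn) * (P : Mn)ᵀ * (ε • (A : Mn)) = 1 := by
      have := congrArg Matrix.transpose e1
      rwa [Matrix.transpose_mul, Matrix.transpose_mul, Matrix.transpose_transpose, hAt,
        Matrix.transpose_one] at this
    have e3 : (Q : Mn) * (P : Mn)ᵀ = ε • ((P : Mn) * (Q : Mn)ᵀ) := by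
      refine left_inv_eq_right_inv e2 ?_
      rw [Matrix.smul_mul, Matrix.mul_smul, smul_smul, hεε, one_smul, e1]
    have e4 := congrArg (fun X => ((Q⁻¹ : GLn) : Mn) * X * ((Q⁻¹ : GLn) : Mn)ᵀ) e3
    beta_reduce at e4
    rw [← Matrix.mul_assoc, Units.inv_mul, Matrix.one_mul, Matrix.mul_smul, Matrix.smul_mul,
      Matrix.mul_assoc, Matrix.mul_assoc, ← Matrix.transpose_mul ((Q⁻¹ : GLn) : Mn) (Q : Mn),
      Units.inv_mul,
      Matrix.transpose_one, Matrix.mul_one] at e4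
    exact e4
  have hgu : (z • (((Q⁻¹ : GLn) : Mn) * (P : Mn)))ᵀ *
      (z • (((Q⁻¹ : GLn) : Mn) * (P : Mn))).map C.σ = 1 := by
    rw [map_smul', Matrix.map_mul, hQi, ← hQ, Matrix.transpose_smul, Matrix.transpose_mul,
      Matrix.smul_mul, Matrix.mul_smul, smul_smul, hz]
    rw [show (P : Mn)ᵀ * ((Q⁻¹ : GLn) : Mn)ᵀ * (((P⁻¹ : GLn) : Mn) * (Q : Mn)) =
        (P : Mn)ᵀ * (((Q⁻¹ : GLn) : Mn)ᵀ * ((P⁻¹ : GLn) : Mn)) * (Q : Mn) by
      simp only [Matrix.mul_assoc], hA', hPt, smul_smul, hεε, one_smul]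
  obtain ⟨g, hg⟩ := exists_gu C _ hgu
  refine ⟨g, ⟨⟨Q⁻¹, θ, z, hθ0, ?_, ?_⟩⟩, ?_⟩
  · rw [hQi, hA', hA]
  · rw [hg, hQi, Matrix.smul_mul, Matrix.mul_assoc, Units.mul_inv, Matrix.mul_one]
  · have : (mat g)ᵀ = ε • mat g := by
      rw [hg, Matrix.transpose_smul, Matrix.transpose_mul, hsymm, smul_comm]
    rcases hε with rfl | rfl
    · exact Or.inl (by rw [this, one_smul])
    · exact Or.inr (by rw [this, neg_one_smul])

variable {E}
variable (hn : 3 ≤ n) (hF : Fintype.card F = q ^ 2)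
include hn hF

theorem conj_grfU [Finite F₀] {H H' : Matrix (Fin n) (Fin n) F₀} {g g' : Cfsg.GU n F q}
    (d : Dat E H g) (d' : Dat E H' g') :
    Cfsg.IsConjUnder (Cfsg.inndiagPSU n F q) (grfU C g') (grfU C g) ↔ Cong H H' := by
  haveI : Nonempty (Fin n) := ⟨⟨0, by omega⟩⟩
  constructor
  · rintro ⟨x, hx, e⟩
    obtain ⟨M, rfl⟩ := mem_inndiag.1 hx
    obtain ⟨a, ha⟩ := (twist_iff C hn hF M g g').1 (by rw [e, inv_mul_cancel_right])
    obtain ⟨t, P, c, -, -, hP, -⟩ := Dat.exists_conn d d' M ha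
    exact ⟨P, ((P⁻¹ : GL (Fin n) F₀) : M0), c, Units.mul_inv P, Units.inv_mul P, hP⟩
  · rintro ⟨P, Q, c, h1, h2, hP⟩
    have hk : C.σ (d'.θ / d.θ) = d'.θ / d.θ := by
      have e1 := d'.herm_symm
      have e2 := d.herm_symm
      have hc : E.ι c ≠ 0 := (map_ne_zero E.ι).2 c.ne_zero
      have e3 : (E.ι c) • H'ᵀ.map E.ι = (Pᵀ.map E.ι) * Hᵀ.map E.ι * P.map E.ι := by
        rw [← Matrix.map_mul, ← Matrix.map_mul, ← emb_smul, ← Matrix.transpose_smul, ← hP,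
          Matrix.transpose_mul, Matrix.transpose_mul, Matrix.transpose_transpose, Matrix.mul_assoc]
      have e4 : (Pᵀ.map E.ι) * H.map E.ι * P.map E.ι = (E.ι c) • H'.map E.ι := by
        rw [← Matrix.map_mul, ← Matrix.map_mul, ← emb_smul, hP]
      have e5 : (C.σ d'.θ * d.θ * E.ι c) • H'.map E.ι = (d'.θ * C.σ d.θ * E.ι c) • H'.map E.ι := by
        calc (C.σ d'.θ * d.θ * E.ι c) • H'.map E.ι
            = (d.θ * E.ι c) • (C.σ d'.θ • H'.map E.ι) := by rw [smul_smul]; ring_nf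
          _ = (d'.θ * d.θ) • (E.ι c • H'ᵀ.map E.ι) := by rw [e1, smul_smul, smul_smul]; ring_nf
          _ = d'.θ • ((Pᵀ.map E.ι) * (d.θ • Hᵀ.map E.ι) * P.map E.ι) := by
              rw [e3, Matrix.mul_smul, Matrix.smul_mul, smul_smul]
          _ = (d'.θ * C.σ d.θ) • (E.ι c • H'.map E.ι) := by
              rw [← e2, Matrix.mul_smul, Matrix.smul_mul, smul_smul, e4]
          _ = _ := by rw [smul_smul]
      have hH : H'.map E.ι ≠ 0 := fun h => d'.H_ne (emb_inj E.ι (by rw [h]; ext i j; simp))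
      have e6 := mul_right_cancel₀ hc (SimForms.smul_cancel hH e5)
      rw [map_div₀, div_eq_div_iff ((map_ne_zero C.σ).2 d.θ_ne) d.θ_ne, e6]
    obtain ⟨t, M, -, -, -, a, ha⟩ := d.exists_unitary d' P c hP hk
    refine ⟨semi M 1, mem_inndiag.2 ⟨M, rfl⟩, ?_⟩
    rw [(twist_iff C hn hF M g g').2 ⟨a, ha⟩, mul_inv_cancel_right]

variable {H : Matrix (Fin n) (Fin n) F₀} {g : Cfsg.GU n F q}

theorem exists_rep [Finite F₀] (d : Dat E H g) (h : ↥(GSim H)) :
    ∃ (t : F) (M : Cfsg.GU n F q), t ≠ 0 ∧ mat M = Dat.conn d d t ((h : GL (Fin n) F₀) : M0) ∧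
      Commute (conjHom M) (grfU C g) := by
  haveI : Nonempty (Fin n) := ⟨⟨0, by omega⟩⟩
  obtain ⟨c, hc⟩ := SimForms.mem_GSim.1 h.2
  obtain ⟨t, M, ht, -, hM, a, ha⟩ := d.exists_unitary d _ c hc
    (by rw [div_self d.θ_ne, _root_.map_one])
  exact ⟨t, M, ht, hM, (twist_iff C hn hF M g g).2 ⟨a, ha⟩⟩

theorem centralizer_grfU [Finite F₀] (d : Dat E H g) :
    Nonempty (↥(Cfsg.inndiagPSU n F q ⊓ Subgroup.centralizer {grfU C g}) ≃*
      Cfsg.projQuot (GSim H)) := by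
  haveI : Nonempty (Fin n) := ⟨⟨0, by omega⟩⟩
  choose t M ht hM hcom using exists_rep hn hF d
  have hmul : ∀ a b : ↥(GSim H), (semi (M (a * b)) 1 : MulAut PSUn) = semi (M a * M b) 1 := by
    intro a b
    refine smul_of_scalar (t (a * b) / (t a * t b)) ?_ 1
    rw [mat_mul, hM, hM, hM, Dat.conn, Dat.conn, Dat.conn, Matrix.smul_mul, Matrix.mul_smul,
      smul_smul, smul_smul, mul_assoc _ (t a) (t b), div_mul_cancel₀ _ (mul_ne_zero (ht a) (ht b))]
    congr 1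
    rw [Subgroup.coe_mul, Units.val_mul, Matrix.map_mul]
    simp only [← Matrix.mul_assoc]
    rw [Matrix.mul_assoc _ ((d.B⁻¹ : GLn) : Mn) (d.B : Mn), Units.inv_mul, Matrix.mul_one]
  let f : ↥(GSim H) →* ↥(Cfsg.inndiagPSU n F q ⊓ Subgroup.centralizer {grfU C g}) :=
    MonoidHom.mk' (fun h => ⟨semi (M h) 1, mem_inndiag.2 ⟨M h, rfl⟩,
      Subgroup.mem_centralizer_singleton_iff.2 (hcom h).eq⟩) fun a b => Subtype.ext (by
        show (semi (M (a * b)) 1 : MulAut PSUn) = semi (M a) 1 * semi (M b) 1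
        rw [semi_mul_one, hmul])
  have hsurj : Function.Surjective f := by
    rintro ⟨y, hy, hyc⟩
    obtain ⟨N, rfl⟩ := mem_inndiag.1 hy
    obtain ⟨a, ha⟩ := (twist_iff C hn hF N g g).1 (Subgroup.mem_centralizer_singleton_iff.1 hyc)
    obtain ⟨s, P, c, hs, hN, hP, -⟩ := d.exists_conn d N ha
    have hP' : P ∈ GSim H := SimForms.mem_GSim.2 ⟨c, hP⟩
    refine ⟨⟨P, hP'⟩, Subtype.ext (smul_of_scalar (t ⟨P, hP'⟩ / s) ?_ 1)⟩
    rw [hM, hN, Dat.conn, Dat.conn, smul_smul, div_mul_cancel₀ _ hs]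
  have hker : f.ker = (Geo.scalars (Fin n) F₀).subgroupOf (GSim H) := by
    ext h
    rw [MonoidHom.mem_ker, Subgroup.mem_subgroupOf, SimForms.mem_scalars, Subtype.ext_iff]
    show (semi (M h) 1 : MulAut PSUn) = 1 ↔ _
    rw [← semi_one, semi_iff C hn hF, hM, Dat.conn]
    constructor
    · rintro ⟨a, ha⟩
      change _ = a • (1 : Mn) at ha
      have e : ((h : GL (Fin n) F₀) : M0).map E.ι = (a / t h) • (1 : Mn) := by
        have := congrArg (fun X => (t h)⁻¹ • (((d.B⁻¹ : GLn) : Mn) * X * (d.B : Mn))) ha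
        simp only [Matrix.mul_smul, Matrix.smul_mul, smul_smul, inv_mul_cancel₀ (ht h), one_smul,
          ← Matrix.mul_assoc, Units.inv_mul, Matrix.one_mul, Matrix.mul_one] at this
        rw [Matrix.mul_assoc, Units.inv_mul, Matrix.mul_one] at this
        rw [this, div_eq_inv_mul]
      obtain ⟨i⟩ := ‹Nonempty (Fin n)›
      obtain ⟨b, hb⟩ : ∃ b, b = ((h : GL (Fin n) F₀) : M0) i i := ⟨_, rfl⟩
      have hb' : E.ι b = a / t h := by
        rw [hb, ← Matrix.map_apply (f := E.ι), e]; simp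
      have hh : ((h : GL (Fin n) F₀) : M0) = b • (1 : M0) := by
        refine emb_inj E.ι ?_
        rw [e, emb_smul, Matrix.map_one _ (map_zero _) (_root_.map_one _), hb']
      have hb0 : b ≠ 0 := fun e0 => not_isUnit_zero
        (show IsUnit (0 : M0) by rw [← zero_smul F₀ (1 : M0), ← e0, ← hh]; exact (h : GL (Fin n) F₀).isUnit)
      exact ⟨Units.mk0 b hb0, hh⟩
    · rintro ⟨b, hb⟩
      refine ⟨t h * E.ι b, ?_⟩
      rw [hb, emb_smul, Matrix.map_one _ (map_zero _) (_root_.map_one _), Matrix.mul_smul,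
        Matrix.smul_mul, Matrix.mul_one, Units.mul_inv, smul_smul]
      rfl
  exact ⟨((QuotientGroup.quotientMulEquivOfEq hker.symm).trans
    (QuotientGroup.quotientKerEquivOfSurjective f hsurj)).symm⟩

omit hn hF [Fintype F] in
theorem det_conn (d : Dat E H g) (t : F) (P : Matrix (Fin n) (Fin n) F₀) :
    (Dat.conn d d t P).det = t ^ n * E.ι P.det := by
  rw [Dat.conn, Matrix.det_smul, Matrix.det_units_conj, Fintype.card_fin, ← RingHom.mapMatrix_apply,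
    ← RingHom.map_det]

/-- Determinants of the centraliser. -/
noncomputable def detC (C : Conj F q) (g : Cfsg.GU n F q) : Subgroup (N1 C) :=
  ((Subgroup.centralizer {grfU C g}).comap (conjHom : Cfsg.GU n F q →* MulAut PSUn)).map
    (HermSU.detHom (n := n) (σ := C.σ.toRingHom) C.apply_eq)

theorem mem_detC [Finite F₀] (d : Dat E H g) (x : N1 C) :
    x ∈ detC C g ↔ ∃ (h : GL (Fin n) F₀) (c : F₀ˣ) (t : F),
      (h : M0)ᵀ * H * (h : M0) = (c : F₀) • H ∧ t * C.σ t * E.ι c = 1 ∧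
        ((x : Fˣ) : F) = t ^ n * E.ι (h : M0).det := by
  haveI : Nonempty (Fin n) := ⟨⟨0, by omega⟩⟩
  constructor
  · rintro ⟨N, hN, rfl⟩
    obtain ⟨a, ha⟩ := (twist_iff C hn hF N g g).1 (Subgroup.mem_centralizer_singleton_iff.1 hN)
    obtain ⟨t, P, c, -, hconn, hP, htc⟩ := d.exists_conn d N ha
    refine ⟨P, c, t, hP, mul_right_cancel₀ d.θ_ne ?_, ?_⟩
    · rw [one_mul, mul_right_comm]; exact htc
    · show (mat N).det = _
      rw [hconn, det_conn]
  · rintro ⟨h, c, t, hh, htc, hx⟩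
    have hgu := (Dat.conn_gu_iff d d t (h : M0)).2 (by
      rw [hh, emb_smul, smul_smul, mul_right_comm, htc, one_mul])
    obtain ⟨N, hN⟩ := exists_gu C _ hgu
    refine ⟨N, Subgroup.mem_centralizer_singleton_iff.2 ((twist_iff C hn hF N g g).2
      ⟨_, hN ▸ Dat.conn_twist d d (fun e => by simp [e] at htc) _⟩), Subtype.ext (Units.ext ?_)⟩
    show (mat N).det = _
    rw [hN, det_conn, hx]

theorem split_grfU (C : Conj F q) (g : Cfsg.GU n F q) :
    Cfsg.splitClassCount (Cfsg.inndiagPSU n F q) (Cfsg.Inn PSUn) (grfU C g) =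
      Nat.card (N1 C ⧸ detC C g) := by
  rw [← range_conjHom]
  refine AutPSL.splitClassCount_eq conjHom _ inn_le_range _
    ((QuotientGroup.mk' (detC C g)).comp (HermSU.detHom (n := n) (σ := C.σ.toRingHom) C.apply_eq))
    ((QuotientGroup.mk'_surjective _).comp (HermSU.detHom_surjective C.apply_eq (by omega)))
    fun N => ?_
  rw [MonoidHom.comp_apply, QuotientGroup.mk'_apply, QuotientGroup.eq_one_iff]
  constructor
  · rintro ⟨K, hK, e⟩
    refine ⟨N * K⁻¹, K, (semi_mem_inn C hn hF _).2 ?_, Subgroup.mem_centralizer_singleton_iff.1 hK,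
      (inv_mul_cancel_right _ _).symm⟩
    rw [map_mul, _root_.map_inv, e, mul_inv_cancel]
    exact one_mem _
  · rintro ⟨s, K, hs, hK, rfl⟩
    rw [map_mul]
    refine mul_mem ?_ ⟨K, Subgroup.mem_centralizer_singleton_iff.2 hK, rfl⟩
    obtain ⟨a, ha⟩ := (semi_mem_inn C hn hF s).1 hs
    refine ⟨scU C a, Subgroup.mem_centralizer_singleton_iff.2 ?_, by rw [det_scU]; exact ha⟩
    rw [conjHom_apply, (semi_eq_one_iff' C hn hF).2 ⟨rfl, a, rfl⟩, one_mul, mul_one]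

end Cfsg.Agent.AutPSU
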