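import Cfsg.Agent.Lib.AutPSU.GraphInvGroups

/-!
Involutory graph automorphisms of `PSU_n`: the splitting of the classes.
-/

set_option autoImplicit false

namespace Cfsg.Agent.AutPSU

open Matrix
open Cfsg
open Cfsg.Agent.SimForms (Cong GSim)

theorem card_quot_pow {G : Type*} [CommGroup G] [Finite G] [IsCyclic G] (k : ℕ) :
    Nat.card (G ⧸ (powMonoidHom k : G →* G).range) = Nat.gcd k (Nat.card G) := by
  have h := card_cyclic_quotient_sup k (⊥ : Subgroup G)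
  rwa [sup_bot_eq, Subgroup.index_bot] at h

theorem card_quot_comap_two {G : Type*} [CommGroup G] [Finite G] [IsCyclic G] {k : ℕ} (hk : Even k)
    (hG : 2 ∣ Nat.card G) :
    Nat.card (G ⧸ (powMonoidHom k : G →* G).range.comap (powMonoidHom 2)) =
      Nat.gcd k (Nat.card G) / 2 := by
  rw [← Subgroup.index_eq_card, Subgroup.index_comap]
  have hle : (powMonoidHom k : G →* G).range ≤ (powMonoidHom 2 : G →* G).range := by
    rintro _ ⟨a, rfl⟩
    obtain ⟨j, rfl⟩ := hk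
    exact ⟨a ^ j, by rw [powMonoidHom_apply, powMonoidHom_apply, ← pow_mul, mul_two]⟩
  have h := Subgroup.relIndex_mul_index hle
  rw [Subgroup.index_eq_card, Subgroup.index_eq_card, card_quot_pow, card_quot_pow,
    Nat.gcd_eq_left hG] at h
  omega

/-- The determinant of a similitude of an alternating form. -/
theorem det_of_cong_J {F₀ : Type*} [Field F₀] {ι : Type} [Fintype ι] [DecidableEq ι] {m : ℕ}
    (hm : 0 < m) {H : Matrix ι ι F₀} (hH : Cong H (Matrix.J (Fin m) F₀)) {h : GL ι F₀} {c : F₀ˣ}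
    (hh : (h : Matrix ι ι F₀)ᵀ * H * (h : Matrix ι ι F₀) = (c : F₀) • H) :
    (h : Matrix ι ι F₀).det = (c : F₀) ^ m := by
  obtain ⟨P, Q, k, h1, h2, h3⟩ := hH
  let Φ := Units.mapEquiv (SimForms.conjMat P Q h1 h2)
  have hj : ((Φ h : GL (Fin m ⊕ Fin m) F₀) : Matrix (Fin m ⊕ Fin m) (Fin m ⊕ Fin m) F₀)ᵀ * Matrix.J (Fin m) F₀ *
      ((Φ h : GL (Fin m ⊕ Fin m) F₀) : Matrix (Fin m ⊕ Fin m) (Fin m ⊕ Fin m) F₀) = (c : F₀) • Matrix.J (Fin m) F₀ := by
    refine smul_right_injective _ k.ne_zero ?_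
    show (k : F₀) • ((Q * (h : Matrix ι ι F₀) * P)ᵀ * _ * (Q * (h : Matrix ι ι F₀) * P)) = (k : F₀) • _
    rw [← Matrix.smul_mul, ← Matrix.mul_smul, ← h3, smul_comm, ← h3]
    calc (Q * (h : Matrix ι ι F₀) * P)ᵀ * (Pᵀ * H * P) * (Q * (h : Matrix ι ι F₀) * P)
        = Pᵀ * ((h : Matrix ι ι F₀)ᵀ * ((P * Q)ᵀ * H * (P * Q)) * (h : Matrix ι ι F₀)) * P := by
          simp only [Matrix.transpose_mul, Matrix.mul_assoc]
      _ = _ := by
          rw [h1, Matrix.transpose_one, Matrix.one_mul, Matrix.mul_one, hh, Matrix.mul_smul,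
            Matrix.smul_mul]
  obtain ⟨D, hD, hdet⟩ := SimForms.exists_mult_J (F := F₀) m c
  have hs : (Φ h * D⁻¹) ∈ SimForms.Isom (Matrix.J (Fin m) F₀) := by
    rw [SimForms.mem_Isom, Units.val_mul, Matrix.transpose_mul]
    calc _ = ((D⁻¹ : GL (Fin m ⊕ Fin m) F₀) : Matrix (Fin m ⊕ Fin m) (Fin m ⊕ Fin m) F₀)ᵀ * (((Φ h : GL (Fin m ⊕ Fin m) F₀) : Matrix (Fin m ⊕ Fin m) (Fin m ⊕ Fin m) F₀)ᵀ *
          Matrix.J (Fin m) F₀ * ((Φ h : GL (Fin m ⊕ Fin m) F₀) : Matrix (Fin m ⊕ Fin m) (Fin m ⊕ Fin m) F₀)) *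
          ((D⁻¹ : GL (Fin m ⊕ Fin m) F₀) : Matrix (Fin m ⊕ Fin m) (Fin m ⊕ Fin m) F₀) := by simp only [Matrix.mul_assoc]
      _ = ((D : Matrix (Fin m ⊕ Fin m) (Fin m ⊕ Fin m) F₀) * ((D⁻¹ : GL (Fin m ⊕ Fin m) F₀) : Matrix (Fin m ⊕ Fin m) (Fin m ⊕ Fin m) F₀))ᵀ * Matrix.J (Fin m) F₀ *
          ((D : Matrix (Fin m ⊕ Fin m) (Fin m ⊕ Fin m) F₀) * ((D⁻¹ : GL (Fin m ⊕ Fin m) F₀) : Matrix (Fin m ⊕ Fin m) (Fin m ⊕ Fin m) F₀)) := by
          rw [hj, ← hD]; simp only [Matrix.transpose_mul, Matrix.mul_assoc]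
      _ = _ := by simp
  have h4 : Matrix.GeneralLinearGroup.det (Φ h * D⁻¹) = 1 :=
    Units.ext (SymplecticGroup.det_eq_one ((SimForms.J_transpose_mem m _).1 hs))
  rw [map_mul, _root_.map_inv, hdet, mul_inv_eq_one] at h4
  have h5 := congrArg Units.val h4
  rw [Units.val_pow_eq_pow_val] at h5
  rw [← h5]
  show (h : Matrix ι ι F₀).det = (Q * (h : Matrix ι ι F₀) * P).det
  exact ((Matrix.det_conj_of_mul_eq_one h2 h1 (N := (h : Matrix ι ι F₀))).symm :)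

variable {F : Type*} [Field F] {n q : ℕ} {F₀ : Type*} [Field F₀] [Fintype F]
variable {C : Conj F q} {E : Emb C F₀}

theorem val_pow (x : N1 C) (k : ℕ) : (((x ^ k : N1 C) : Fˣ) : F) = ((x : Fˣ) : F) ^ k := by
  simp

theorem exists_n1_div (a : N1 C) :
    ∃ (t : F) (c : F₀ˣ), t * C.σ t * E.ι c = 1 ∧ ((a : Fˣ) : F) = t * t * E.ι c := by
  have ha : AutPSL.normHom C.σ (a : Fˣ) = 1 := by
    refine Units.ext ?_
    rw [AutPSL.normHom_eq, sigma_orderOf C, Finset.prod_range_succ, Finset.prod_range_one,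
      Units.val_mul, Units.val_one]
    simp only [pow_zero, pow_one]
    exact a.2
  obtain ⟨t, ht⟩ := AutPSL.exists_div_of_normHom_eq_one C.σ ha
  have ht' : ((a : Fˣ) : F) * C.σ (t : F) = t := congrArg Units.val ht
  have hσt : C.σ (t : F) ≠ 0 := (map_ne_zero C.σ).2 t.ne_zero
  obtain ⟨c, hc⟩ := E.mem ((t : F) * C.σ (t : F))⁻¹ (by
    rw [map_inv₀, map_mul, C.invol, mul_comm])
  have hc0 : c ≠ 0 := fun e => by simp [e, hσt] at hc
  refine ⟨t, Units.mk0 c hc0, ?_, ?_⟩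
  · rw [Units.val_mk0, hc, mul_inv_cancel₀ (mul_ne_zero t.ne_zero hσt)]
  · rw [Units.val_mk0, hc]
    field_simp [t.ne_zero]
    linear_combination ht'

theorem exists_root {t : F} {c : F₀ˣ} (h : t * C.σ t * E.ι c = 1) :
    ∃ a : N1 C, ((a : Fˣ) : F) = t * t * E.ι c := by
  have e : t * t * E.ι c * C.σ (t * t * E.ι c) = 1 := by
    rw [map_mul, map_mul, E.fixed]
    linear_combination (t * C.σ t * E.ι c + 1) * h
  exact ⟨⟨Units.mk0 _ (left_ne_zero_of_mul_eq_one e), e⟩, rfl⟩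

variable (hn : 3 ≤ n) (hF : Fintype.card F = q ^ 2)
include hn hF

theorem pow_le_detC (g : Cfsg.GU n F q) : (powMonoidHom n : N1 C →* N1 C).range ≤ detC C g := by
  rintro _ ⟨a, rfl⟩
  refine ⟨scU C a, Subgroup.mem_centralizer_singleton_iff.2 ?_, by rw [det_scU]; rfl⟩
  rw [conjHom_apply, (semi_eq_one_iff' C hn hF).2 ⟨rfl, a, rfl⟩, one_mul, mul_one]

variable [Finite F₀] {H : Matrix (Fin n) (Fin n) F₀} {g : Cfsg.GU n F q}

theorem detC_sq (d : Dat E H g) {x : N1 C} (hx : x ∈ detC C g) : ∃ a : N1 C, x ^ 2 = a ^ n := by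
  obtain ⟨h, c, t, hh, htc, hxv⟩ := (mem_detC hn hF d x).1 hx
  obtain ⟨a, ha⟩ := exists_root htc
  refine ⟨a, Subtype.ext (Units.ext ?_)⟩
  have hd := congrArg Units.val
    (SimForms.det_mult ((Matrix.isUnit_iff_isUnit_det _).1 d.H_unit).ne_zero hh)
  simp only [Units.val_pow_eq_pow_val, Matrix.GeneralLinearGroup.val_det_apply, Fintype.card_fin] at hd
  rw [val_pow, val_pow, hxv, ha, mul_pow, mul_pow, mul_pow, ← map_pow, hd, map_pow]
  ring

theorem detC_square (d : Dat E H g) (hh : Odd n ∨ Even q) :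
    detC C g = (powMonoidHom n : N1 C →* N1 C).range := by
  refine le_antisymm (fun x hx => ?_) (pow_le_detC hn hF g)
  obtain ⟨a, ha⟩ := detC_sq hn hF d hx
  rcases hh with ⟨j, hj⟩ | hq
  · refine ⟨x * (a ^ j)⁻¹, ?_⟩
    have hb : (x * (a ^ j)⁻¹) ^ 2 = a := by
      rw [mul_pow, ha, hj, pow_succ, inv_pow, ← pow_mul, mul_comm j 2, mul_comm (a ^ (2 * j)) a,
        mul_inv_cancel_right]
    rw [powMonoidHom_apply]
    conv_lhs => rw [hj, pow_succ, pow_mul, hb]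
    rw [mul_comm x, mul_inv_cancel_left]
  · have hodd : Odd (Nat.card (N1 C)) := by rw [card_N1 C hn hF]; exact hq.add_one
    obtain ⟨e, he⟩ : ∃ e, Nat.card (N1 C) + 1 = 2 * e := by
      obtain ⟨e, he⟩ := hodd
      exact ⟨e + 1, by omega⟩
    have hpow : ∀ y : N1 C, (y ^ e) ^ 2 = y := fun y => by
      rw [← pow_mul, mul_comm, ← he, pow_succ, pow_card_eq_one', one_mul]
    refine ⟨a ^ e, ?_⟩
    rw [powMonoidHom_apply, ← pow_mul, mul_comm, pow_mul, ← ha, ← pow_mul, mul_comm, pow_mul, hpow]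

theorem detC_alt (d : Dat E H g) {m : ℕ} (hnm : n = 2 * m) (hH : Cong H (Matrix.J (Fin m) F₀)) :
    detC C g = (powMonoidHom m : N1 C →* N1 C).range := by
  ext x
  rw [mem_detC hn hF d]
  constructor
  · rintro ⟨h, c, t, hh, htc, hxv⟩
    obtain ⟨a, ha⟩ := exists_root htc
    refine ⟨a, Subtype.ext (Units.ext ?_)⟩
    rw [powMonoidHom_apply, val_pow, hxv, ha, det_of_cong_J (by omega) hH hh, map_pow, hnm]
    ring
  · rintro ⟨a, rfl⟩
    obtain ⟨t, c, htc, ha⟩ := exists_n1_div (E := E) a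
    obtain ⟨D, hD, -⟩ := SimForms.exists_mult_J (F := F₀) m c
    have hDm : D ∈ GSim (Matrix.J (Fin m) F₀) := SimForms.mem_GSim.2 ⟨c, hD⟩
    obtain ⟨P, Q, k, h1, h2, h3⟩ := hH
    obtain ⟨h, hh⟩ : ∃ h : GL (Fin n) F₀, (h : Matrix (Fin n) (Fin n) F₀) =
        P * (D : Matrix (Fin m ⊕ Fin m) (Fin m ⊕ Fin m) F₀) * Q :=
      ⟨(Units.mapEquiv (SimForms.conjMat Q P h2 h1)) D, rfl⟩
    have hsim : (h : Matrix (Fin n) (Fin n) F₀)ᵀ * H * (h : Matrix (Fin n) (Fin n) F₀) = (c : F₀) • H := by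
      have hback : Qᵀ * (Pᵀ * H * P) * Q = H := by
        calc Qᵀ * (Pᵀ * H * P) * Q = (P * Q)ᵀ * H * (P * Q) := by
              simp only [Matrix.transpose_mul, Matrix.mul_assoc]
          _ = H := by rw [h1]; simp
      calc _ = Qᵀ * ((D : Matrix (Fin m ⊕ Fin m) (Fin m ⊕ Fin m) F₀)ᵀ * (Pᵀ * H * P) *
            (D : Matrix (Fin m ⊕ Fin m) (Fin m ⊕ Fin m) F₀)) * Q := by
            rw [hh]; simp only [Matrix.transpose_mul, Matrix.mul_assoc]
        _ = (c : F₀) • (Qᵀ * (Pᵀ * H * P) * Q) := by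
            rw [h3, Matrix.mul_smul, Matrix.smul_mul, hD]
            simp only [Matrix.mul_smul, Matrix.smul_mul, smul_comm (k : F₀)]
        _ = _ := by rw [hback]
    refine ⟨h, c, t, hsim, htc, ?_⟩
    rw [powMonoidHom_apply, val_pow, ha, det_of_cong_J (by omega) ⟨P, Q, k, h1, h2, h3⟩ hsim,
      map_pow, hnm]
    ring

theorem detC_symm (h2 : (2 : F₀) ≠ 0) (d : Dat E H g) (hev : Even n) (hH : Hᵀ = H) :
    detC C g = (powMonoidHom n : N1 C →* N1 C).range.comap (powMonoidHom 2) := by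
  haveI : Nonempty (Fin n) := ⟨⟨0, by omega⟩⟩
  ext x
  constructor
  · intro hx
    obtain ⟨a, ha⟩ := detC_sq hn hF d hx
    exact ⟨a, ha.symm⟩
  · rintro ⟨a, ha⟩
    simp only [powMonoidHom_apply] at ha
    obtain ⟨t, c, htc, hat⟩ := exists_n1_div (E := E) a
    obtain ⟨h, hh⟩ := SimForms.exists_mult_symm h2 (by rwa [Fintype.card_fin]) d.H_unit hH c
    have hd := congrArg Units.val
      (SimForms.det_mult ((Matrix.isUnit_iff_isUnit_det _).1 d.H_unit).ne_zero hh)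
    simp only [Units.val_pow_eq_pow_val, Matrix.GeneralLinearGroup.val_det_apply, Fintype.card_fin] at hd
    have hxv : ((x : Fˣ) : F) ^ 2 = (t ^ n * E.ι (h : Matrix (Fin n) (Fin n) F₀).det) ^ 2 := by
      rw [← val_pow, ← ha, val_pow, hat, mul_pow, mul_pow, mul_pow, ← map_pow _ _ 2, hd, map_pow]
      ring
    rw [mem_detC hn hF d]
    rcases sq_eq_sq_iff_eq_or_eq_neg.1 hxv with e | e
    · exact ⟨h, c, t, hh, htc, e⟩
    · obtain ⟨r, hr, hrd⟩ := SimForms.exists_isom_neg h2 d.H_unit hH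
      refine ⟨r * h, c, t, ?_, htc, ?_⟩
      · rw [Units.val_mul, Matrix.transpose_mul]
        rw [SimForms.mem_Isom] at hr
        calc _ = (h : Matrix (Fin n) (Fin n) F₀)ᵀ * ((r : Matrix (Fin n) (Fin n) F₀)ᵀ * H *
              (r : Matrix (Fin n) (Fin n) F₀)) * (h : Matrix (Fin n) (Fin n) F₀) := by
              simp only [Matrix.mul_assoc]
          _ = _ := by rw [hr, hh]
      · have hrd' : (r : Matrix (Fin n) (Fin n) F₀).det = -1 := by
          have := congrArg Units.val hrd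
          simpa using this
        rw [Units.val_mul, Matrix.det_mul, hrd', e, map_mul, map_neg, _root_.map_one]
        ring

end Cfsg.Agent.AutPSU
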