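import Cfsg.Agent.Lib.AutPSU.Normal

/-!
Every automorphism of `PSU n`, `n ≥ 3`, `(n, q) ≠ (3, 2)`, is induced by a semilinear isometry, uniquely up to
scalars.
-/

set_option autoImplicit false

namespace Cfsg.Agent.AutPSU

open Matrix

variable {F : Type*} [Field F] {n q k : ℕ}

local notation "Vn" => Fin n → F
local notation "Mn" => Matrix (Fin n) (Fin n) F
local notation "SUn" => Cfsg.SU n F q
local notation "GUn" => Cfsg.GU n F q
local notation "PSUn" => Cfsg.PSU n F q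
local notation "π" => QuotientGroup.mk' (Subgroup.center SUn)
local notation "𝕙" => h (q := q)

variable (C : Conj F q)
include C

theorem h_sum_right {ι : Type*} (s : Finset ι) (v : Vn) (x : ι → Vn) :
    𝕙 v (∑ i ∈ s, x i) = ∑ i ∈ s, 𝕙 v (x i) :=
  map_sum (AddMonoidHom.mk' (fun w => 𝕙 v w) (fun a b => add_right C v a b)) x s

/-- A semilinear map preserving the form comes from the general unitary group. -/
theorem exists_sm_eq (τ : F ≃+* F) (Φ : Vn → Vn) (hadd : ∀ x y, Φ (x + y) = Φ x + Φ y)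
    (hsmul : ∀ (a : F) x, Φ (a • x) = τ a • Φ x) (hpres : ∀ x y, 𝕙 (Φ x) (Φ y) = τ (𝕙 x y)) :
    ∃ g : GUn, ∀ x, sm (g : GL (Fin n) F) τ x = Φ x := by
  obtain ⟨M, hM⟩ : ∃ M : Mn, M = Matrix.of fun r j => Φ (Pi.single j 1) r := ⟨_, rfl⟩
  have hsum : ∀ (s : Finset (Fin n)) (c : Fin n → Vn), Φ (∑ i ∈ s, c i) = ∑ i ∈ s, Φ (c i) :=
    fun s c => map_sum (AddMonoidHom.mk' Φ hadd) c s
  have hMx : ∀ x, M *ᵥ (τ ∘ x) = Φ x := fun x => by
    conv_rhs => rw [pi_eq_sum_univ' x, hsum]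
    simp only [hsmul]
    funext r
    rw [Finset.sum_apply, Matrix.mulVec, dotProduct]
    refine Finset.sum_congr rfl fun j _ => ?_
    rw [hM, Matrix.of_apply, Pi.smul_apply, smul_eq_mul, mul_comm]
    rfl
  obtain ⟨g, hg⟩ := exists_GU (q := q) C M fun x y => by
    obtain ⟨x', rfl⟩ : ∃ x', x = τ ∘ x' := ⟨τ.symm ∘ x, by
      rw [← Function.comp_assoc, show ⇑τ ∘ ⇑τ.symm = id from funext τ.apply_symm_apply,
        Function.id_comp]⟩
    obtain ⟨y', rfl⟩ : ∃ y', y = τ ∘ y' := ⟨τ.symm ∘ y, by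
      rw [← Function.comp_assoc, show ⇑τ ∘ ⇑τ.symm = id from funext τ.apply_symm_apply,
        Function.id_comp]⟩
    rw [hMx, hMx, hpres]
    simp [h, Cfsg.hermForm, map_sum]
  exact ⟨g, fun x => by rw [sm, hg, hMx]⟩

omit C in
theorem semi_scalar (g : GUn) (a : F)
    (hg : ∀ x : Vn, ((g : GL (Fin n) F) : Mn) *ᵥ x = a • x) : (semi g 1 : MulAut PSUn) = 1 := by
  refine MulEquiv.ext fun x => ?_
  induction x using QuotientGroup.induction_on with
  | _ s =>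
    rw [semi_mk]
    refine congrArg QuotientGroup.mk (ext_act fun x => ?_)
    obtain ⟨y, rfl⟩ := sm_surj g 1 x
    rw [act_suConj, sm, sm, show ((1 : F ≃+* F) : F → F) = id from rfl, Function.id_comp,
      Function.id_comp, hg, hg, act_smul]

variable [Fintype F] (hn : 2 ≤ n) (hF : Fintype.card F = q ^ 2) (p : ℕ) [Fact p.Prime] [CharP F p]
  [Nonempty (Fin k)] (Fr : Frame F n q k) (hk : 2 ≤ k ∨ ∃ s : F, s ^ 3 ≠ C.σ s ^ 3)
include C hn hF p Fr hk

/-- Agreement with a semilinear isometry on the radical modulo its centre. -/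
theorem exists_semi_phi {β : MulAut PSUn} (he : Rel C β Fr.e Fr.e) (hf : Rel C β Fr.f Fr.f) :
    ∃ (g : GUn) (τ : F ≃+* F), Rel C (semi g τ : MulAut PSUn) Fr.e Fr.e ∧
      Rel C (semi g τ : MulAut PSUn) Fr.f Fr.f ∧ ∀ u ∈ rad C Fr.e, ∀ u', β (π u) = π u' →
        u' ∈ rad C Fr.e → suConj g τ u ∈ rad C Fr.e ∧ Fr.wt (suConj g τ u) = Fr.wt u' := by
  obtain ⟨D⟩ := exists_liftData C hn hF p Fr he
  obtain ⟨τ, hτ⟩ := D.exists_tau hn hF p he hf hk
  have hτσ : ∀ a, τ (C.σ a) = C.σ (τ a) := fun a => by rw [C.apply_eq, C.apply_eq, map_pow]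
  have hb : ∀ i, Fr.b i ∈ Fr.W C := Fr.b_mem C
  have hmem : ∀ (a : F) i, a • Fr.b i ∈ Fr.W C := fun a i => Submodule.smul_mem _ _ (hb i)
  obtain ⟨μ, hμ⟩ := C.ne_one
  obtain ⟨μ', hμ'⟩ : ∃ μ', τ μ' = μ := ⟨τ.symm μ, τ.apply_symm_apply μ⟩
  -- orthogonality is preserved
  have horth : ∀ x ∈ Fr.W C, ∀ y ∈ Fr.W C, 𝕙 x y = 0 → 𝕙 (D.φ x) (D.φ y) = 0 := by
    intro x hx y hy e
    have key : ∀ a, τ a * 𝕙 (D.φ x) (D.φ y) = C.σ (τ a * 𝕙 (D.φ x) (D.φ y)) := fun a => by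
      have := D.b_eq hn hF p (Submodule.smul_mem _ a hx) hy (zero_mem _) (zero_mem _) (by
        rw [smul_left C, symm C (a • x) y, smul_left C, e, zero_left C]; simp)
      rw [hτ a x hx, D.φ_zero, zero_left C, sub_self, smul_left C, symm C (τ a • D.φ x),
        smul_left C, sub_eq_zero] at this
      exact this
    by_contra hne
    obtain ⟨a, ha⟩ : ∃ a, τ a = μ / 𝕙 (D.φ x) (D.φ y) := ⟨_, τ.apply_symm_apply _⟩
    have := key a
    rw [ha, div_mul_cancel₀ _ hne] at this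
    exact hμ this.symm
  obtain ⟨i₀⟩ : Nonempty (Fin k) := inferInstance
  obtain ⟨c, hc⟩ : ∃ c, c = 𝕙 (D.φ (Fr.b i₀)) (D.φ (Fr.b i₀)) := ⟨_, rfl⟩
  have hdiag : ∀ i, 𝕙 (D.φ (Fr.b i)) (D.φ (Fr.b i)) = c := by
    intro i
    have := D.b_eq hn hF p (hmem μ' i) (hb i) (hmem μ' i₀) (hb i₀) (by
      simp only [smul_left C, smul_right C, Fr.hb])
    rw [hτ _ _ (hb i), hτ _ _ (hb i₀), hμ', smul_left C, smul_left C, smul_right C, smul_right C,
      ← hc] at this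
    have h' : (μ - C.σ μ) * (𝕙 (D.φ (Fr.b i)) (D.φ (Fr.b i)) - c) = 0 := by linear_combination this
    exact sub_eq_zero.1 ((mul_eq_zero.1 h').resolve_left fun e => hμ (sub_eq_zero.1 e).symm)
  have hgram : ∀ i j, 𝕙 (D.φ (Fr.b i)) (D.φ (Fr.b j)) = c * if i = j then 1 else 0 := by
    intro i j
    rcases eq_or_ne i j with rfl | hij
    · rw [hdiag, if_pos rfl, mul_one]
    · rw [if_neg hij, mul_zero, horth _ (hb i) _ (hb j) (by rw [Fr.hb, if_neg hij])]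
  have hφsum : ∀ x ∈ Fr.W C, D.φ x = ∑ i, τ (𝕙 x (Fr.b i)) • D.φ (Fr.b i) := by
    intro x hx
    have H : ∀ (s : Finset (Fin k)) (a : Fin k → F),
        D.φ (∑ i ∈ s, a i • Fr.b i) = ∑ i ∈ s, τ (a i) • D.φ (Fr.b i) := by
      intro s a
      induction s using Finset.induction_on with
      | empty => simpa using D.φ_zero
      | insert i s his ih =>
        rw [Finset.sum_insert his, Finset.sum_insert his,
          D.φ_add _ (hmem _ _) _ (Submodule.sum_mem _ fun j _ => hmem _ j), ih, hτ _ _ (hb i)]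
    conv_lhs => rw [Fr.exists_coeff C hx, H]
  have hsim : ∀ x ∈ Fr.W C, ∀ y ∈ Fr.W C, 𝕙 (D.φ x) (D.φ y) = c * τ (𝕙 x y) := by
    intro x hx y hy
    have hx' : ∀ j, 𝕙 (D.φ x) (D.φ (Fr.b j)) = c * τ (𝕙 x (Fr.b j)) := fun j => by
      rw [hφsum x hx]
      refine ((isHerm C).sum_left _ _ _).trans ?_
      simp only [← h.eq_def, (isHerm C).smul_left]
      rw [Finset.sum_eq_single j]
      · rw [hdiag, mul_comm]
      · intro i _ hij
        rw [hgram, if_neg hij, mul_zero, mul_zero]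
      · simp
    conv_lhs => rw [hφsum y hy, h_sum_right C]
    conv_rhs => rw [Fr.exists_coeff C hy, h_sum_right C, map_sum, Finset.mul_sum]
    refine Finset.sum_congr rfl fun j _ => ?_
    rw [smul_right C, smul_right C, hx', map_mul, hτσ]
    ring
  have hc0 : c ≠ 0 := fun e => by
    obtain ⟨y, hy, hy'⟩ := Fr.exists_W_one C (D.φ_mem _ (hb i₀))
      (fun e0 => Fr.b_ne_zero C i₀ (D.φ_inj _ (hb i₀) _ (zero_mem _) (e0.trans (D.φ_zero).symm)))
    obtain ⟨x, hx, rfl⟩ := D.φ_surj y hy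
    rw [hsim _ (hb i₀) _ hx, e, zero_mul] at hy'
    exact zero_ne_one hy'
  obtain ⟨d, hd⟩ := exists_norm C (x := c) (by rw [hc]; exact self_fixed C _)
  have hd0 : d ≠ 0 := fun e => hc0 (by rw [← hd, e, zero_mul])
  have hσd : C.σ d ≠ 0 := (map_ne_zero C.σ).2 hd0
  obtain ⟨Φ, hΦ⟩ : ∃ Φ : Vn → Vn, ∀ x, Φ x = (τ (𝕙 x Fr.f) * d) • Fr.e +
      (τ (𝕙 x Fr.e) * (C.σ d)⁻¹) • Fr.f + (C.σ d)⁻¹ • D.φ (Fr.P x) := ⟨_, fun _ => rfl⟩
  have hWΦ : ∀ x, (C.σ d)⁻¹ • D.φ (Fr.P x) ∈ Fr.W C := fun x =>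
    Submodule.smul_mem _ _ (D.φ_mem _ (Fr.P_mem C x))
  obtain ⟨g, hg⟩ := exists_sm_eq C τ Φ
    (fun x y => by
      rw [hΦ, hΦ, hΦ, add_left C, add_left C, map_add, map_add, Fr.P_add C,
        D.φ_add _ (Fr.P_mem C x) _ (Fr.P_mem C y), add_mul, add_mul]
      module)
    (fun a x => by
      rw [hΦ, hΦ, smul_left C, smul_left C, map_mul, map_mul, Fr.P_smul C,
        hτ a _ (Fr.P_mem C x)]
      module)
    (fun x y => by
      obtain ⟨x1, x2, x3⟩ := Fr.coord C (hWΦ x) (hΦ x)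
      obtain ⟨y1, y2, y3⟩ := Fr.coord C (hWΦ y) (hΦ y)
      rw [Fr.h_decomp C (Φ x), x1, x2, x3, y1, y2, y3, smul_left C, smul_right C,
        hsim _ (Fr.P_mem C x) _ (Fr.P_mem C y), Fr.h_decomp C x y, map_add, map_add,
        map_mul τ (𝕙 x Fr.f), map_mul τ (𝕙 x Fr.e), hτσ, hτσ, map_mul, map_mul, map_inv₀,
        C.invol, ← hd]
      field_simp)
  have hge : sm (g : GL (Fin n) F) τ Fr.e = d • Fr.e := by
    rw [hg, hΦ, Fr.hef, Fr.hee, Fr.P_e C, D.φ_zero]; simp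
  have hgf : sm (g : GL (Fin n) F) τ Fr.f = (C.σ d)⁻¹ • Fr.f := by
    rw [hg, hΦ, Fr.hff, Fr.hfe, Fr.P_f C, D.φ_zero]; simp
  refine ⟨g, τ, ?_, ?_, ?_⟩
  · have := rel_semi C g τ Fr.e
    rwa [hge, Rel, cenQ_smul C hd0] at this
  · have := rel_semi C g τ Fr.f
    rwa [hgf, Rel, cenQ_smul C (inv_ne_zero hσd)] at this
  intro u hu u' e hu'
  have h1 : suConj g τ u ∈ rad C Fr.e := by
    have := suConj_mem_rad C g τ hu
    rwa [hge, rad_smul C hd0] at this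
  refine ⟨h1, ?_⟩
  have hBu : D.B u = u' := Fr.rad_mk_inj C hn hF p (D.mem u hu) hu' ((D.spec u hu).symm.trans e)
  have e2 : (C.σ d)⁻¹ • act (suConj g τ u) Fr.f = Φ (act u Fr.f) := by
    rw [← hg, ← act_suConj, hgf, act_smul]
  have e3 := congrArg Fr.P e2
  rw [Fr.P_smul C, (Fr.coord C (hWΦ _) (hΦ _)).2.2] at e3
  have e4 := smul_right_injective Vn (inv_ne_zero hσd) e3
  show Fr.P (act (suConj g τ u) Fr.f) = _
  rw [e4, ← hBu]
  exact D.φ_wt u hu

/-- An automorphism fixing the two points and acting trivially on the radical modulo its centre is trivial. -/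
theorem eq_one_of_trivial (hn3 : 3 ≤ n) {β : MulAut PSUn} (he : Rel C β Fr.e Fr.e) (hf : Rel C β Fr.f Fr.f)
    (hwt : ∀ u ∈ rad C Fr.e, ∀ u', β (π u) = π u' → u' ∈ rad C Fr.e → Fr.wt u' = Fr.wt u) :
    β = 1 := by
  obtain ⟨D⟩ := exists_liftData C hn hF p Fr he
  have hw : ∀ u ∈ rad C Fr.e, Fr.wt (D.B u) = Fr.wt u := fun u hu =>
    hwt u hu _ (D.spec u hu) (D.mem u hu)
  have hφ : ∀ x ∈ Fr.W C, D.φ x = x := fun x hx => by
    obtain ⟨u, hu, rfl⟩ := Fr.exists_wt C hx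
    rw [D.φ_wt u hu, hw u hu]
  obtain ⟨i₀⟩ : Nonempty (Fin k) := inferInstance
  -- the centre is fixed
  have hcen : ∀ z ∈ cen C Fr.e, D.B z = z := by
    intro z hz
    obtain ⟨a₀, ha₀⟩ := conj_fixed C (x := 1) (map_one _)
    have ht := Fr.al_anti C hz
    have hxW : (Fr.al z * a₀) • Fr.b i₀ ∈ Fr.W C := Submodule.smul_mem _ _ (Fr.b_mem C i₀)
    have hbz : 𝕙 ((Fr.al z * a₀) • Fr.b i₀) (Fr.b i₀) - 𝕙 (Fr.b i₀) ((Fr.al z * a₀) • Fr.b i₀) =
        Fr.al z := by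
      rw [smul_left C, smul_right C, Fr.hb, if_pos rfl, map_mul, ht]
      linear_combination Fr.al z * ha₀
    obtain ⟨u, hu, hux⟩ := Fr.exists_wt C hxW
    obtain ⟨v, hv, hvx⟩ := Fr.exists_wt C (Fr.b_mem C i₀)
    obtain ⟨h1, h1'⟩ := D.comm_al hu hv
    have hzu : u * v * (v * u)⁻¹ = z := Fr.rad_ext C (cen_le_rad C _ h1) (cen_le_rad C _ hz)
      (by rw [h1', hux, hvx, hbz]) (by rw [((Fr.mem_cen_iff_wt C).1 h1).2,
        ((Fr.mem_cen_iff_wt C).1 hz).2])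
    obtain ⟨h2, h2'⟩ := D.comm_al (D.mem u hu) (D.mem v hv)
    rw [← hzu, D.B_commutator hu hv]
    exact Fr.rad_ext C (cen_le_rad C _ h2) (cen_le_rad C _ h1)
      (by rw [h2', h1', hw u hu, hw v hv])
      (by rw [((Fr.mem_cen_iff_wt C).1 h1).2, ((Fr.mem_cen_iff_wt C).1 h2).2])
  -- the defect
  have hsect : ∀ x, ∃ u, x ∈ Fr.W C → u ∈ rad C Fr.e ∧ Fr.wt u = x := fun x => by
    by_cases hx : x ∈ Fr.W C
    · obtain ⟨u, hu, e⟩ := Fr.exists_wt C hx
      exact ⟨u, fun _ => ⟨hu, e⟩⟩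
    · exact ⟨1, fun h' => absurd h' hx⟩
  choose sec hsec using hsect
  obtain ⟨χ, hχ⟩ : ∃ χ : Vn → F, ∀ x, χ x = Fr.al (D.B (sec x)) - Fr.al (sec x) := ⟨_, fun _ => rfl⟩
  have hwell : ∀ u ∈ rad C Fr.e, Fr.al (D.B u) = Fr.al u + χ (Fr.wt u) := by
    intro u hu
    obtain ⟨hs, hsw⟩ := hsec _ (Fr.wt_mem C u)
    rw [hχ]
    generalize sec (Fr.wt u) = v at hs hsw ⊢
    have hz : v⁻¹ * u ∈ cen C Fr.e := by
      refine (Fr.mem_cen_iff_wt C).2 ⟨mul_mem (inv_mem hs) hu, ?_⟩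
      have := Fr.wt_mul C hs (mul_mem (inv_mem hs) hu)
      rw [mul_inv_cancel_left, hsw] at this
      simpa using this.symm
    have hzr := cen_le_rad C _ hz
    have e1 := Fr.al_mul C (D.mem v hs) (D.mem _ hzr)
    rw [← D.mul v hs _ hzr, mul_inv_cancel_left, hcen _ hz, ((Fr.mem_cen_iff_wt C).1 hz).2,
      zero_left C] at e1
    have e2 := Fr.al_mul C hs hzr
    rw [mul_inv_cancel_left, ((Fr.mem_cen_iff_wt C).1 hz).2, zero_left C] at e2
    rw [e1, e2]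
    ring
  have hχ0 : ∀ x ∈ Fr.W C, χ x = 0 := by
    refine Fr.func_eq_zero C hk χ (fun x hx y hy => ?_) (fun s d hs x hx => ?_)
    · obtain ⟨u, hu, rfl⟩ := Fr.exists_wt C hx
      obtain ⟨v, hv, rfl⟩ := Fr.exists_wt C hy
      have e1 := hwell _ (mul_mem hu hv)
      rw [D.mul u hu v hv, Fr.al_mul C (D.mem u hu) (D.mem v hv), Fr.al_mul C hu hv, hw u hu,
        hw v hv, hwell u hu, hwell v hv, Fr.wt_mul C hu hv] at e1
      linear_combination -e1
    · obtain ⟨t, ht⟩ := QuotientGroup.mk'_surjective _ (β (π s))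
      obtain ⟨d', hd'⟩ := D.exists_InL hn hF p he hf ht.symm hs
      -- the two norms agree
      have hN : d' * C.σ d' = d * C.σ d := by
        obtain ⟨l, hl0, hl⟩ := exists_anti C
        obtain ⟨z, hz, hzx⟩ := exists_cen C Fr.hee hl
        have hzr := cen_le_rad C _ hz
        have hza : Fr.al z = l := by
          rw [Frame.al, hzx, Fr.hfe, mul_one, add_left C, smul_left C, Fr.hff, Fr.hef]; ring
        obtain ⟨c1, c2, c3⟩ := hs.conj_rad C Fr hzr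
        obtain ⟨-, -, c3'⟩ := hd'.conj_rad C Fr (D.mem z hzr)
        have hc : s * z * s⁻¹ ∈ cen C Fr.e := (Fr.mem_cen_iff_wt C).2
          ⟨c1, by rw [c2, ((Fr.mem_cen_iff_wt C).1 hz).2, act_zero, smul_zero]⟩
        rw [← D.conj_eq hn hF p ht.symm hs hd' hzr, hcen _ hc, c3, hcen _ hz, hza] at c3'
        exact (mul_right_cancel₀ hl0 c3').symm
      obtain ⟨u, hu, rfl⟩ := Fr.exists_wt C hx
      obtain ⟨c1, c2, c3⟩ := hs.conj_rad C Fr hu
      obtain ⟨-, -, c3'⟩ := hd'.conj_rad C Fr (D.mem u hu)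
      have e1 := hwell _ c1
      rw [D.conj_eq hn hF p ht.symm hs hd' hu, c3', c2, c3, hN, hwell u hu] at e1
      linear_combination -e1
  have hB : ∀ u ∈ rad C Fr.e, D.B u = u := fun u hu =>
    Fr.rad_ext C (D.mem u hu) hu (by rw [hwell u hu, hχ0 _ (Fr.wt_mem C u), add_zero]) (hw u hu)
  have hspec : ∀ u ∈ rad C Fr.e, β (π u) = π u := fun u hu => by rw [D.spec u hu, hB u hu]
  -- all points are fixed
  have hpt : ∀ y : Vn, 𝕙 y y = 0 → 𝕙 y Fr.e = 1 → Rel C β y y := by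
    intro y hy hye
    obtain ⟨u, hu, rfl⟩ := Fr.exists_rad_of_point C hy hye
    exact rel_compat C hf (hspec u hu)
  have hall : ∀ c : Vn, IsIso q c → Rel C β c c := by
    intro c hc
    by_cases hce : 𝕙 c Fr.e = 0
    swap
    · have h1 := hpt ((𝕙 c Fr.e)⁻¹ • c) (by rw [smul_left C, smul_right C, hc.2]; ring)
        (by rw [smul_left C, inv_mul_cancel₀ hce])
      have := rel_smul C h1 hce hce
      rwa [smul_inv_smul₀ hce] at this
    by_cases hw0 : Fr.P c = 0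
    · have hcd : c = 𝕙 c Fr.f • Fr.e := by
        conv_lhs => rw [Fr.decomp c, hce, hw0, zero_smul, add_zero, add_zero]
      have h0 : 𝕙 c Fr.f ≠ 0 := fun e => hc.1 (by rw [hcd, e, zero_smul])
      rw [hcd]
      exact rel_smul C he h0 h0
    obtain ⟨d, hd, hrel⟩ := exists_rel C hn hF p hn3 β hc
    have hde : 𝕙 d Fr.e = 0 := (rel_orth C hn hF p hc (Fr.iso_e C) hd (Fr.iso_e C) hrel he).1 hce
    have hzero : ∀ v ∈ Fr.W C, 𝕙 (Fr.P c) v = -𝕙 c Fr.f → 𝕙 (Fr.P d) v = -𝕙 d Fr.f := by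
      intro v hv e
      obtain ⟨u, hu, rfl⟩ := Fr.exists_wt C hv
      have hy : IsIso q (act u Fr.f) := (Fr.iso_f C).act u
      have hyr : Rel C β (act u Fr.f) (act u Fr.f) := rel_compat C hf (hspec u hu)
      obtain ⟨y1, y2, y3⟩ := Fr.coord C (Fr.wt_mem C u) (a := Fr.al u) (b := 1)
        (x := act u Fr.f) (by rw [one_smul]; exact Fr.act_f C hu)
      have h0 : 𝕙 c (act u Fr.f) = 0 := by
        rw [Fr.h_decomp C, y2, y3, hce, e, map_one]; ring
      have h1 := (rel_orth C hn hF p hc hy hd hy hrel hyr).1 h0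
      rw [Fr.h_decomp C, y2, y3, hde, map_one] at h1
      linear_combination h1
    obtain ⟨v₁, hv₁, hv₁'⟩ := Fr.exists_W_one C (Fr.P_mem C c) hw0
    obtain ⟨v₂, hv₂⟩ : ∃ v₂, v₂ = C.σ (-𝕙 c Fr.f) • v₁ := ⟨_, rfl⟩
    have hv₂m : v₂ ∈ Fr.W C := hv₂ ▸ Submodule.smul_mem _ _ hv₁
    have hv₂' : 𝕙 (Fr.P c) v₂ = -𝕙 c Fr.f := by
      rw [hv₂, smul_right C, C.invol, hv₁', mul_one]
    obtain ⟨t, ht⟩ : ∃ t, t = 𝕙 (Fr.P d) v₁ := ⟨_, rfl⟩
    have hprop : Fr.P d = t • Fr.P c := by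
      refine Fr.W_eq_of_forall C (Fr.P_mem C d) (Submodule.smul_mem _ _ (Fr.P_mem C c)) fun v hv => ?_
      obtain ⟨v', hv'⟩ : ∃ v', v' = v - C.σ (𝕙 (Fr.P c) v) • v₁ := ⟨_, rfl⟩
      have hv'm : v' ∈ Fr.W C := hv' ▸ sub_mem hv (Submodule.smul_mem _ _ hv₁)
      have h0 : 𝕙 (Fr.P c) v' = 0 := by
        rw [hv', sub_right C, smul_right C, C.invol, hv₁', mul_one, sub_self]
      have e1 := hzero (v₂ + v') (add_mem hv₂m hv'm) (by rw [add_right C, hv₂', h0, add_zero])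
      have e2 := hzero v₂ hv₂m hv₂'
      rw [add_right C, e2, add_eq_left, hv', sub_right C, smul_right C, C.invol, sub_eq_zero,
        ← ht] at e1
      rw [e1, smul_left C]
      ring
    have hdc : d = t • c := by
      have e2 := hzero v₂ hv₂m hv₂'
      rw [hprop, smul_left C, hv₂'] at e2
      conv_lhs => rw [Fr.decomp d, hde, hprop, show 𝕙 d Fr.f = t * 𝕙 c Fr.f by linear_combination e2]
      conv_rhs => rw [Fr.decomp c, hce]
      module
    have ht0 : t ≠ 0 := fun e => hd.1 (by rw [hdc, e, zero_smul])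
    rw [hdc, Rel, cenQ_smul C ht0] at hrel
    exact hrel
  -- conclusion
  refine MulEquiv.ext fun x => ?_
  induction x using QuotientGroup.induction_on with
  | _ s =>
    obtain ⟨t, ht⟩ := QuotientGroup.mk'_surjective _ (β (π s))
    have hfix : ∀ c, IsIso q c → ∃ a : F, act (s⁻¹ * t) c = a • c := by
      intro c hc
      obtain ⟨a, -, ha⟩ := rel_unique C hn hF p (hc.act s) (hc.act t) (hall _ (hc.act s))
        (rel_compat C (hall c hc) ht.symm)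
      exact ⟨a, by rw [act_mul, ha, act_smul, act_inv_act]⟩
    obtain ⟨α, hα⟩ := hfix _ (Fr.iso_e C)
    obtain ⟨γ, hγ⟩ := hfix _ (Fr.iso_f C)
    have hL : Fr.InL C (s⁻¹ * t) α := Fr.mem_InL_of C hα hγ
    have hkey : ∀ u ∈ rad C Fr.e, act (s⁻¹ * t) (Fr.wt u) = γ • Fr.wt u ∧
        Fr.al u * α = γ * Fr.al u := by
      intro u hu
      obtain ⟨a, ha⟩ := hfix _ ((Fr.iso_f C).act u)
      rw [Fr.act_f C hu] at ha
      have e1 := Fr.coord C (hL.mapsTo C Fr (Fr.wt_mem C u)) (a := Fr.al u * α) (b := γ)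
        (x := act (s⁻¹ * t) (Fr.al u • Fr.e + Fr.f + Fr.wt u))
        (by rw [act_add, act_add, act_smul, hα, hγ, smul_smul])
      have e2 := Fr.coord C (Submodule.smul_mem _ a (Fr.wt_mem C u)) (a := a * Fr.al u) (b := a)
        (x := act (s⁻¹ * t) (Fr.al u • Fr.e + Fr.f + Fr.wt u))
        (by rw [ha, smul_add, smul_add, smul_smul])
      have hag : a = γ := e2.2.1.symm.trans e1.2.1
      exact ⟨e1.2.2.symm.trans (hag ▸ e2.2.2), e1.1.symm.trans (hag ▸ e2.1)⟩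
    have hαγ : α = γ := by
      obtain ⟨l, hl0, hl⟩ := exists_anti C
      obtain ⟨z, hz, hza⟩ : ∃ z ∈ rad C Fr.e, Fr.al z = l := by
        obtain ⟨z, hz, -, hza⟩ := Fr.exists_rad C (zero_mem _) (a := l)
          (by rw [hl, zero_left C]; ring)
        exact ⟨z, hz, hza⟩
      have := (hkey z hz).2
      rw [hza, mul_comm] at this
      exact mul_right_cancel₀ hl0 this
    have hscal : ∀ x, act (s⁻¹ * t) x = γ • x := fun x => by
      obtain ⟨u, hu, hux⟩ := Fr.exists_wt C (Fr.P_mem C x)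
      conv_lhs => rw [Fr.decomp x, act_add, act_add, act_smul, act_smul, hα, hγ, ← hux,
        (hkey u hu).1, hux, hαγ]
      conv_rhs => rw [Fr.decomp x]
      module
    show β (π s) = π s
    rw [← ht]
    exact (QuotientGroup.eq.2 ((mem_center_iff C hn hF _).2 ⟨γ, hscal⟩)).symm

omit [Nonempty (Fin k)] hk in
/-- The Galois part and, up to scalars, the linear part are determined. -/
theorem semi_eq_one_imp [Nonempty (Fin k)] {g : GUn} {τ : F ≃+* F}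
    (hg : (semi g τ : MulAut PSUn) = 1) :
    τ = 1 ∧ ∃ a : F, ∀ x : Vn, ((g : GL (Fin n) F) : Mn) *ᵥ x = a • x := by
  obtain ⟨Φ, hΦ⟩ : ∃ Φ : Vn → Vn, ∀ x, Φ x = sm (g : GL (Fin n) F) τ x := ⟨_, fun _ => rfl⟩
  have hline : ∀ c, IsIso q c → ∃ a : F, Φ c = a • c := by
    intro c hc
    have h1 := rel_semi C g τ c
    rw [hg, ← hΦ] at h1
    have hc' : IsIso q (Φ c) := ⟨fun e => hc.1 (by
      rw [hΦ] at e
      exact sm_inj _ τ (e.trans (sm_zero _ τ).symm)), by rw [hΦ, sm_pres g.2, hc.2, map_zero]⟩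
    obtain ⟨a, -, ha⟩ := rel_unique C hn hF p hc hc' (rel_one C c) h1
    exact ⟨a, ha⟩
  have hadd : ∀ x y, Φ (x + y) = Φ x + Φ y := fun x y => by rw [hΦ, hΦ, hΦ, sm_add]
  have hsmul : ∀ (a : F) x, Φ (a • x) = τ a • Φ x := fun a x => by rw [hΦ, hΦ, sm_smul]
  have hcomm : ∀ u ∈ rad C Fr.e, ∀ x, act u (Φ x) = Φ (act u x) := by
    intro u hu x
    have h1 : suConj g τ u = u := by
      obtain ⟨α, hα⟩ := hline _ (Fr.iso_e C)
      rw [hΦ] at hα
      have hα0 : α ≠ 0 := fun e => Fr.e_ne_zero C (by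
        rw [e, zero_smul] at hα
        exact sm_inj _ τ (hα.trans (sm_zero _ τ).symm))
      have hm := suConj_mem_rad C g τ hu
      rw [hα, rad_smul C hα0] at hm
      refine Fr.rad_mk_inj C hn hF p hm hu ?_
      show (QuotientGroup.mk (suConj g τ u) : PSUn) = QuotientGroup.mk u
      rw [← semi_mk, hg]
      rfl
    conv_lhs => rw [← h1, hΦ, act_suConj, ← hΦ]
  obtain ⟨α, hα⟩ := hline _ (Fr.iso_e C)
  obtain ⟨γ, hγ⟩ := hline _ (Fr.iso_f C)
  have hfγ : 𝕙 (Φ Fr.f) Fr.e = γ := by rw [hγ, smul_left C, Fr.hfe, mul_one]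
  have hkey : ∀ u ∈ rad C Fr.e, Φ (Fr.wt u) = γ • Fr.wt u ∧ τ (Fr.al u) * α = γ * Fr.al u := by
    intro u hu
    have e1 := hcomm u hu Fr.f
    rw [hγ, act_smul, Fr.act_f C hu, hadd, hadd, hsmul, hα, hγ, smul_add, smul_add, smul_smul,
      smul_smul] at e1
    have hW : Φ (Fr.wt u) ∈ Fr.W C := by
      have hα0 : α ≠ 0 := fun e => Fr.e_ne_zero C (by
        rw [e, zero_smul, hΦ] at hα
        exact sm_inj _ τ (hα.trans (sm_zero _ τ).symm))
      have hγ0 : γ ≠ 0 := fun e => Fr.f_ne_zero C (by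
        rw [e, zero_smul, hΦ] at hγ
        exact sm_inj _ τ (hγ.trans (sm_zero _ τ).symm))
      constructor
      · have := sm_pres g.2 τ (Fr.wt u) Fr.e
        rw [← hΦ, ← hΦ, hα, smul_right C, (Fr.wt_mem C u).1, map_zero, mul_eq_zero] at this
        exact this.resolve_left ((map_ne_zero C.σ).2 hα0)
      · have := sm_pres g.2 τ (Fr.wt u) Fr.f
        rw [← hΦ, ← hΦ, hγ, smul_right C, (Fr.wt_mem C u).2, map_zero, mul_eq_zero] at this
        exact this.resolve_left ((map_ne_zero C.σ).2 hγ0)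
    have c1 := Fr.coord C hW (a := τ (Fr.al u) * α) (b := γ) rfl
    have c2 := Fr.coord C (Submodule.smul_mem _ γ (Fr.wt_mem C u)) (a := γ * Fr.al u) (b := γ)
      e1.symm
    exact ⟨c1.2.2.symm.trans c2.2.2, c1.1.symm.trans c2.1⟩
  obtain ⟨i₀⟩ : Nonempty (Fin k) := inferInstance
  have hW : ∀ v ∈ Fr.W C, Φ v = γ • v := fun v hv => by
    obtain ⟨u, hu, rfl⟩ := Fr.exists_wt C hv
    exact (hkey u hu).1
  have hγ0 : γ ≠ 0 := fun e => Fr.f_ne_zero C (by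
    rw [e, zero_smul, hΦ] at hγ
    exact sm_inj _ τ (hγ.trans (sm_zero _ τ).symm))
  have hτ : τ = 1 := RingEquiv.ext fun a => by
    have e1 := hW (a • Fr.b i₀) (Submodule.smul_mem _ _ (Fr.b_mem C i₀))
    rw [hsmul, hW _ (Fr.b_mem C i₀), smul_smul, smul_smul] at e1
    have := smul_left_injective F (Fr.b_ne_zero C i₀) e1
    exact mul_left_cancel₀ hγ0 (by rw [mul_comm γ (τ a)]; exact this)
  subst hτ
  refine ⟨rfl, γ, fun x => ?_⟩
  have hαγ : α = γ := by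
    obtain ⟨l, hl0, hl⟩ := exists_anti C
    obtain ⟨z, hz, -, hza⟩ := Fr.exists_rad C (zero_mem _) (a := l)
      (by rw [hl, zero_left C]; ring)
    have := (hkey z hz).2
    rw [hza, RingAut.one_apply, mul_comm] at this
    exact mul_right_cancel₀ hl0 this
  have hgx : ((g : GL (Fin n) F) : Mn) *ᵥ x = Φ x := (hΦ x).symm
  rw [hgx]
  conv_lhs => rw [Fr.decomp x, hadd, hadd, hsmul, hsmul, hα, hγ, hW _ (Fr.P_mem C x), hαγ,
    RingAut.one_apply, RingAut.one_apply]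
  conv_rhs => rw [Fr.decomp x]
  module

/-- Every automorphism is induced by a semilinear isometry. -/
theorem exists_semi (hn3 : 3 ≤ n) (β : MulAut PSUn) :
    ∃ (g : GUn) (τ : F ≃+* F), β = semi g τ := by
  obtain ⟨d₁, hd₁, hr₁⟩ := exists_rel C hn hF p hn3 β (Fr.iso_e C)
  obtain ⟨d₂, hd₂, hr₂⟩ := exists_rel C hn hF p hn3 β (Fr.iso_f C)
  have h12 : 𝕙 d₁ d₂ ≠ 0 := fun e => by
    have := (rel_orth C hn hF p (Fr.iso_e C) (Fr.iso_f C) hd₁ hd₂ hr₁ hr₂).2 e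
    rw [Fr.hef] at this
    exact one_ne_zero this
  obtain ⟨d₃, hd₃⟩ : ∃ d₃, d₃ = C.σ (𝕙 d₁ d₂)⁻¹ • d₂ := ⟨_, rfl⟩
  have hs0 : C.σ (𝕙 d₁ d₂)⁻¹ ≠ 0 := (map_ne_zero C.σ).2 (inv_ne_zero h12)
  have hd₃' : IsIso q d₃ := hd₃ ▸ hd₂.smul C hs0
  have hr₃ : Rel C β Fr.f d₃ := by
    rw [hd₃, Rel, cenQ_smul C hs0]
    exact hr₂
  have h13 : 𝕙 d₁ d₃ = 1 := by rw [hd₃, smul_right C, C.invol, inv_mul_cancel₀ h12]
  have h31 : 𝕙 d₃ d₁ = 1 := by rw [symm C d₁ d₃, h13, map_one]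
  have hli : ∀ x y : Vn, 𝕙 x x = 0 → 𝕙 x y = 1 → LinearIndependent F ![x, y] := by
    intro x y hx hxy
    rw [LinearIndependent.pair_iff]
    intro s t e
    have ht : t = 0 := by
      have := congrArg (fun z => 𝕙 z x) e
      simpa [add_left C, smul_left C, hx, zero_left C, symm C x y, hxy] using this
    subst ht
    rw [zero_smul, add_zero, smul_eq_zero] at e
    refine ⟨e.resolve_right fun e0 => ?_, rfl⟩
    rw [e0, zero_left C] at hxy
    exact zero_ne_one hxy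
  obtain ⟨L, hL, hLe⟩ := (isHerm (n := n) C).exists_iso_of_gram (hli d₁ d₃ hd₁.2 h13)
    (hli Fr.e Fr.f Fr.hee Fr.hef) (fun i j => by
      fin_cases i <;> fin_cases j
      · exact hd₁.2.trans Fr.hee.symm
      · exact h13.trans Fr.hef.symm
      · exact h31.trans Fr.hfe.symm
      · exact hd₃'.2.trans Fr.hff.symm)
  obtain ⟨g₀, hg₀⟩ := exists_GU (q := q) C (LinearMap.toMatrix' L.toLinearMap) fun x y => by
    rw [LinearMap.toMatrix'_mulVec, LinearMap.toMatrix'_mulVec]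
    exact hL x y
  have hsm : ∀ x, sm (g₀ : GL (Fin n) F) 1 x = L x := fun x => by
    rw [sm, hg₀, show ((1 : F ≃+* F) : F → F) = id from rfl, Function.id_comp,
      LinearMap.toMatrix'_mulVec]
    rfl
  have he : Rel C (semi g₀ 1 * β) Fr.e Fr.e := by
    refine rel_comp C hr₁ ?_
    have := rel_semi C g₀ 1 d₁
    rwa [hsm, show L d₁ = Fr.e from hLe 0] at this
  have hf : Rel C (semi g₀ 1 * β) Fr.f Fr.f := by
    refine rel_comp C hr₃ ?_
    have := rel_semi C g₀ 1 d₃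
    rwa [hsm, show L d₃ = Fr.f from hLe 1] at this
  obtain ⟨g, τ, hge, hgf, hgw⟩ := exists_semi_phi C hn hF p Fr hk he hf
  obtain ⟨g', hg'⟩ := semi_inverse g τ
  obtain ⟨g₁, hg₁⟩ := semi_inverse g₀ (1 : F ≃+* F)
  have h1 : (semi g τ : MulAut PSUn)⁻¹ * (semi g₀ 1 * β) = 1 := by
    refine eq_one_of_trivial C hn hF p Fr hk hn3 (rel_comp C he (rel_symm C hge))
      (rel_comp C hf (rel_symm C hgf)) fun u hu u' e hu' => ?_
    obtain ⟨D⟩ := exists_liftData C hn hF p Fr he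
    have e1 : semi g τ (π u') = π (D.B u) := by
      rw [← e, ← D.spec u hu]
      exact MulEquiv.apply_symm_apply _ _
    obtain ⟨m, hm⟩ := hgw u hu _ (D.spec u hu) (D.mem u hu)
    obtain ⟨D'⟩ := exists_liftData C hn hF p Fr hge
    have e2 : D'.B u' = D.B u := Fr.rad_mk_inj C hn hF p (D'.mem u' hu') (D.mem u hu)
      ((D'.spec u' hu').symm.trans e1)
    have e3 : ∀ v ∈ rad C Fr.e, D'.φ (Fr.wt v) = Fr.wt (suConj g τ v) := fun v hv => by
      obtain ⟨d, hd, hse⟩ : ∃ d : F, d ≠ 0 ∧ sm (g : GL (Fin n) F) τ Fr.e = d • Fr.e := by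
        have hc' : IsIso q (sm (g : GL (Fin n) F) τ Fr.e) := ⟨fun e0 => Fr.e_ne_zero C
          (sm_inj _ τ (e0.trans (sm_zero _ τ).symm)), by rw [sm_pres g.2, Fr.hee, map_zero]⟩
        exact rel_unique C hn hF p (Fr.iso_e C) hc' hge (rel_semi C g τ Fr.e)
      have hv' : suConj g τ v ∈ rad C Fr.e := by
        have := suConj_mem_rad C g τ hv
        rwa [hse, rad_smul C hd] at this
      rw [D'.φ_wt v hv, Fr.rad_mk_inj C hn hF p (D'.mem v hv) hv'
        ((D'.spec v hv).symm.trans (semi_mk g τ v))]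
    refine D'.φ_inj _ (Fr.wt_mem C _) _ (Fr.wt_mem C _) ?_
    rw [e3 u hu, hm, D'.φ_wt u' hu', e2]
  refine ⟨g₁ * mapGU 1⁻¹ g, 1⁻¹ * τ, ?_⟩
  rw [← semi_mul, inv_mul_eq_one.1 h1, ← mul_assoc, hg₁, one_mul]

end Cfsg.Agent.AutPSU
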