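import Cfsg.Agent.Lib.AutPSU.Points

/-!
The action of a semilinear isometry on the root groups.
-/

set_option autoImplicit false

namespace Cfsg.Agent.AutPSU

open Matrix

variable {F : Type*} [Field F] {n q : ℕ}

local notation "Vn" => Fin n → F
local notation "SUn" => Cfsg.SU n F q
local notation "GUn" => Cfsg.GU n F q
local notation "PSUn" => Cfsg.PSU n F q
local notation "π" => QuotientGroup.mk' (Subgroup.center SUn)
local notation "𝕙" => h (q := q)

variable (C : Conj F q)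

theorem sm_surj (g : GUn) (τ : F ≃+* F) (x : Vn) : ∃ y, sm (g : GL (Fin n) F) τ y = x := by
  obtain ⟨g', h1, -⟩ := exists_inverse g τ
  exact ⟨sm (g' : GL (Fin n) F) τ⁻¹ x, by rw [sm_comp, h1, mul_inv_cancel, sm_one]⟩

theorem sm_zero (g : GL (Fin n) F) (τ : F ≃+* F) : sm g τ (0 : Vn) = 0 := by
  rw [← zero_smul F (0 : Vn), sm_smul, map_zero, zero_smul, zero_smul]

theorem suConj_mem_cen (g : GUn) (τ : F ≃+* F) {c : Vn} {s : SUn} (hs : s ∈ cen C c) :
    suConj g τ s ∈ cen C (sm (g : GL (Fin n) F) τ c) := by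
  obtain ⟨hs1, l, hl⟩ := hs
  refine ⟨by rw [act_suConj, hs1], τ l, fun x => ?_⟩
  obtain ⟨y, rfl⟩ := sm_surj g τ x
  rw [act_suConj, hl, sm_add, sm_smul, map_mul, sm_pres g.2]

theorem suConj_mem_rad (g : GUn) (τ : F ≃+* F) {c : Vn} {s : SUn} (hs : s ∈ rad C c) :
    suConj g τ s ∈ rad C (sm (g : GL (Fin n) F) τ c) := by
  refine ⟨by rw [act_suConj, hs.1], fun w hw => ?_⟩
  obtain ⟨y, rfl⟩ := sm_surj g τ w
  rw [sm_pres g.2, map_eq_zero] at hw
  obtain ⟨l, hl⟩ := hs.2 y hw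
  exact ⟨τ l, by rw [act_suConj, hl, sm_add, sm_smul]⟩

theorem rel_semi (g : GUn) (τ : F ≃+* F) (c : Vn) :
    Rel C (semi g τ : MulAut PSUn) c (sm (g : GL (Fin n) F) τ c) := by
  obtain ⟨g', h1, h2⟩ := exists_inverse g τ
  refine le_antisymm ?_ ?_
  · rintro _ ⟨_, ⟨s, hs, rfl⟩, rfl⟩
    exact ⟨suConj g τ s, suConj_mem_cen C g τ hs, (semi_mk g τ s).symm⟩
  · rintro _ ⟨t, ht, rfl⟩
    have hc : sm (g' : GL (Fin n) F) τ⁻¹ (sm (g : GL (Fin n) F) τ c) = c := by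
      rw [sm_comp, h2, inv_mul_cancel, sm_one]
    have hmem := suConj_mem_cen C g' τ⁻¹ ht
    rw [hc] at hmem
    refine ⟨_, Subgroup.mem_map_of_mem _ hmem, ?_⟩
    show semi g τ (QuotientGroup.mk _) = QuotientGroup.mk t
    rw [semi_mk, suConj_comp, h1, mul_inv_cancel, suConj_one]

end Cfsg.Agent.AutPSU
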