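import Cfsg.Agent.Lib.AutPSU.Torus
import Cfsg.Agent.Lib.AutPSU.Semilinear

/-!
An automorphism fixing a hyperbolic pair of points agrees on the radical, modulo its centre, with a semilinear
isometry.
-/

set_option autoImplicit false

namespace Cfsg.Agent.AutPSU

open Matrix

variable {F : Type*} [Field F] {n q k : ℕ}

local notation "Vn" => Fin n → F
local notation "SUn" => Cfsg.SU n F q
local notation "GUn" => Cfsg.GU n F q
local notation "PSUn" => Cfsg.PSU n F q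
local notation "π" => QuotientGroup.mk' (Subgroup.center SUn)
local notation "𝕙" => h (q := q)

variable (C : Conj F q) [Fintype F] (hn : 2 ≤ n) (hF : Fintype.card F = q ^ 2) (p : ℕ) [Fact p.Prime]
  [CharP F p] [Nonempty (Fin k)] (Fr : Frame F n q k)
include C hn hF p

/-- The action of an automorphism on the radical. -/
structure Lift (β : MulAut PSUn) where
  B : SUn → SUn
  φ : Vn → Vn
  mem : ∀ u ∈ rad C Fr.e, B u ∈ rad C Fr.e
  spec : ∀ u ∈ rad C Fr.e, β (π u) = π (B u)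
  mul : ∀ u ∈ rad C Fr.e, ∀ v ∈ rad C Fr.e, B (u * v) = B u * B v
  cen_mem : ∀ u ∈ cen C Fr.e, B u ∈ cen C Fr.e
  φ_mem : ∀ x ∈ Fr.W C, φ x ∈ Fr.W C
  φ_add : ∀ x ∈ Fr.W C, ∀ y ∈ Fr.W C, φ (x + y) = φ x + φ y
  φ_inj : ∀ x ∈ Fr.W C, ∀ y ∈ Fr.W C, φ x = φ y → x = y
  φ_surj : ∀ y ∈ Fr.W C, ∃ x ∈ Fr.W C, φ x = y
  φ_wt : ∀ u ∈ rad C Fr.e, φ (Fr.wt u) = Fr.wt (B u)

theorem exists_liftData {β : MulAut PSUn} (he : Rel C β Fr.e Fr.e) :
    Nonempty (Lift C Fr β) := by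
  classical
  have hmap := Fr.map_radQ C hn hF p he
  have hex : ∀ u, ∃ u', u ∈ rad C Fr.e → u' ∈ rad C Fr.e ∧ β (π u) = π u' := fun u => by
    by_cases hu : u ∈ rad C Fr.e
    · obtain ⟨u', hu', e⟩ : β (π u) ∈ radQ C Fr.e :=
        hmap ▸ Subgroup.mem_map_of_mem β.toMonoidHom (Subgroup.mem_map_of_mem _ hu)
      exact ⟨u', fun _ => ⟨hu', e.symm⟩⟩
    · exact ⟨1, fun h' => absurd h' hu⟩
  choose B hB using hex
  have hmul : ∀ u ∈ rad C Fr.e, ∀ v ∈ rad C Fr.e, B (u * v) = B u * B v := fun u hu v hv =>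
    Fr.rad_mk_inj C hn hF p (hB _ (mul_mem hu hv)).1 (mul_mem (hB u hu).1 (hB v hv).1) (by
      rw [map_mul π (B u), ← (hB u hu).2, ← (hB v hv).2, ← (hB _ (mul_mem hu hv)).2, map_mul, map_mul])
  have hcen : ∀ u ∈ rad C Fr.e, (B u ∈ cen C Fr.e ↔ u ∈ cen C Fr.e) := by
    intro u hu
    have he' : (cenQ C Fr.e).map β.toMonoidHom = cenQ C Fr.e := he
    constructor
    · intro hc
      obtain ⟨x, ⟨v, hv, rfl⟩, e⟩ : π (B u) ∈ (cenQ C Fr.e).map β.toMonoidHom :=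
        he'.symm ▸ Subgroup.mem_map_of_mem _ hc
      have e' : π v = π u := β.injective (e.trans (hB u hu).2.symm)
      rwa [← Fr.rad_mk_inj C hn hF p (cen_le_rad C _ hv) hu e']
    · intro hc
      obtain ⟨v, hv, e⟩ : β (π u) ∈ cenQ C Fr.e :=
        he' ▸ Subgroup.mem_map_of_mem β.toMonoidHom (Subgroup.mem_map_of_mem _ hc)
      rwa [← Fr.rad_mk_inj C hn hF p (cen_le_rad C _ hv) (hB u hu).1 (e.trans (hB u hu).2)]
  have hsect : ∀ x, ∃ u, x ∈ Fr.W C → u ∈ rad C Fr.e ∧ Fr.wt u = x := fun x => by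
    by_cases hx : x ∈ Fr.W C
    · obtain ⟨u, hu, e⟩ := Fr.exists_wt C hx
      exact ⟨u, fun _ => ⟨hu, e⟩⟩
    · exact ⟨1, fun h' => absurd h' hx⟩
  choose sec hsec using hsect
  have hwell : ∀ u ∈ rad C Fr.e, Fr.wt (B (sec (Fr.wt u))) = Fr.wt (B u) := by
    intro u hu
    obtain ⟨hs, hsw⟩ := hsec _ (Fr.wt_mem C u)
    generalize sec (Fr.wt u) = v at hs hsw ⊢
    have hz : v⁻¹ * u ∈ cen C Fr.e := by
      refine (Fr.mem_cen_iff_wt C).2 ⟨mul_mem (inv_mem hs) hu, ?_⟩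
      have := Fr.wt_mul C hs (mul_mem (inv_mem hs) hu)
      rw [mul_inv_cancel_left, hsw] at this
      simpa using this.symm
    have := Fr.wt_mul C (hB v hs).1 (hB _ (cen_le_rad C _ hz)).1
    rw [← hmul v hs _ (cen_le_rad C _ hz), mul_inv_cancel_left,
      ((Fr.mem_cen_iff_wt C).1 ((hcen _ (cen_le_rad C _ hz)).2 hz)).2, add_zero] at this
    exact this.symm
  have hinj : ∀ x ∈ Fr.W C, Fr.wt (B (sec x)) = 0 → x = 0 := fun x hx e => by
    obtain ⟨hs, hsw⟩ := hsec x hx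
    have := (hcen _ hs).1 ((Fr.mem_cen_iff_wt C).2 ⟨(hB _ hs).1, e⟩)
    rw [← hsw]
    exact ((Fr.mem_cen_iff_wt C).1 this).2
  have hadd : ∀ x ∈ Fr.W C, ∀ y ∈ Fr.W C,
      Fr.wt (B (sec (x + y))) = Fr.wt (B (sec x)) + Fr.wt (B (sec y)) := fun x hx y hy => by
    obtain ⟨hs, hsx⟩ := hsec x hx
    obtain ⟨ht, hty⟩ := hsec y hy
    rw [← Fr.wt_mul C (hB _ hs).1 (hB _ ht).1, ← hmul _ hs _ ht, ← hwell _ (mul_mem hs ht),
      Fr.wt_mul C hs ht, hsx, hty]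
  refine ⟨{ B := B, φ := fun x => Fr.wt (B (sec x)), mem := fun u hu => (hB u hu).1,
            spec := fun u hu => (hB u hu).2, mul := hmul,
            cen_mem := fun u hu => (hcen u (cen_le_rad C _ hu)).2 hu,
            φ_mem := fun x _ => Fr.wt_mem C _, φ_add := hadd, φ_inj := ?_, φ_surj := ?_,
            φ_wt := hwell }⟩
  · intro x hx y hy e
    have h1 := hadd (x - y) (sub_mem hx hy) y hy
    change Fr.wt (B (sec x)) = Fr.wt (B (sec y)) at e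
    rw [sub_add_cancel, e, right_eq_add] at h1
    exact sub_eq_zero.1 (hinj _ (sub_mem hx hy) h1)
  · intro y hy
    obtain ⟨v, hv, rfl⟩ := Fr.exists_wt C hy
    obtain ⟨x, ⟨u, hu, rfl⟩, e⟩ : π v ∈ (radQ C Fr.e).map β.toMonoidHom :=
      hmap.symm ▸ Subgroup.mem_map_of_mem _ hv
    refine ⟨Fr.wt u, Fr.wt_mem C _, ?_⟩
    show Fr.wt (B (sec (Fr.wt u))) = _
    rw [hwell u hu, Fr.rad_mk_inj C hn hF p (hB u hu).1 hv ((hB u hu).2.symm.trans e)]

namespace Lift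

variable {C Fr} {β : MulAut (Cfsg.PSU n F q)} (D : Lift C Fr β)
include D

omit hn hF p [Fintype F] [Fact p.Prime] [CharP F p] [Nonempty (Fin k)] in
theorem φ_zero : D.φ 0 = 0 := by
  have := D.φ_add 0 (zero_mem _) 0 (zero_mem _)
  simpa using this

/-- Elements of the stabiliser correspond. -/
theorem exists_InL (he : Rel C β Fr.e Fr.e) (hf : Rel C β Fr.f Fr.f) {s t : SUn}
    (e : β (π s) = π t) {d : F} (hs : Fr.InL C s d) : ∃ d', Fr.InL C t d' := by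
  have he' := rel_compat C he e
  have hf' := rel_compat C hf e
  rw [hs.2.1] at he'
  rw [hs.2.2] at hf'
  have he'' : Rel C β Fr.e (act t Fr.e) := by
    rw [Rel] at he' ⊢
    rwa [cenQ_smul C hs.1] at he'
  have hf'' : Rel C β Fr.f (act t Fr.f) := by
    rw [Rel] at hf' ⊢
    rwa [cenQ_smul C (inv_ne_zero ((map_ne_zero C.σ).2 hs.1))] at hf'
  obtain ⟨a, -, ha⟩ := rel_unique C hn hF p (Fr.iso_e C) ((Fr.iso_e C).act t) he he''
  obtain ⟨b, -, hb⟩ := rel_unique C hn hF p (Fr.iso_f C) ((Fr.iso_f C).act t) hf hf''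
  exact ⟨a, Fr.mem_InL_of C ha hb⟩

theorem conj_eq {s t : SUn} (e : β (π s) = π t) {d d' : F} (hs : Fr.InL C s d)
    (ht : Fr.InL C t d') {u : SUn} (hu : u ∈ rad C Fr.e) :
    D.B (s * u * s⁻¹) = t * D.B u * t⁻¹ :=
  Fr.rad_mk_inj C hn hF p (D.mem _ (hs.conj_rad C Fr hu).1) (ht.conj_rad C Fr (D.mem u hu)).1 (by
    rw [← D.spec _ (hs.conj_rad C Fr hu).1, map_mul, map_mul, map_inv, map_mul, map_mul, map_inv, e,
      D.spec u hu, map_mul π (t * D.B u), map_mul π t, map_inv π t])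

theorem φ_equiv {s t : SUn} (e : β (π s) = π t) {d d' : F} (hs : Fr.InL C s d)
    (ht : Fr.InL C t d') {x : Vn} (hx : x ∈ Fr.W C) :
    D.φ (C.σ d • act s x) = C.σ d' • act t (D.φ x) := by
  obtain ⟨u, hu, rfl⟩ := Fr.exists_wt C hx
  rw [← (hs.conj_rad C Fr hu).2.1, D.φ_wt _ (hs.conj_rad C Fr hu).1, D.conj_eq hn hF p e hs ht hu,
    (ht.conj_rad C Fr (D.mem u hu)).2.1, D.φ_wt u hu]

/-- The weight map is semilinear. -/
theorem exists_tau (he : Rel C β Fr.e Fr.e) (hf : Rel C β Fr.f Fr.f)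
    (hk : 2 ≤ k ∨ ∃ s : F, s ^ 3 ≠ C.σ s ^ 3) :
    ∃ τ : F ≃+* F, ∀ a : F, ∀ x ∈ Fr.W C, D.φ (a • x) = τ a • D.φ x := by
  classical
  have hsurj : ∀ y, ∃ x, y ∈ Fr.W C → x ∈ Fr.W C ∧ D.φ x = y := fun y => by
    by_cases hy : y ∈ Fr.W C
    · obtain ⟨x, hx, e⟩ := D.φ_surj y hy
      exact ⟨x, fun _ => ⟨hx, e⟩⟩
    · exact ⟨0, fun h' => absurd h' hy⟩
  choose ψ hψ using hsurj
  have hscal : ∀ a : F, ∃ b : F, ∀ x ∈ Fr.W C, D.φ (a • x) = b • D.φ x := by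
    intro a
    obtain ⟨b, hb⟩ := Fr.scalar_of_comm C hk (fun y => D.φ (a • ψ y))
      (fun y hy => D.φ_mem _ (Submodule.smul_mem _ _ (hψ y hy).1))
      (fun y hy y' hy' => by
        rw [← D.φ_add _ (Submodule.smul_mem _ _ (hψ y hy).1) _
          (Submodule.smul_mem _ _ (hψ y' hy').1), ← smul_add]
        congr 2
        refine D.φ_inj _ (hψ _ (add_mem hy hy')).1 _ (add_mem (hψ y hy).1 (hψ y' hy').1) ?_
        rw [(hψ _ (add_mem hy hy')).2, D.φ_add _ (hψ y hy).1 _ (hψ y' hy').1, (hψ y hy).2,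
          (hψ y' hy').2])
      (fun t d' ht y hy => by
        obtain ⟨s, hs⟩ := QuotientGroup.mk'_surjective _ (β.symm (π t))
        have e : β (π s) = π t := by rw [hs, MulEquiv.apply_symm_apply]
        have e' : β⁻¹ (π t) = π s := hs.symm
        obtain ⟨d, hd⟩ : ∃ d, Fr.InL C s d := by
          have he' := rel_compat C (rel_symm C he) e'
          have hf' := rel_compat C (rel_symm C hf) e'
          rw [ht.2.1] at he'
          rw [ht.2.2] at hf'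
          have he'' : Rel C β⁻¹ Fr.e (act s Fr.e) := by
            rw [Rel] at he' ⊢
            rwa [cenQ_smul C ht.1] at he'
          have hf'' : Rel C β⁻¹ Fr.f (act s Fr.f) := by
            rw [Rel] at hf' ⊢
            rwa [cenQ_smul C (inv_ne_zero ((map_ne_zero C.σ).2 ht.1))] at hf'
          obtain ⟨a, -, ha⟩ := rel_unique C hn hF p (Fr.iso_e C) ((Fr.iso_e C).act s)
            (rel_symm C he) he''
          obtain ⟨b, -, hb⟩ := rel_unique C hn hF p (Fr.iso_f C) ((Fr.iso_f C).act s)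
            (rel_symm C hf) hf''
          exact ⟨a, Fr.mem_InL_of C ha hb⟩
        have hmem : C.σ d' • act t y ∈ Fr.W C :=
          Submodule.smul_mem _ _ (ht.mapsTo C Fr hy)
        have hψe : ψ (C.σ d' • act t y) = C.σ d • act s (ψ y) := by
          refine D.φ_inj _ (hψ _ hmem).1 _
            (Submodule.smul_mem _ _ (hd.mapsTo C Fr (hψ y hy).1)) ?_
          rw [(hψ _ hmem).2, D.φ_equiv hn hF p e hd ht (hψ y hy).1, (hψ y hy).2]
        rw [hψe, ← D.φ_equiv hn hF p e hd ht (Submodule.smul_mem _ _ (hψ y hy).1), act_smul]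
        congr 1
        exact smul_comm _ _ _)
    refine ⟨b, fun x hx => ?_⟩
    have := hb (D.φ x) (D.φ_mem x hx)
    rwa [D.φ_inj _ (hψ _ (D.φ_mem x hx)).1 x hx (hψ _ (D.φ_mem x hx)).2] at this
  choose τ hτ using hscal
  obtain ⟨i₀⟩ : Nonempty (Fin k) := inferInstance
  have hb0 : D.φ (Fr.b i₀) ≠ 0 := fun e =>
    Fr.b_ne_zero C i₀ (D.φ_inj _ (Fr.b_mem C i₀) _ (zero_mem _) (e.trans (D.φ_zero).symm))
  have huniq : ∀ {a b : F}, D.φ (a • Fr.b i₀) = b • D.φ (Fr.b i₀) → τ a = b := fun {a b} e =>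
    smul_left_injective F hb0 ((hτ a _ (Fr.b_mem C i₀)).symm.trans e)
  let τh : F →+* F :=
    { toFun := τ
      map_one' := huniq (by rw [one_smul, one_smul])
      map_zero' := huniq (by rw [zero_smul, zero_smul, D.φ_zero])
      map_mul' := fun a b => huniq (by
        rw [mul_smul, hτ a _ (Submodule.smul_mem _ _ (Fr.b_mem C i₀)), hτ b _ (Fr.b_mem C i₀),
          mul_smul])
      map_add' := fun a b => huniq (by
        rw [add_smul, D.φ_add _ (Submodule.smul_mem _ _ (Fr.b_mem C i₀)) _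
          (Submodule.smul_mem _ _ (Fr.b_mem C i₀)), hτ a _ (Fr.b_mem C i₀), hτ b _ (Fr.b_mem C i₀),
          add_smul]) }
  exact ⟨RingEquiv.ofBijective τh (Finite.injective_iff_bijective.1 τh.injective), hτ⟩

omit [Fintype F] [Nonempty (Fin k)] hn hF p [Fact p.Prime] [CharP F p] in
/-- Commutators in the radical. -/
theorem comm_al {u v : SUn} (hu : u ∈ rad C Fr.e) (hv : v ∈ rad C Fr.e) :
    u * v * (v * u)⁻¹ ∈ cen C Fr.e ∧
      Fr.al (u * v * (v * u)⁻¹) = 𝕙 (Fr.wt u) (Fr.wt v) - 𝕙 (Fr.wt v) (Fr.wt u) := by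
  have hz : u * v * (v * u)⁻¹ ∈ rad C Fr.e :=
    mul_mem (mul_mem hu hv) (inv_mem (mul_mem hv hu))
  have e : u * v = (u * v * (v * u)⁻¹) * (v * u) := (inv_mul_cancel_right _ _).symm
  have h1 : Fr.wt (u * v * (v * u)⁻¹) = 0 := by
    have := congrArg Fr.wt e
    rw [Fr.wt_mul C hz (mul_mem hv hu), Fr.wt_mul C hu hv, Fr.wt_mul C hv hu,
      add_comm (Fr.wt v), right_eq_add] at this
    exact this
  refine ⟨(Fr.mem_cen_iff_wt C).2 ⟨hz, h1⟩, ?_⟩
  have := congrArg Fr.al e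
  rw [Fr.al_mul C hz (mul_mem hv hu), h1, zero_right C, Fr.al_mul C hu hv, Fr.al_mul C hv hu] at this
  linear_combination -this

omit [Fintype F] [Nonempty (Fin k)] hn hF p [Fact p.Prime] [CharP F p] in
theorem B_one : D.B 1 = 1 := by
  have := D.mul 1 (one_mem _) 1 (one_mem _)
  rwa [one_mul, left_eq_mul] at this

omit [Fintype F] [Nonempty (Fin k)] hn hF p [Fact p.Prime] [CharP F p] in
theorem B_commutator {u v : SUn} (hu : u ∈ rad C Fr.e) (hv : v ∈ rad C Fr.e) :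
    D.B (u * v * (v * u)⁻¹) = D.B u * D.B v * (D.B v * D.B u)⁻¹ := by
  have hw : v * u ∈ rad C Fr.e := mul_mem hv hu
  have hz := cen_le_rad C _ (comm_al D hu hv).1
  have e := D.mul _ hz _ hw
  rw [inv_mul_cancel_right, D.mul u hu v hv, D.mul v hv u hu] at e
  exact eq_mul_inv_of_mul_eq e.symm

/-- Equal commutators have equal images. -/
theorem b_eq {x y x' y' : Vn} (hx : x ∈ Fr.W C) (hy : y ∈ Fr.W C) (hx' : x' ∈ Fr.W C)
    (hy' : y' ∈ Fr.W C) (e : 𝕙 x y - 𝕙 y x = 𝕙 x' y' - 𝕙 y' x') :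
    𝕙 (D.φ x) (D.φ y) - 𝕙 (D.φ y) (D.φ x) = 𝕙 (D.φ x') (D.φ y') - 𝕙 (D.φ y') (D.φ x') := by
  obtain ⟨u, hu, rfl⟩ := Fr.exists_wt C hx
  obtain ⟨v, hv, rfl⟩ := Fr.exists_wt C hy
  obtain ⟨u', hu', rfl⟩ := Fr.exists_wt C hx'
  obtain ⟨v', hv', rfl⟩ := Fr.exists_wt C hy'
  obtain ⟨h1, h1'⟩ := comm_al D hu hv
  obtain ⟨h2, h2'⟩ := comm_al D hu' hv'
  have e1 : u * v * (v * u)⁻¹ = u' * v' * (v' * u')⁻¹ :=
    Fr.rad_ext C (cen_le_rad C _ h1) (cen_le_rad C _ h2) (by rw [h1', h2', e])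
      (by rw [((Fr.mem_cen_iff_wt C).1 h1).2, ((Fr.mem_cen_iff_wt C).1 h2).2])
  have e2 := congrArg Fr.al (congrArg D.B e1)
  rw [B_commutator D hu hv, B_commutator D hu' hv', (comm_al D (D.mem u hu) (D.mem v hv)).2,
    (comm_al D (D.mem u' hu') (D.mem v' hv')).2] at e2
  rwa [D.φ_wt u hu, D.φ_wt v hv, D.φ_wt u' hu', D.φ_wt v' hv']

end Lift

end Cfsg.Agent.AutPSU
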