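import Cfsg.Agent.Lib.AutPSU.Frame
import Mathlib.GroupTheory.Sylow

/-!
The centres of the Sylow subgroups of `PSU n` in the defining characteristic are the transvection groups of
the isotropic points; hence automorphisms act on the isotropic points.
-/

set_option autoImplicit false

namespace Cfsg.Agent.AutPSU

open Matrix MulAction

variable {F : Type*} [Field F] {n q : ℕ}

local notation "Vn" => Fin n → F
local notation "SUn" => Cfsg.SU n F q
local notation "PSUn" => Cfsg.PSU n F q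
local notation "π" => QuotientGroup.mk' (Subgroup.center SUn)
local notation "𝕙" => h (q := q)

/-- A nonzero isotropic vector. -/
def IsIso (q : ℕ) (c : Fin n → F) : Prop := c ≠ 0 ∧ h (q := q) c c = 0

theorem IsIso.act {c : Vn} (hc : IsIso q c) (s : SUn) : IsIso q (act s c) :=
  ⟨act_ne_zero s hc.1, (act_pres s c c).trans hc.2⟩

theorem Frame.iso_e {k : ℕ} (C : Conj F q) (Fr : Frame F n q k) : IsIso q Fr.e :=
  ⟨Fr.e_ne_zero C, Fr.hee⟩

theorem Frame.iso_f {k : ℕ} (C : Conj F q) (Fr : Frame F n q k) : IsIso q Fr.f :=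
  ⟨Fr.f_ne_zero C, Fr.hff⟩

theorem IsIso.smul (C : Conj F q) {c : Vn} (hc : IsIso q c) {a : F} (ha : a ≠ 0) :
    IsIso q (a • c) :=
  ⟨smul_ne_zero ha hc.1, by rw [smul_left C, smul_right C, hc.2, mul_zero, mul_zero]⟩

/-- The transvection group in the quotient. -/
def cenQ (C : Conj F q) (c : Vn) : Subgroup PSUn := (cen C c).map π

/-- The radical in the quotient. -/
def radQ (C : Conj F q) (c : Vn) : Subgroup PSUn := (rad C c).map π

/-- The relation on vectors induced by an automorphism. -/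
def Rel (C : Conj F q) (β : MulAut PSUn) (c d : Vn) : Prop :=
  (cenQ C c).map β.toMonoidHom = cenQ C d

theorem exists_fixed (p : ℕ) [Fact p.Prime] [CharP F p] {G : Type*} [Group G] (hG : IsPGroup p G)
    {M : Type*} [AddCommGroup M] [Module F M] [Finite M] [Nontrivial M] (a : G → M → M)
    (h1 : ∀ x, a 1 x = x) (hmul : ∀ g g' x, a (g * g') x = a g (a g' x)) (h0 : ∀ g, a g 0 = 0) :
    ∃ x : M, x ≠ 0 ∧ ∀ g, a g x = x := by
  letI : MulAction G M :=
    { smul := a
      one_smul := h1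
      mul_smul := hmul }
  obtain ⟨x, hx⟩ := exists_ne (0 : M)
  have hdvd : p ∣ Nat.card M := by
    have e : addOrderOf x = p := addOrderOf_eq_prime
      (by rw [← Nat.cast_smul_eq_nsmul F, CharP.cast_eq_zero, zero_smul]) hx
    exact e ▸ addOrderOf_dvd_natCard x
  obtain ⟨y, hy, hne⟩ := hG.exists_fixed_point_of_prime_dvd_card_of_fixed_point M hdvd
    (a := (0 : M)) (fun g => h0 g)
  exact ⟨y, hne.symm, fun g => hy g⟩

variable (C : Conj F q)

theorem cenQ_smul {a : F} (ha : a ≠ 0) (c : Vn) : cenQ C (a • c) = cenQ C c := by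
  rw [cenQ, cenQ, cen_smul C ha]

theorem radQ_smul {a : F} (ha : a ≠ 0) (c : Vn) : radQ C (a • c) = radQ C c := by
  rw [radQ, radQ, rad_smul C ha]

theorem cenQ_le_radQ (c : Vn) : cenQ C c ≤ radQ C c := Subgroup.map_mono (cen_le_rad C c)

theorem mem_conj_cen {c : Vn} (t : SUn) (s : SUn) :
    s ∈ cen C (act t c) ↔ t⁻¹ * s * t ∈ cen C c := by
  constructor
  · intro hs
    have := cen_conj C t⁻¹ hs
    rwa [act_inv_act, inv_inv] at this
  · intro hs
    have := cen_conj C t hs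
    simpa [mul_assoc] using this

theorem mem_conj_rad {c : Vn} (t : SUn) (s : SUn) :
    s ∈ rad C (act t c) ↔ t⁻¹ * s * t ∈ rad C c := by
  constructor
  · intro hs
    have := rad_conj C t⁻¹ hs
    rwa [act_inv_act, inv_inv] at this
  · intro hs
    have := rad_conj C t hs
    simpa [mul_assoc] using this

theorem cenQ_act (t : SUn) (c : Vn) :
    cenQ C (act t c) = (cenQ C c).map (MulAut.conj (π t)).toMonoidHom := by
  ext x
  simp only [cenQ, Subgroup.mem_map]
  constructor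
  · rintro ⟨s, hs, rfl⟩
    exact ⟨π (t⁻¹ * s * t), ⟨_, (mem_conj_cen C t s).1 hs, rfl⟩,
      show π t * π (t⁻¹ * s * t) * (π t)⁻¹ = π s by
        rw [map_mul, map_mul, map_inv]; group⟩
  · rintro ⟨-, ⟨s, hs, rfl⟩, rfl⟩
    exact ⟨t * s * t⁻¹, cen_conj C t hs, show π (t * s * t⁻¹) = π t * π s * (π t)⁻¹ by
      rw [map_mul, map_mul, map_inv]⟩

variable [Fintype F] (hn : 2 ≤ n) (hF : Fintype.card F = q ^ 2) (p : ℕ) [Fact p.Prime] [CharP F p]

theorem rad_pow' {c : Vn} (hc : IsIso q c) {s : SUn} (hs : s ∈ rad C c) : s ^ p ^ 2 = 1 := by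
  obtain ⟨Fr, rfl⟩ := Frame.exists_of_isotropic C hc.1 hc.2
  exact Fr.rad_pow C p hs

theorem cen_pow' {c : Vn} (hc : IsIso q c) {s : SUn} (hs : s ∈ cen C c) : s ^ p ^ 2 = 1 :=
  rad_pow' C p hc (cen_le_rad C c hs)

theorem conj_pow_eq_one {G : Type*} [Group G] {s : G} {m : ℕ} (hs : s ^ m = 1) (t : G) :
    (t * s * t⁻¹) ^ m = 1 := by rw [conj_pow, hs, mul_one, mul_inv_cancel]

include C hn hF p

/-- Commutation of `p`-elements is detected in the quotient. -/
theorem commute_of_mk {u t : SUn} {m : ℕ} (hu : u ^ p ^ m = 1) (e : Commute (π t) (π u)) :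
    Commute t u := by
  have h1 : (QuotientGroup.mk (t * u * t⁻¹) : PSUn) = QuotientGroup.mk u := by
    show π (t * u * t⁻¹) = π u
    rw [map_mul, map_mul, map_inv, e.eq, mul_inv_cancel_right]
  have h2 := eq_of_mk_eq C hn hF p (conj_pow_eq_one hu t) hu h1
  exact mul_inv_eq_iff_eq_mul.1 h2

theorem eq_act_of_cenQ {c d : Vn} (hc : IsIso q c) (hd : IsIso q d) (e : cenQ C c = cenQ C d) :
    ∃ a : F, a ≠ 0 ∧ d = a • c := by
  obtain ⟨l, hl0, hl⟩ := exists_anti C
  obtain ⟨s, hs, hsx⟩ := exists_cen C hd.2 hl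
  obtain ⟨s', hs', e'⟩ : π s ∈ cenQ C c := e ▸ Subgroup.mem_map_of_mem _ hs
  obtain rfl := eq_of_mk_eq C hn hF p (cen_pow' C p hc hs') (cen_pow' C p hd hs) e'
  obtain ⟨-, m, hm⟩ := hs'
  obtain ⟨x, hx⟩ := exists_smul_eq C hd.1
  have hxd : 𝕙 x d = 1 := by rw [symm C d x, hx, map_one]
  have e1 : l • d = (m * 𝕙 x c) • c := by
    have := (hsx x).symm.trans (hm x)
    rwa [hxd, mul_one, add_left_cancel_iff] at this
  refine ⟨l⁻¹ * (m * 𝕙 x c), fun e0 => hd.1 ?_, by rw [mul_smul, ← e1, inv_smul_smul₀ hl0]⟩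
  rw [← inv_smul_smul₀ hl0 d, e1, smul_smul, e0, zero_smul]

/-- The centres of Sylow subgroups are transvection groups. -/
theorem center_sylow (hn3 : 3 ≤ n) (S : Sylow p PSUn) : ∃ c : Vn, IsIso q c ∧
    radQ C c ≤ S ∧ (S : Subgroup PSUn) ⊓ Subgroup.centralizer ((S : Subgroup PSUn) : Set PSUn) =
      cenQ C c := by
  obtain ⟨K, hK, hKS⟩ := exists_lift p (S : Subgroup PSUn) S.isPGroup'
  -- an isotropic fixed vector
  obtain ⟨c, hc, hfix⟩ : ∃ c : Vn, IsIso q c ∧ ∀ s ∈ K, act s c = c := by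
    haveI : Nonempty (Fin n) := ⟨⟨0, by omega⟩⟩
    obtain ⟨v, hv0, hv⟩ := exists_fixed (F := F) p hK (M := Vn) (fun s x => act (s : SUn) x)
      (fun x => act_one x) (fun s t x => act_mul _ _ x) (fun s => act_zero _)
    by_cases hvv : 𝕙 v v = 0
    · exact ⟨v, ⟨hv0, hvv⟩, fun s hs => hv ⟨s, hs⟩⟩
    obtain ⟨M, hM⟩ : ∃ M : Submodule F Vn, M = LinearMap.ker (form C v) := ⟨_, rfl⟩
    have hmem : ∀ x, x ∈ M ↔ 𝕙 x v = 0 := fun x => by rw [hM, LinearMap.mem_ker, form_apply]
    have hinv : ∀ (s : K) (x : M), act (s : SUn) (x : Vn) ∈ M := fun s x => (hmem _).2 <| by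
      conv_lhs => rw [← hv s]
      exact (act_pres _ _ _).trans ((hmem _).1 x.2)
    haveI : Nontrivial M := by
      refine Module.nontrivial_of_finrank_pos (R := F) ?_
      have h1 := LinearMap.finrank_range_add_finrank_ker (form C v)
      have h2 := Submodule.finrank_le (LinearMap.range (form C v))
      rw [Module.finrank_self] at h2
      rw [Module.finrank_fin_fun] at h1
      rw [hM]
      omega
    obtain ⟨w, hw0, hw⟩ := exists_fixed (F := F) p hK (M := M)
      (fun s x => ⟨act (s : SUn) (x : Vn), hinv s x⟩) (fun x => Subtype.ext (act_one _))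
      (fun s t x => Subtype.ext (act_mul _ _ _)) (fun s => Subtype.ext (act_zero _))
    have hw' : ∀ s ∈ K, act s (w : Vn) = w := fun s hs => congrArg Subtype.val (hw ⟨s, hs⟩)
    have hwv : 𝕙 (w : Vn) v = 0 := (hmem _).1 w.2
    obtain ⟨a, ha⟩ := exists_norm C (x := -(𝕙 (w : Vn) w / 𝕙 v v))
      (by rw [map_neg, map_div₀, self_fixed C, self_fixed C])
    refine ⟨a • v + (w : Vn), ⟨fun e0 => ?_, ?_⟩, fun s hs => by
      rw [act_add, act_smul, hv ⟨s, hs⟩, hw' s hs]⟩
    · have ha0 : a = 0 := by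
        have := congrArg (fun z => 𝕙 z v) e0
        simpa [add_left C, smul_left C, hwv, zero_left C, hvv] using this
      rw [ha0, zero_smul, zero_add] at e0
      exact hw0 (Subtype.ext e0)
    · rw [add_left C, add_right C, add_right C, smul_left C, smul_left C, smul_right C, smul_right C,
        hwv, (eq_zero_comm C).1 hwv]
      field_simp at ha
      linear_combination ha
  -- enlarge by the radical
  have hnorm : K ≤ Subgroup.normalizer (rad C c : Set SUn) := fun s hs => by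
    refine Subgroup.mem_normalizer_iff.2 fun u => ⟨fun hu => ?_, fun hu => ?_⟩
    · have := rad_conj C s hu
      rwa [hfix s hs] at this
    · have := rad_conj C s⁻¹ hu
      rw [hfix s⁻¹ (inv_mem hs)] at this
      simpa [mul_assoc] using this
  have hsup : IsPGroup p (K ⊔ rad C c : Subgroup SUn) := by
    refine IsPGroup.to_sup_of_normal_right' hK (fun s => ⟨2, Subtype.ext ?_⟩) hnorm
    exact rad_pow' C p hc s.2
  have hmap : (K ⊔ rad C c).map π = (S : Subgroup PSUn) :=
    S.is_maximal' (hsup.map _) (hKS ▸ Subgroup.map_mono le_sup_left)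
  have hfix' : ∀ s ∈ K ⊔ rad C c, act s c = c := fun s hs => by
    have : K ⊔ rad C c ≤
        ({ carrier := {s : SUn | act s c = c}
           one_mem' := act_one c
           mul_mem' := fun {a b} (ha : act a c = c) (hb : act b c = c) =>
            show act (a * b) c = c by rw [act_mul, hb, ha]
           inv_mem' := fun {a} (ha : act a c = c) => show act a⁻¹ c = c by
            conv_lhs => rw [← ha]
            exact act_inv_act a c } : Subgroup SUn) :=
      sup_le (fun s hs => hfix s hs) (fun s hs => hs.1)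
    exact this hs
  have hrad : radQ C c ≤ (S : Subgroup PSUn) := hmap ▸ Subgroup.map_mono le_sup_right
  refine ⟨c, hc, hrad, le_antisymm ?_ ?_⟩
  · rintro z ⟨hzS, hzC⟩
    obtain ⟨z, hz, rfl⟩ := hmap ▸ hzS
    obtain ⟨Fr, rfl⟩ := Frame.exists_of_isotropic C hc.1 hc.2
    have hcomm : ∀ u ∈ rad C Fr.e, Commute z u := fun u hu =>
      commute_of_mk C hn hF p (rad_pow' C p hc hu)
        (Subgroup.mem_centralizer_iff.1 hzC _ (hrad (Subgroup.mem_map_of_mem _ hu))).symm
    have hze := hfix' z hz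
    obtain ⟨u, hu, huf⟩ := Fr.exists_rad_of_point C (y := act z Fr.f)
      ((act_pres z _ _).trans Fr.hff) (by
        conv_lhs => rw [← hze]
        exact (act_pres z _ _).trans Fr.hfe)
    obtain ⟨l, rfl⟩ : ∃ l, z = u * l := ⟨u⁻¹ * z, (mul_inv_cancel_left _ _).symm⟩
    have hle : act l Fr.e = Fr.e := act_inj u (by rw [← act_mul, hze, hu.1])
    have hlf : act l Fr.f = Fr.f := act_inj u (by rw [← act_mul, huf])
    have hlW : ∀ v ∈ Fr.W C, act l v = v := fun v hv => by
      obtain ⟨w, hw, rfl⟩ := Fr.exists_wt C hv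
      have hlP : ∀ x, Fr.P (act l x) = act l (Fr.P x) := fun x => by
        rw [Frame.P, Frame.P, act_sub, act_sub, act_smul, act_smul, hle, hlf]
        congr 2
        · congr 1
          conv_lhs => rw [← hlf]
          exact act_pres l _ _
        · conv_lhs => rw [← hle]
          exact act_pres l _ _
      have hlrad : l * w * l⁻¹ ∈ rad C Fr.e := by
        have := rad_conj C l hw
        rwa [hle] at this
      have e1 : u * (l * w * l⁻¹) = w * u := by
        have := (hcomm w hw).eq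
        calc u * (l * w * l⁻¹) = u * l * w * l⁻¹ := by group
          _ = w * (u * l) * l⁻¹ := by rw [this]
          _ = w * u := by group
      have e2 := congrArg Fr.wt e1
      rw [Fr.wt_mul C hu hlrad, Fr.wt_mul C hw hu, add_comm (Fr.wt w)] at e2
      have e3 := add_left_cancel e2
      rw [← e3]
      conv_lhs => rw [e3]
      have hlf' : act l⁻¹ Fr.f = Fr.f := by
        conv_lhs => rw [← hlf]
        exact act_inv_act l _
      rw [Frame.wt, Frame.wt, act_mul, act_mul, hlf', hlP]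
    have hl1 : l = 1 := Fr.ext_frame C (by rw [hle, act_one]) (by rw [hlf, act_one])
      fun v hv => by rw [hlW v hv, act_one]
    subst hl1
    rw [mul_one] at hcomm ⊢
    refine Subgroup.mem_map_of_mem _ ((Fr.mem_cen_iff_wt C).2 ⟨hu, ?_⟩)
    by_contra h0
    obtain ⟨w₀, hw₀, hw₁⟩ := Fr.exists_W_one C (Fr.wt_mem C u) h0
    have key : ∀ v ∈ Fr.W C, 𝕙 (Fr.wt u) v = 𝕙 v (Fr.wt u) := fun v hv => by
      obtain ⟨w, hw, rfl⟩ := Fr.exists_wt C hv
      have e1 := congrArg Fr.al (hcomm w hw).eq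
      rw [Fr.al_mul C hu hw, Fr.al_mul C hw hu] at e1
      linear_combination e1
    obtain ⟨μ, hμ⟩ := C.ne_one
    have e2 := key (μ • w₀) (Submodule.smul_mem _ _ hw₀)
    rw [smul_right C, smul_left C, hw₁, symm C (Fr.wt u) w₀, hw₁, map_one] at e2
    exact hμ (by simpa using e2)
  · rintro _ ⟨s, hs, rfl⟩
    refine ⟨hrad (cenQ_le_radQ C c (Subgroup.mem_map_of_mem _ hs)),
      Subgroup.mem_centralizer_iff.2 fun y hy => ?_⟩
    obtain ⟨t, ht, rfl⟩ := hmap ▸ hy
    have : t * s = s * t := ext_act fun x => by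
      obtain ⟨-, l, hl⟩ := hs
      rw [act_mul, act_mul, hl, hl, act_add, act_smul, hfix' t ht]
      congr 3
      conv_rhs => rw [← hfix' t ht]
      exact (act_pres t _ _).symm
    rw [← map_mul, ← map_mul, this]

theorem exists_sylow (hn3 : 3 ≤ n) {c : Vn} (hc : IsIso q c) : ∃ S : Sylow p PSUn,
    (S : Subgroup PSUn) ⊓ Subgroup.centralizer ((S : Subgroup PSUn) : Set PSUn) = cenQ C c := by
  have hrp : IsPGroup p (rad C c) := fun s => ⟨2, Subtype.ext (rad_pow' C p hc s.2)⟩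
  obtain ⟨S, hS⟩ := (show IsPGroup p (radQ C c) from hrp.map _).exists_le_sylow
  obtain ⟨d, hd, hdS, hcd⟩ := center_sylow C hn hF p hn3 S
  refine ⟨S, hcd.trans ?_⟩
  obtain ⟨Fr, rfl⟩ := Frame.exists_of_isotropic C hc.1 hc.2
  have hfix : ∀ u ∈ rad C Fr.e, act u d = d := fun u hu => by
    obtain ⟨l, hl0, hl⟩ := exists_anti C
    obtain ⟨s, hs, hsx⟩ := exists_cen C hd.2 hl
    have hcc : π s ∈ (S : Subgroup PSUn) ⊓ Subgroup.centralizer ((S : Subgroup PSUn) : Set PSUn) :=
      hcd ▸ Subgroup.mem_map_of_mem _ hs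
    have hsu : Commute u s := commute_of_mk C hn hF p (cen_pow' C p hd hs)
      (Subgroup.mem_centralizer_iff.1 hcc.2 _ (hS (Subgroup.mem_map_of_mem _ hu)))
    obtain ⟨x, hx⟩ := exists_smul_eq C hd.1
    have hxd : 𝕙 x d = 1 := by rw [symm C d x, hx, map_one]
    have e : ∀ y, (l * 𝕙 y d) • act u d = (l * 𝕙 (act u y) d) • d := fun y => by
      have := congrArg (fun g : SUn => act g y) hsu.eq
      simp only [act_mul, hsx, act_add, act_smul, add_left_cancel_iff] at this
      exact this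
    have e1 := e x
    rw [hxd, mul_one] at e1
    obtain ⟨a, ha⟩ : ∃ a : F, act u d = a • d :=
      ⟨l⁻¹ * (l * 𝕙 (act u x) d), by rw [mul_smul, ← e1, inv_smul_smul₀ hl0]⟩
    have ha1 : a ^ p ^ 2 = 1 := by
      have h2 : ∀ m : ℕ, act (u ^ m) d = a ^ m • d := by
        intro m
        induction m with
        | zero => rw [pow_zero, act_one, pow_zero, one_smul]
        | succ m ih => rw [pow_succ, act_mul, ha, act_smul, ih, smul_smul, pow_succ']
      have := h2 (p ^ 2)
      rw [Fr.rad_pow C p hu, act_one] at this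
      refine smul_left_injective F hd.1 ?_
      simpa using this.symm
    have ha2 : a = 1 := sub_eq_zero.1 (eq_zero_of_pow_eq_zero
      (show (a - 1) ^ p ^ 2 = 0 by rw [sub_pow_char_pow, ha1, one_pow, sub_self]))
    rw [ha, ha2, one_smul]
  obtain ⟨a, hade⟩ : ∃ a : F, d = a • Fr.e := by
    refine ⟨𝕙 d Fr.f, ?_⟩
    obtain ⟨l, hl0, hl⟩ := exists_anti C
    obtain ⟨s, hs, hsx⟩ := exists_cen C Fr.hee hl
    have hde : 𝕙 d Fr.e = 0 := by
      have := hfix s (cen_le_rad C _ hs)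
      rw [hsx, add_eq_left, smul_eq_zero, mul_eq_zero] at this
      exact (this.resolve_right (Fr.e_ne_zero C)).resolve_left hl0
    have hP : Fr.P d = 0 := Fr.W_nondeg C (Fr.P_mem C d) fun v hv => by
      obtain ⟨u, hu, rfl⟩ := Fr.exists_wt C hv
      have := hfix u hu
      conv_lhs at this => rw [Fr.decomp d, hde, zero_smul, add_zero, act_add, act_smul, hu.1,
        Fr.act_W C hu (Fr.P_mem C d)]
      conv_rhs at this => rw [Fr.decomp d, hde, zero_smul, add_zero]
      simpa [Fr.e_ne_zero C] using this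
    conv_lhs => rw [Fr.decomp d, hde, hP, zero_smul, add_zero, add_zero]
  have ha0 : a ≠ 0 := fun e0 => hd.1 (by rw [hade, e0, zero_smul])
  rw [hade, cenQ_smul C ha0]

/-- An automorphism sends isotropic points to isotropic points. -/
theorem exists_rel (hn3 : 3 ≤ n) (β : MulAut PSUn) {c : Vn} (hc : IsIso q c) :
    ∃ d : Vn, IsIso q d ∧ Rel C β c d := by
  obtain ⟨S, hS⟩ := exists_sylow C hn hF p hn3 hc
  have hsur : Function.Surjective β.toMonoidHom := β.surjective
  obtain ⟨S', hS'⟩ : ∃ S' : Sylow p PSUn,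
      (S' : Subgroup PSUn) = (S : Subgroup PSUn).map β.toMonoidHom :=
    ⟨S.mapSurjective hsur, Sylow.coe_mapSurjective hsur S⟩
  obtain ⟨d, hd, -, hd'⟩ := center_sylow C hn hF p hn3 S'
  refine ⟨d, hd, ?_⟩
  rw [Rel, ← hS, ← hd', hS']
  ext y
  simp only [Subgroup.mem_map, Subgroup.mem_inf, Subgroup.mem_centralizer_iff, Subgroup.coe_map,
    Set.forall_mem_image, SetLike.mem_coe]
  constructor
  · rintro ⟨x, ⟨hx, hxc⟩, rfl⟩
    exact ⟨⟨x, hx, rfl⟩, fun z hz => by rw [← map_mul, ← map_mul, hxc z hz]⟩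
  · rintro ⟨⟨x, hx, rfl⟩, hxc⟩
    exact ⟨x, ⟨hx, fun z hz => β.injective ((map_mul β z x).trans ((hxc hz).trans (map_mul β x z).symm))⟩, rfl⟩

omit [Fintype F] hn hF p [Fact p.Prime] [CharP F p] in
theorem rel_comp {β γ : MulAut PSUn} {c d e : Vn} (h1 : Rel C β c d) (h2 : Rel C γ d e) :
    Rel C (γ * β) c e := by
  rw [Rel, show (γ * β).toMonoidHom = γ.toMonoidHom.comp β.toMonoidHom from rfl, ← Subgroup.map_map]
  rw [Rel] at h1 h2
  rw [h1, h2]

omit [Fintype F] hn hF p [Fact p.Prime] [CharP F p] in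
theorem rel_one (c : Vn) : Rel C (1 : MulAut PSUn) c c := Subgroup.map_id _

omit [Fintype F] hn hF p [Fact p.Prime] [CharP F p] in
theorem rel_symm {β : MulAut PSUn} {c d : Vn} (h1 : Rel C β c d) : Rel C β⁻¹ d c := by
  rw [Rel] at h1 ⊢
  rw [← h1, Subgroup.map_map]
  convert Subgroup.map_id _
  ext x
  exact β.symm_apply_apply x

omit [Fintype F] hn hF p [Fact p.Prime] [CharP F p] in
theorem rel_compat {β : MulAut PSUn} {c d : Vn} (h1 : Rel C β c d) {s t : SUn}
    (e : β (π s) = π t) : Rel C β (act s c) (act t d) := by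
  rw [Rel] at h1 ⊢
  rw [cenQ_act, cenQ_act, ← h1, Subgroup.map_map, Subgroup.map_map]
  congr 1
  ext x
  show β (π s * x * (π s)⁻¹) = π t * β x * (π t)⁻¹
  rw [map_mul, map_mul, map_inv, e]

omit [Fintype F] hn hF p [Fact p.Prime] [CharP F p] in
theorem rel_smul {β : MulAut PSUn} {c d : Vn} (h1 : Rel C β c d) {a b : F} (ha : a ≠ 0)
    (hb : b ≠ 0) : Rel C β (a • c) (b • d) := by
  rw [Rel] at h1 ⊢
  rw [cenQ_smul C ha, cenQ_smul C hb, h1]

theorem rel_unique {β : MulAut PSUn} {c d d' : Vn} (hd : IsIso q d) (hd' : IsIso q d')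
    (h1 : Rel C β c d) (h2 : Rel C β c d') : ∃ a : F, a ≠ 0 ∧ d' = a • d :=
  eq_act_of_cenQ C hn hF p hd hd' (h1.symm.trans h2)

theorem rel_unique' {β : MulAut PSUn} {c c' d : Vn} (hc : IsIso q c) (hc' : IsIso q c')
    (h1 : Rel C β c d) (h2 : Rel C β c' d) : ∃ a : F, a ≠ 0 ∧ c' = a • c :=
  rel_unique C hn hF p hc hc' (rel_symm C h1) (rel_symm C h2)

theorem orth_iff {c d : Vn} (hc : IsIso q c) (hd : IsIso q d) :
    𝕙 c d = 0 ↔ ∀ x ∈ cenQ C c, ∀ y ∈ cenQ C d, Commute x y := by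
  constructor
  · rintro hcd _ ⟨s, hs, rfl⟩ _ ⟨t, ht, rfl⟩
    refine Commute.map (?_ : Commute s t) π
    obtain ⟨hs1, l, hl⟩ := hs
    obtain ⟨ht1, m, hm⟩ := ht
    refine ext_act fun x => ?_
    simp only [act_mul, hl, hm, add_left C, smul_left C, hcd, (eq_zero_comm C).1 hcd, mul_zero,
      add_zero]
    module
  · intro H
    by_contra hcd
    obtain ⟨l, hl0, hl⟩ := exists_anti C
    obtain ⟨s, hs, hsx⟩ := exists_cen C hc.2 hl
    obtain ⟨t, ht, htx⟩ := exists_cen C hd.2 hl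
    have e : Commute s t := commute_of_mk C hn hF p (cen_pow' C p hd ht)
      (H _ (Subgroup.mem_map_of_mem _ hs) _ (Subgroup.mem_map_of_mem _ ht))
    have e1 := congrArg (fun g : SUn => act g c) e.eq
    simp only [act_mul, hs.1, htx, hsx, act_add, act_smul] at e1
    have hdc : 𝕙 d c ≠ 0 := fun e0 => hcd ((eq_zero_comm C).1 e0)
    rw [add_eq_left, smul_eq_zero, add_left C, smul_left C, hc.2, zero_add] at e1
    simp [hl0, hcd, hdc, hc.1] at e1

theorem rel_orth {β : MulAut PSUn} {c c' d d' : Vn} (hc : IsIso q c) (hc' : IsIso q c')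
    (hd : IsIso q d) (hd' : IsIso q d') (h1 : Rel C β c d) (h2 : Rel C β c' d') :
    𝕙 c c' = 0 ↔ 𝕙 d d' = 0 := by
  rw [orth_iff C hn hF p hc hc', orth_iff C hn hF p hd hd', ← h1, ← h2]
  constructor
  · rintro H _ ⟨x, hx, rfl⟩ _ ⟨y, hy, rfl⟩
    exact (H x hx y hy).map _
  · intro H x hx y hy
    exact β.injective ((map_mul β x y).trans
      ((H _ ⟨x, hx, rfl⟩ _ ⟨y, hy, rfl⟩).eq.trans (map_mul β y x).symm))

end Cfsg.Agent.AutPSU
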