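import Cfsg.Agent.Lib.AutPSU.Points

/-!
The stabiliser of a hyperbolic pair, its action on the radical, and the consequences: the radical is invariant
under automorphisms fixing the two points, and only scalars commute with the action.
-/

set_option autoImplicit false

namespace Cfsg.Agent.AutPSU

open Matrix

variable {F : Type*} [Field F] {n q k : ℕ}

local notation "Vn" => Fin n → F
local notation "SUn" => Cfsg.SU n F q
local notation "GUn" => Cfsg.GU n F q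
local notation "PSUn" => Cfsg.PSU n F q
local notation "π" => QuotientGroup.mk' (Subgroup.center SUn)
local notation "𝕙" => h (q := q)

variable (C : Conj F q)

namespace Frame

variable (Fr : Frame F n q k)

/-- Membership in the stabiliser of the pair, with multiplier `d`. -/
def InL (s : SUn) (d : F) : Prop :=
  d ≠ 0 ∧ act s Fr.e = d • Fr.e ∧ act s Fr.f = (C.σ d)⁻¹ • Fr.f

include C

theorem coord {a b : F} {v : Vn} (hv : v ∈ Fr.W C) {x : Vn} (hx : x = a • Fr.e + b • Fr.f + v) :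
    𝕙 x Fr.f = a ∧ 𝕙 x Fr.e = b ∧ Fr.P x = v := by
  subst hx
  refine ⟨?_, ?_, ?_⟩
  · rw [add_left C, add_left C, smul_left C, smul_left C, Fr.hef, Fr.hff, hv.2]; ring
  · rw [add_left C, add_left C, smul_left C, smul_left C, Fr.hee, Fr.hfe, hv.1]; ring
  · rw [Fr.P_add C, Fr.P_add C, Fr.P_smul C, Fr.P_smul C, Fr.P_e C, Fr.P_f C, Fr.P_of_mem C hv]
    simp

theorem mem_InL_of {s : SUn} {a b : F} (he : act s Fr.e = a • Fr.e) (hf : act s Fr.f = b • Fr.f) :
    Fr.InL C s a := by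
  have e1 := act_pres s Fr.e Fr.f
  rw [he, hf, smul_left C, smul_right C, Fr.hef, mul_one] at e1
  have ha : a ≠ 0 := fun e0 => by simp [e0] at e1
  refine ⟨ha, he, ?_⟩
  have hb : C.σ b = a⁻¹ := eq_inv_of_mul_eq_one_right e1
  rw [hf, ← map_inv₀, ← hb, C.invol]

theorem InL.mapsTo {s : SUn} {d : F} (hs : Fr.InL C s d) {v : Vn} (hv : v ∈ Fr.W C) :
    act s v ∈ Fr.W C := by
  obtain ⟨hd, he, hf⟩ := hs
  have hσd : C.σ d ≠ 0 := (map_ne_zero C.σ).2 hd
  constructor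
  · have e1 := act_pres s v Fr.e
    rw [he, smul_right C, hv.1, mul_eq_zero] at e1
    exact e1.resolve_left hσd
  · have e1 := act_pres s v Fr.f
    rw [hf, smul_right C, hv.2, mul_eq_zero] at e1
    exact e1.resolve_left ((map_ne_zero C.σ).2 (inv_ne_zero hσd))

theorem InL.P_act {s : SUn} {d : F} (hs : Fr.InL C s d) (x : Vn) :
    Fr.P (act s x) = act s (Fr.P x) := by
  refine (Fr.coord C (hs.mapsTo C Fr (Fr.P_mem C x)) (a := 𝕙 x Fr.f * d)
    (b := 𝕙 x Fr.e * (C.σ d)⁻¹) ?_).2.2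
  conv_lhs => rw [Fr.decomp x]
  rw [act_add, act_add, act_smul, act_smul, hs.2.1, hs.2.2, smul_smul, smul_smul]

theorem InL.conj_rad {s : SUn} {d : F} (hs : Fr.InL C s d) {u : SUn} (hu : u ∈ rad C Fr.e) :
    s * u * s⁻¹ ∈ rad C Fr.e ∧ Fr.wt (s * u * s⁻¹) = C.σ d • act s (Fr.wt u) ∧
      Fr.al (s * u * s⁻¹) = d * C.σ d * Fr.al u := by
  obtain ⟨hd, he, hf⟩ := hs
  have hσd : C.σ d ≠ 0 := (map_ne_zero C.σ).2 hd
  refine ⟨by
    have := rad_conj C s hu
    rwa [he, rad_smul C hd] at this, ?_⟩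
  have hi : act s⁻¹ Fr.f = C.σ d • Fr.f := act_inj s (by
    rw [act_act_inv, act_smul, hf, smul_inv_smul₀ hσd] at *)
  have e1 : act (s * u * s⁻¹) Fr.f = (d * C.σ d * Fr.al u) • Fr.e + (1 : F) • Fr.f +
      C.σ d • act s (Fr.wt u) := by
    rw [act_mul, act_mul, hi, act_smul, act_smul, Fr.act_f C hu, act_add, act_add, act_smul, he, hf,
      smul_add, smul_add, smul_smul, smul_smul, smul_smul, mul_inv_cancel₀ hσd]
    congr 3
    ring
  have := Fr.coord C (Submodule.smul_mem _ _ (InL.mapsTo C Fr ⟨hd, he, hf⟩ (Fr.wt_mem C u))) e1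
  exact ⟨this.2.2, this.1⟩

/-- Elements of the stabiliser from isometries of the orthogonal. -/
theorem exists_InL (g : GUn) (hge : ((g : GL (Fin n) F) : Matrix (Fin n) (Fin n) F) *ᵥ Fr.e = Fr.e)
    (hgf : ((g : GL (Fin n) F) : Matrix (Fin n) (Fin n) F) *ᵥ Fr.f = Fr.f) {d : F} (hd : d ≠ 0)
    (hdet : d * ((g : GL (Fin n) F) : Matrix (Fin n) (Fin n) F).det = C.σ d) :
    ∃ s : SUn, Fr.InL C s d ∧
      ∀ v ∈ Fr.W C, act s v = ((g : GL (Fin n) F) : Matrix (Fin n) (Fin n) F) *ᵥ v := by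
  have hσd : C.σ d ≠ 0 := (map_ne_zero C.σ).2 hd
  obtain ⟨D, hD⟩ : ∃ D, D = Transvec.tvMat ((d - 1) • Fr.e) (form C Fr.f) *
      Transvec.tvMat (((C.σ d)⁻¹ - 1) • Fr.f) (form C Fr.e) := ⟨_, rfl⟩
  have hDx : ∀ x, D *ᵥ x = (d * 𝕙 x Fr.f) • Fr.e + ((C.σ d)⁻¹ * 𝕙 x Fr.e) • Fr.f + Fr.P x := by
    intro x
    rw [hD, ← Matrix.mulVec_mulVec, Transvec.tvMat_mulVec, Transvec.tvMat_mulVec, form_apply,
      form_apply, add_left C, smul_left C, smul_left C, Fr.hff, mul_zero, mul_zero, add_zero,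
      Frame.P]
    module
  have hDpres : ∀ x y, 𝕙 (D *ᵥ x) (D *ᵥ y) = 𝕙 x y := by
    intro x y
    obtain ⟨x1, x2, x3⟩ := Fr.coord C (Fr.P_mem C x) (hDx x)
    obtain ⟨y1, y2, y3⟩ := Fr.coord C (Fr.P_mem C y) (hDx y)
    rw [Fr.h_decomp C (D *ᵥ x), x1, x2, x3, y1, y2, y3, Fr.h_decomp C x y, map_mul, map_mul,
      map_inv₀, C.invol]
    field_simp
  have hDe : D *ᵥ Fr.e = d • Fr.e := by
    rw [hDx, Fr.hee, Fr.hef, Fr.P_e C]; simp
  have hDf : D *ᵥ Fr.f = (C.σ d)⁻¹ • Fr.f := by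
    rw [hDx, Fr.hff, Fr.hfe, Fr.P_f C]; simp
  have hDdet : D.det = d * (C.σ d)⁻¹ := by
    rw [hD, Matrix.det_mul, Transvec.det_tvMat, Transvec.det_tvMat, form_apply, form_apply,
      smul_left C, smul_left C, Fr.hef, Fr.hfe]
    ring
  obtain ⟨s, hs⟩ := exists_SU (q := q) (D * ((g : GL (Fin n) F) : Matrix (Fin n) (Fin n) F))
    (by rw [Matrix.det_mul, hDdet, mul_right_comm, hdet, mul_inv_cancel₀ hσd])
    (fun x y => by rw [← Matrix.mulVec_mulVec, ← Matrix.mulVec_mulVec, hDpres]; exact g.2 x y)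
  refine ⟨s, ⟨hd, ?_, ?_⟩, fun v hv => ?_⟩
  · rw [hs, ← Matrix.mulVec_mulVec, hge, hDe]
  · rw [hs, ← Matrix.mulVec_mulVec, hgf, hDf]
  · have hgv : ((g : GL (Fin n) F) : Matrix (Fin n) (Fin n) F) *ᵥ v ∈ Fr.W C := by
      constructor
      · conv_lhs => rw [← hge]
        exact (g.2 _ _).trans hv.1
      · conv_lhs => rw [← hgf]
        exact (g.2 _ _).trans hv.2
    rw [hs, ← Matrix.mulVec_mulVec, hDx, hgv.1, hgv.2, Fr.P_of_mem C hgv]
    simp

/-- Elements of the stabiliser from reflections. -/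
theorem exists_InL_tv {v : Vn} (hv : v ∈ Fr.W C) {c d : F}
    (hc : c + C.σ c + c * C.σ c * 𝕙 v v = 0) (hd : d ≠ 0) (hcd : d * (1 + c * 𝕙 v v) = C.σ d) :
    ∃ s : SUn, Fr.InL C s d ∧ ∀ x ∈ Fr.W C, act s x = x + (c * 𝕙 x v) • v := by
  have hM : ∀ x, Transvec.tvMat (c • v) (form C v) *ᵥ x = x + (c * 𝕙 x v) • v := fun x => by
    rw [Transvec.tvMat_mulVec, form_apply, smul_smul, mul_comm]
  obtain ⟨g, hg⟩ := exists_GU (q := q) C (Transvec.tvMat (c • v) (form C v)) fun x y => by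
    rw [hM, hM, add_left C, add_right C, add_right C, smul_left C, smul_left C, smul_right C,
      smul_right C, symm C y v, map_mul]
    linear_combination (𝕙 x v * C.σ (𝕙 y v)) * hc
  obtain ⟨s, hs, hsv⟩ := Fr.exists_InL C g
    (by rw [hg, hM, (eq_zero_comm C).1 hv.1]; simp)
    (by rw [hg, hM, (eq_zero_comm C).1 hv.2]; simp) hd
    (by rw [hg, Transvec.det_tvMat, form_apply, smul_left C]; exact hcd)
  exact ⟨s, hs, fun x hx => by rw [hsv x hx, hg, hM]⟩

/-- The diagonal elements of the stabiliser. -/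
theorem exists_InL_diag (i : Fin k) {d : F} (hd : d ≠ 0) :
    ∃ s : SUn, Fr.InL C s d ∧
      ∀ x ∈ Fr.W C, act s x = x + ((C.σ d / d - 1) * 𝕙 x (Fr.b i)) • Fr.b i := by
  have hσd : C.σ d ≠ 0 := (map_ne_zero C.σ).2 hd
  refine Fr.exists_InL_tv C (Fr.b_mem C i) ?_ hd ?_ <;>
    rw [Fr.hb, if_pos rfl]
  · rw [map_sub, map_div₀, C.invol, map_one]
    field_simp
    ring
  · field_simp
    ring

/-- The exchange of two basis vectors in the stabiliser. -/
theorem exists_InL_swap {i j : Fin k} (hij : i ≠ j) :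
    ∃ (s : SUn) (d : F), Fr.InL C s d ∧ act s (Fr.b i) = Fr.b j := by
  obtain ⟨t, ht0, ht⟩ := exists_anti C
  have h2 : 𝕙 (Fr.b i - Fr.b j) (Fr.b i - Fr.b j) = 2 := by
    rw [sub_left C, sub_right C, sub_right C, Fr.hb, Fr.hb, Fr.hb, Fr.hb, if_pos rfl, if_pos rfl,
      if_neg hij, if_neg hij.symm]
    norm_num
  obtain ⟨s, hs, hsx⟩ := Fr.exists_InL_tv C (sub_mem (Fr.b_mem C i) (Fr.b_mem C j)) (c := -1)
    (by rw [h2, map_neg, map_one]; ring) ht0 (by rw [h2, ht]; ring)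
  refine ⟨s, t, hs, ?_⟩
  rw [hsx _ (Fr.b_mem C i), sub_right C, Fr.hb, Fr.hb, if_pos rfl, if_neg hij]
  module

theorem exists_coeff {x : Vn} (hx : x ∈ Fr.W C) : x = ∑ i, 𝕙 x (Fr.b i) • Fr.b i := by
  conv_lhs => rw [← Fr.P_of_mem C hx, Fr.P_eq_sum]

theorem W_coord {x y : Vn} (hx : x ∈ Fr.W C) (hy : y ∈ Fr.W C)
    (H : ∀ i, 𝕙 x (Fr.b i) = 𝕙 y (Fr.b i)) : x = y := by
  rw [Fr.exists_coeff C hx, Fr.exists_coeff C hy]
  simp_rw [H]

section scalar

theorem exists_cube [Fintype F] (hF : Fintype.card F = q ^ 2) (hq : 3 ≤ q) :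
    ∃ s : F, s ^ 3 ≠ C.σ s ^ 3 := by
  classical
  obtain ⟨g, hg⟩ := IsCyclic.exists_generator (α := Fˣ)
  refine ⟨g, fun e => ?_⟩
  have ho : orderOf g = q ^ 2 - 1 := by
    rw [orderOf_eq_card_of_forall_mem_zpowers hg, Nat.card_units, Nat.card_eq_fintype_card, hF]
  rw [C.apply_eq, ← pow_mul] at e
  have e' : g ^ 3 = g ^ (q * 3) := Units.ext (by simpa using e)
  have h1 : orderOf g ∣ q * 3 - 3 := orderOf_dvd_of_pow_eq_one (by
    rw [pow_sub _ (by omega : 3 ≤ q * 3), ← e', mul_inv_cancel])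
  have h2 := Nat.le_of_dvd (by omega) h1
  rw [ho, pow_two] at h2
  nlinarith [h2, Nat.sub_add_cancel (show 1 ≤ q * q by nlinarith), Nat.sub_add_cancel (show 3 ≤ q * 3 by omega)]

theorem linear_of_twisted {s₀ : F} (hs₀ : s₀ ^ 3 ≠ C.σ s₀ ^ 3) (g : F → F)
    (hadd : ∀ a b, g (a + b) = g a + g b)
    (H : ∀ s a, g (s * s / C.σ s * a) = s * s / C.σ s * g a) : ∀ a, g a = g 1 * a := by
  have hfix : ∀ x, C.σ x = x → ∀ a, g (x * a) = x * g a := fun x hx a => by
    have := H x a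
    rwa [hx, mul_self_div_self] at this
  have hs0 : s₀ ≠ 0 := fun e => hs₀ (by rw [e, map_zero])
  have hσ0 : C.σ s₀ ≠ 0 := (map_ne_zero C.σ).2 hs0
  obtain ⟨y, hy⟩ : ∃ y, y = s₀ * s₀ / C.σ s₀ := ⟨_, rfl⟩
  have hyσ : C.σ y - y ≠ 0 := fun e => hs₀ (by
    rw [hy, map_div₀, map_mul, C.invol] at e
    field_simp at e
    linear_combination -e)
  intro a
  obtain ⟨b, hb⟩ : ∃ b, b = (C.σ a - a) / (C.σ y - y) := ⟨_, rfl⟩
  have hbfix : C.σ b = b := by
    rw [hb, map_div₀, map_sub, map_sub, C.invol, C.invol]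
    rw [← neg_sub (C.σ a) a, ← neg_sub (C.σ y) y, neg_div_neg_eq]
  have hcfix : C.σ (a - b * y) = a - b * y := by
    rw [map_sub, map_mul, hbfix]
    have : b * (C.σ y - y) = C.σ a - a := by rw [hb, div_mul_cancel₀ _ hyσ]
    linear_combination -this
  have e1 : g (b * y) = b * y * g 1 := by
    rw [hfix b hbfix, ← mul_one y, hy, H]
    ring
  have e2 : g (a - b * y) = (a - b * y) * g 1 := by
    rw [← mul_one (a - b * y), hfix _ hcfix]
    ring
  conv_lhs => rw [← sub_add_cancel a (b * y)]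
  rw [hadd, e1, e2]
  ring

/-- Only scalars commute with the action of the stabiliser on the radical. -/
theorem scalar_of_comm [Nonempty (Fin k)] (hk : 2 ≤ k ∨ ∃ s : F, s ^ 3 ≠ C.σ s ^ 3) (T : Vn → Vn)
    (hT : ∀ x ∈ Fr.W C, T x ∈ Fr.W C)
    (hadd : ∀ x ∈ Fr.W C, ∀ y ∈ Fr.W C, T (x + y) = T x + T y)
    (hcomm : ∀ s d, Fr.InL C s d → ∀ x ∈ Fr.W C,
      T (C.σ d • act s x) = C.σ d • act s (T x)) :
    ∃ t : F, ∀ x ∈ Fr.W C, T x = t • x := by
  have hmem : ∀ (a : F) l, a • Fr.b l ∈ Fr.W C := fun a l => Submodule.smul_mem _ _ (Fr.b_mem C l)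
  obtain ⟨g, hg⟩ : ∃ g : Fin k → Fin k → F → F, ∀ m l a, g m l a = 𝕙 (T (a • Fr.b l)) (Fr.b m) :=
    ⟨_, fun _ _ _ => rfl⟩
  have gadd : ∀ m l a b, g m l (a + b) = g m l a + g m l b := fun m l a b => by
    rw [hg, hg, hg, add_smul, hadd _ (hmem a l) _ (hmem b l), add_left C]
  have g0 : ∀ m l, g m l 0 = 0 := fun m l => by
    have := gadd m l 0 0
    simpa using this
  -- the coefficient of the diagonal element
  obtain ⟨κ, hκ⟩ : ∃ κ : Fin k → Fin k → F → F,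
      ∀ i l s, κ i l s = if l = i then s * s / C.σ s else s := ⟨_, fun _ _ _ => rfl⟩
  have key : ∀ i m l s a, g m l (κ i l s * a) = κ i m s * g m l a := by
    intro i m l s a
    rcases eq_or_ne s 0 with rfl | hs0
    · simp [hκ, g0]
    obtain ⟨u, hu, hux⟩ := Fr.exists_InL_diag C i (d := C.σ s) ((map_ne_zero C.σ).2 hs0)
    have hcoef : ∀ x ∈ Fr.W C, ∀ j, 𝕙 (C.σ (C.σ s) • act u x) (Fr.b j) = κ i j s * 𝕙 x (Fr.b j) := by
      intro x hx j
      rw [C.invol, smul_left C, hux x hx, add_left C, smul_left C, Fr.hb, C.invol, hκ]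
      rcases eq_or_ne i j with rfl | hij
      · rw [if_pos rfl, if_pos rfl]
        have : C.σ s ≠ 0 := (map_ne_zero C.σ).2 hs0
        field_simp
        ring
      · rw [if_neg hij, if_neg hij.symm]
        ring
    have e0 : C.σ (C.σ s) • act u (a • Fr.b l) = (κ i l s * a) • Fr.b l := by
      refine Fr.W_coord C (Submodule.smul_mem _ _ (hu.mapsTo C Fr (hmem a l))) (hmem _ l) fun j => ?_
      rw [hcoef _ (hmem a l), smul_left C, smul_left C, Fr.hb]
      split_ifs with e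
      · subst e; ring
      · ring
    rw [hg, hg, ← e0, hcomm u _ hu _ (hmem a l), hcoef _ (hT _ (hmem a l))]
  have hoff : ∀ m l, m ≠ l → ∀ a, g m l a = 0 := by
    intro m l hml a
    obtain ⟨μ, hμ⟩ := C.ne_one
    have H : ∀ s, g m l (s * a) = s * s / C.σ s * g m l a := fun s => by
      have := key m m l s a
      rwa [hκ, hκ, if_neg hml.symm, if_pos rfl] at this
    have hμ1 : 1 + μ ≠ 0 := fun e => hμ (by
      rw [eq_neg_of_add_eq_zero_right e, map_neg, map_one])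
    have e1 := H (1 + μ)
    rw [add_mul, one_mul, gadd, H μ, map_add, map_one] at e1
    by_contra hne
    have hμ0 : C.σ μ ≠ 0 := fun e => hμ (by
      have := congrArg C.σ e
      rw [C.invol, map_zero] at this
      rw [this, map_zero])
    have hμ2 : 1 + C.σ μ ≠ 0 := fun e => hμ1 (by
      have := congrArg C.σ e
      rwa [map_add, map_one, C.invol, map_zero] at this)
    have e2 : (1 + μ * μ / C.σ μ - (1 + μ) * (1 + μ) / (1 + C.σ μ)) = 0 := by
      refine (mul_eq_zero.1 (?_ : _ * g m l a = 0)).resolve_right hne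
      linear_combination e1
    field_simp at e2
    have : (μ - C.σ μ) ^ 2 = 0 := by linear_combination e2
    exact hμ (sub_eq_zero.1 (pow_eq_zero_iff two_ne_zero |>.1 this)).symm
  have hdiag : ∀ l a, g l l a = g l l 1 * a := by
    intro l a
    rcases hk with hk | ⟨s₀, hs₀⟩
    · obtain ⟨i, hi⟩ := Fintype.exists_ne_of_one_lt_card (by rw [Fintype.card_fin]; omega) l
      have := key i l l a 1
      rw [hκ, if_neg hi.symm, mul_one] at this
      rw [this, mul_comm]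
    · exact linear_of_twisted C hs₀ (g l l) (gadd l l) (fun s b => by
        have := key l l l s b
        rwa [hκ, if_pos rfl] at this) a
  have hbl : ∀ l a, T (a • Fr.b l) = (g l l 1 * a) • Fr.b l := fun l a => by
    refine Fr.W_coord C (hT _ (hmem a l)) (hmem _ l) fun m => ?_
    rw [← hg, smul_left C, Fr.hb]
    rcases eq_or_ne l m with rfl | hlm
    · rw [if_pos rfl, mul_one, hdiag]
    · rw [if_neg hlm, mul_zero, hoff m l hlm.symm]
  obtain ⟨i₀⟩ : Nonempty (Fin k) := inferInstance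
  have heq : ∀ l, g l l 1 = g i₀ i₀ 1 := fun l => by
    rcases eq_or_ne l i₀ with rfl | hl
    · rfl
    obtain ⟨s, d, hs, hsl⟩ := Fr.exists_InL_swap C hl
    have e1 := hcomm s d hs _ (hmem 1 l)
    rw [hbl, act_smul, act_smul, hsl, smul_smul, smul_smul, mul_one, mul_one, hbl] at e1
    have e2 := congrArg (fun z => 𝕙 z (Fr.b i₀)) e1
    simp only [smul_left C, Fr.hb, if_pos, mul_one] at e2
    rw [mul_comm] at e2
    exact (mul_left_cancel₀ ((map_ne_zero C.σ).2 hs.1) e2).symm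
  refine ⟨g i₀ i₀ 1, fun x hx => ?_⟩
  have hsum : ∀ (s : Finset (Fin k)) (c : Fin k → F),
      T (∑ i ∈ s, c i • Fr.b i) = g i₀ i₀ 1 • ∑ i ∈ s, c i • Fr.b i := by
    intro s c
    induction s using Finset.induction_on with
    | empty =>
      have := hbl i₀ 0
      simpa using this
    | insert i s his ih =>
      rw [Finset.sum_insert his, hadd _ (hmem _ _) _ (Submodule.sum_mem _ fun j _ => hmem _ j), ih,
        hbl, heq, smul_add, smul_smul]
  rw [Fr.exists_coeff C hx, hsum]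

/-- An additive functional transforming by the norm is zero. -/
theorem func_eq_zero [Finite F] (hk : 2 ≤ k ∨ ∃ s : F, s ^ 3 ≠ C.σ s ^ 3) (χ : Vn → F)
    (hadd : ∀ x ∈ Fr.W C, ∀ y ∈ Fr.W C, χ (x + y) = χ x + χ y)
    (hχ : ∀ s d, Fr.InL C s d → ∀ x ∈ Fr.W C, χ (C.σ d • act s x) = d * C.σ d * χ x) :
    ∀ x ∈ Fr.W C, χ x = 0 := by
  have hmem : ∀ (a : F) l, a • Fr.b l ∈ Fr.W C := fun a l => Submodule.smul_mem _ _ (Fr.b_mem C l)
  have h0 : χ 0 = 0 := by
    have := hadd 0 (zero_mem _) 0 (zero_mem _)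
    simpa using this
  have main : ∀ (l : Fin k) (a : F), χ (a • Fr.b l) = 0 := by
    intro l a
    rcases hk with hk | ⟨s₀, hs₀⟩
    · obtain ⟨i, hi⟩ := Fintype.exists_ne_of_one_lt_card (by rw [Fintype.card_fin]; omega) l
      have H : ∀ (s b : F), χ ((s * b) • Fr.b l) = s * C.σ s * χ (b • Fr.b l) := by
        intro s b
        rcases eq_or_ne s 0 with rfl | hs0
        · simp [h0]
        obtain ⟨u, hu, hux⟩ := Fr.exists_InL_diag C i (d := C.σ s) ((map_ne_zero C.σ).2 hs0)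
        have := hχ u _ hu _ (hmem b l)
        rw [hux _ (hmem b l), smul_left C, Fr.hb, if_neg hi.symm, mul_zero, mul_zero, zero_smul,
          add_zero, C.invol, smul_smul] at this
        rw [this]
        ring
      obtain ⟨s, hs⟩ := conj_fixed C (x := 1) (map_one _)
      have e1 := H (1 + s) a
      rw [add_mul, one_mul, add_smul, hadd _ (hmem _ _) _ (hmem _ _), H s, map_add, map_one] at e1
      linear_combination -e1 - χ (a • Fr.b l) * hs
    · have hs0 : s₀ ≠ 0 := fun e => hs₀ (by rw [e, map_zero])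
      have hσ0 : C.σ s₀ ≠ 0 := (map_ne_zero C.σ).2 hs0
      obtain ⟨ζ, hζdef⟩ : ∃ ζ, ζ = s₀ / C.σ s₀ := ⟨_, rfl⟩
      have hζ : C.σ ζ * ζ = 1 := by
        rw [hζdef, map_div₀, C.invol]; field_simp
      have hζ0 : ζ ≠ 0 := fun e => by simp [e] at hζ
      have hζ3 : ζ ^ 3 - 1 ≠ 0 := fun e => hs₀ (by
        rw [hζdef, div_pow, sub_eq_zero] at e
        exact (div_eq_one_iff_eq (pow_ne_zero _ hσ0)).1 e)
      obtain ⟨u, hu, hux⟩ := Fr.exists_InL_diag C l (d := C.σ ζ) ((map_ne_zero C.σ).2 hζ0)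
      have H : ∀ b, χ ((ζ ^ 3 * b) • Fr.b l) = χ (b • Fr.b l) := fun b => by
        have := hχ u _ hu _ (hmem b l)
        rw [hux _ (hmem b l), smul_left C, Fr.hb, if_pos rfl, mul_one, C.invol, smul_add, smul_smul,
          smul_smul, ← add_smul, hζ, one_mul] at this
        rw [← this]
        congr 2
        have : C.σ ζ = ζ⁻¹ := eq_inv_of_mul_eq_one_left hζ
        rw [this]
        field_simp
        ring
      have e1 := H (a / (ζ ^ 3 - 1))
      rw [show ζ ^ 3 * (a / (ζ ^ 3 - 1)) = a / (ζ ^ 3 - 1) + a by field_simp; ring, add_smul,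
        hadd _ (hmem _ _) _ (hmem _ _)] at e1
      simpa using e1
  intro x hx
  have hsum : ∀ (s : Finset (Fin k)) (c : Fin k → F), χ (∑ i ∈ s, c i • Fr.b i) = 0 := by
    intro s c
    induction s using Finset.induction_on with
    | empty => simpa using h0
    | insert i s his ih =>
      rw [Finset.sum_insert his, hadd _ (hmem _ _) _ (Submodule.sum_mem _ fun j _ => hmem _ j), ih,
        main, add_zero]
  rw [Fr.exists_coeff C hx, hsum]

end scalar

end Frame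

section radical

variable [Fintype F] (hn : 2 ≤ n) (hF : Fintype.card F = q ^ 2) (p : ℕ) [Fact p.Prime] [CharP F p]
variable (Fr : Frame F n q k)
include C hn hF p

theorem Frame.rad_mk_inj {u v : SUn} (hu : u ∈ rad C Fr.e) (hv : v ∈ rad C Fr.e)
    (e : π u = π v) : u = v :=
  eq_of_mk_eq C hn hF p (Fr.rad_pow C p hu) (Fr.rad_pow C p hv) e

/-- A normal `p`-subgroup of the stabiliser of a point lies in the radical. -/
theorem Frame.le_radQ [Nonempty (Fin k)] (H : Subgroup PSUn) (hH : IsPGroup p H)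
    (hstab : ∀ s : SUn, π s ∈ H → ∃ a : F, act s Fr.e = a • Fr.e)
    (hnorm : ∀ s d, Fr.InL C s d → ∀ x ∈ H, π s * x * (π s)⁻¹ ∈ H) :
    H ≤ radQ C Fr.e := by
  obtain ⟨K, hK, rfl⟩ := exists_lift p H hH
  have hKpow : ∀ s ∈ K, ∃ m, s ^ p ^ m = 1 := fun s hs => by
    obtain ⟨m, hm⟩ := hK ⟨s, hs⟩
    exact ⟨m, congrArg Subtype.val hm⟩
  have hfixe : ∀ s ∈ K, act s Fr.e = Fr.e := fun s hs => by
    obtain ⟨a, ha⟩ := hstab s (Subgroup.mem_map_of_mem _ hs)
    obtain ⟨m, hm⟩ := hKpow s hs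
    have h2 : ∀ j : ℕ, act (s ^ j) Fr.e = a ^ j • Fr.e := by
      intro j
      induction j with
      | zero => rw [pow_zero, act_one, pow_zero, one_smul]
      | succ j ih => rw [pow_succ, act_mul, ha, act_smul, ih, smul_smul, pow_succ']
    have h3 := h2 (p ^ m)
    rw [hm, act_one] at h3
    have ha1 : a ^ p ^ m = 1 := smul_left_injective F (Fr.e_ne_zero C) (by simpa using h3.symm)
    have ha2 : a = 1 := sub_eq_zero.1 (eq_zero_of_pow_eq_zero
      (show (a - 1) ^ p ^ m = 0 by rw [sub_pow_char_pow, ha1, one_pow, sub_self]))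
    rw [ha, ha2, one_smul]
  have hperp : ∀ s ∈ K, ∀ w, 𝕙 w Fr.e = 0 → 𝕙 (act s w) Fr.e = 0 := fun s hs w hw => by
    conv_lhs => rw [← hfixe s hs]
    exact (act_pres _ _ _).trans hw
  have hPlin : ∀ w, 𝕙 w Fr.e = 0 → w = 𝕙 w Fr.f • Fr.e + Fr.P w := fun w hw => by
    conv_lhs => rw [Fr.decomp w, hw, zero_smul, add_zero]
  have hPact : ∀ s ∈ K, ∀ w, 𝕙 w Fr.e = 0 → Fr.P (act s (Fr.P w)) = Fr.P (act s w) :=
    fun s hs w hw => by
      conv_rhs => rw [hPlin w hw]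
      rw [act_add, act_smul, hfixe s hs, Fr.P_add C, Fr.P_smul C, Fr.P_e C, smul_zero, zero_add]
  haveI : Nontrivial (Fr.W C) :=
    ⟨⟨⟨Fr.b (Classical.arbitrary _), Fr.b_mem C _⟩, 0,
      fun e => Fr.b_ne_zero C _ (congrArg Subtype.val e)⟩⟩
  obtain ⟨act', hact'⟩ : ∃ act' : K → Fr.W C → Fr.W C,
      ∀ (s : K) (x : Fr.W C), (act' s x : Vn) = Fr.P (act (s : SUn) (x : Vn)) :=
    ⟨fun s x => ⟨Fr.P (act (s : SUn) (x : Vn)), Fr.P_mem C _⟩, fun _ _ => rfl⟩
  have h1 : ∀ x, act' 1 x = x := fun x => Subtype.ext (by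
    rw [hact', OneMemClass.coe_one, act_one, Fr.P_of_mem C x.2])
  have hmul : ∀ s t x, act' (s * t) x = act' s (act' t x) := fun s t x => Subtype.ext (by
    rw [hact', hact', hact', Subgroup.coe_mul, act_mul, hPact _ s.2 _ (hperp _ t.2 _ x.2.1)])
  have h0 : ∀ s, act' s 0 = 0 := fun s => Subtype.ext (by
    rw [hact', ZeroMemClass.coe_zero, act_zero, Fr.P_of_mem C (zero_mem _)])
  obtain ⟨w₀, hw₀, hw₀fix⟩ := exists_fixed (F := F) p hK (M := Fr.W C) act' h1 hmul h0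
  obtain ⟨M, hM⟩ : ∃ M : Submodule F Vn, ∀ x, x ∈ M ↔ x ∈ Fr.W C ∧ ∀ s ∈ K, Fr.P (act s x) = x :=
    ⟨{ carrier := {x | x ∈ Fr.W C ∧ ∀ s ∈ K, Fr.P (act s x) = x}
       add_mem' := fun {a b} ha hb => ⟨add_mem ha.1 hb.1, fun s hs => by
        rw [act_add, Fr.P_add C, ha.2 s hs, hb.2 s hs]⟩
       zero_mem' := ⟨zero_mem _, fun s _ => by rw [act_zero, Fr.P_of_mem C (zero_mem _)]⟩
       smul_mem' := fun c a ha => ⟨Submodule.smul_mem _ _ ha.1, fun s hs => by
        rw [act_smul, Fr.P_smul C, ha.2 s hs]⟩ }, fun x => Iff.rfl⟩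
  have hinv : ∀ s d, Fr.InL C s d → ∀ x ∈ M, act s x ∈ M := by
    intro s d hs x hx
    rw [hM] at hx ⊢
    refine ⟨hs.mapsTo C Fr hx.1, fun k hk => ?_⟩
    obtain ⟨k', hk', e⟩ : π (s⁻¹ * k * s) ∈ K.map π := by
      obtain ⟨d', hd'⟩ : ∃ d', Fr.InL C s⁻¹ d' := by
        obtain ⟨hd, he, hf⟩ := hs
        refine ⟨d⁻¹, Fr.mem_InL_of C (b := C.σ d) (act_inj s ?_) (act_inj s ?_)⟩
        · rw [act_act_inv, act_smul, he, inv_smul_smul₀ hd]
        · rw [act_act_inv, act_smul, hf, smul_inv_smul₀ ((map_ne_zero C.σ).2 hd)]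
      have := hnorm s⁻¹ d' hd' (π k) (Subgroup.mem_map_of_mem _ hk)
      rwa [map_inv, inv_inv, ← map_inv, ← map_mul, ← map_mul] at this
    obtain ⟨m, hm⟩ := hKpow k' hk'
    obtain ⟨m', hm'⟩ := hKpow k hk
    have hcp : (s⁻¹ * k * s) ^ p ^ m' = 1 := by
      have := conj_pow_eq_one hm' s⁻¹
      rwa [inv_inv] at this
    obtain rfl := eq_of_mk_eq C hn hF p hm hcp e
    have e2 := hx.2 _ hk'
    rw [act_mul, act_mul] at e2
    have e3 := congrArg (act s) e2
    rwa [← hs.P_act C Fr, act_act_inv] at e3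
  have hMb : ∀ i, Fr.b i ∈ M := by
    obtain ⟨i₀, hi₀⟩ : ∃ i, 𝕙 (w₀ : Vn) (Fr.b i) ≠ 0 := by
      by_contra! h0
      exact hw₀ (Subtype.ext (Fr.W_coord C w₀.2 (zero_mem _) fun i => (h0 i).trans (zero_left C _).symm))
    have hw₀M : (w₀ : Vn) ∈ M :=
      (hM _).2 ⟨w₀.2, fun s hs => by rw [← hact' ⟨s, hs⟩, hw₀fix]⟩
    obtain ⟨μ, hμ⟩ := C.ne_one
    have hμ0 : μ ≠ 0 := fun e => hμ (by rw [e, map_zero])
    obtain ⟨s, hs, hsx⟩ := Fr.exists_InL_diag C i₀ hμ0
    have hb₀ : Fr.b i₀ ∈ M := by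
      have := M.sub_mem (hinv s _ hs _ hw₀M) hw₀M
      rw [hsx _ w₀.2, add_sub_cancel_left] at this
      have h1 : (C.σ μ / μ - 1) * 𝕙 (w₀ : Vn) (Fr.b i₀) ≠ 0 :=
        mul_ne_zero (fun e => hμ ((div_eq_one_iff_eq hμ0).1 (sub_eq_zero.1 e))) hi₀
      exact (Submodule.smul_mem_iff M h1).1 this
    intro j
    rcases eq_or_ne i₀ j with rfl | hj
    · exact hb₀
    obtain ⟨s, d, hs, hsj⟩ := Fr.exists_InL_swap C hj
    exact hsj ▸ hinv s d hs _ hb₀
  refine Subgroup.map_mono fun s hs => ⟨hfixe s hs, fun w hw => ⟨𝕙 (act s (Fr.P w)) Fr.f, ?_⟩⟩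
  have hPw : Fr.P w ∈ M := by
    rw [Fr.P_eq_sum]
    exact M.sum_mem fun i _ => M.smul_mem _ (hMb i)
  have e := hPlin (act s (Fr.P w)) (hperp s hs _ (Fr.P_mem C w).1)
  rw [((hM _).1 hPw).2 s hs] at e
  conv_lhs => rw [hPlin w hw, act_add, act_smul, hfixe s hs, e]
  conv_rhs => arg 1; rw [hPlin w hw]
  abel

/-- An automorphism fixing the two points fixes the radical. -/
theorem Frame.map_radQ [Nonempty (Fin k)] {β : MulAut PSUn}
    (he : Rel C β Fr.e Fr.e) : (radQ C Fr.e).map β.toMonoidHom = radQ C Fr.e := by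
  have hie := Fr.iso_e C
  have hle : (radQ C Fr.e).map β.toMonoidHom ≤ radQ C Fr.e := by
    refine Fr.le_radQ C hn hF p _ ((IsPGroup.map (Fr.isPGroup_rad C p) _).map _) ?_ ?_
    · rintro t ⟨-, ⟨u, hu, rfl⟩, e⟩
      have h1 := rel_compat C he (s := u) (t := t) e
      rw [hu.1] at h1
      obtain ⟨a, -, ha⟩ := rel_unique C hn hF p hie (hie.act t) he h1
      exact ⟨a, ha⟩
    · rintro s d ⟨hd, hse, -⟩ x hx
      obtain ⟨x', hx', rfl⟩ := hx
      obtain ⟨s', hs'⟩ := QuotientGroup.mk'_surjective _ (β.symm (π s))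
      have hs'' : β (π s') = π s := by rw [hs', MulEquiv.apply_symm_apply]
      have h1 := rel_compat C he (s := s') (t := s) hs''
      rw [hse] at h1
      have h2 : Rel C β (act s' Fr.e) Fr.e := by
        rw [Rel] at h1 ⊢
        rwa [cenQ_smul C hd] at h1
      obtain ⟨a, ha0, ha⟩ := rel_unique' C hn hF p hie (hie.act s') he h2
      refine ⟨π s' * x' * (π s')⁻¹, ?_, ?_⟩
      · obtain ⟨u, hu, rfl⟩ := hx'
        refine ⟨s' * u * s'⁻¹, ?_, by rw [map_mul, map_mul, map_inv]⟩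
        have := rad_conj C s' hu
        rwa [ha, rad_smul C ha0] at this
      · show β _ = _
        rw [map_mul, map_mul, map_inv, hs'']
        rfl
  exact Subgroup.eq_of_le_of_card_ge hle (Subgroup.card_map_of_injective β.injective).ge

end radical

end Cfsg.Agent.AutPSU
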